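import Mathlib

/-!
# Absolutely irreducible matrix representations over a larger field (helper434)

`m : G →* Matrix ι ι F` spanning the matrix algebra and `τ : F →+* 𝕜`: `mRep m τ` on `ι → 𝕜` is irreducible
(`mRep_irr`), with traces `τ (tr (m g))` (`mRep_trace`); `dual m` : inverse transpose, also spanning.
-/

set_option autoImplicit false
set_option linter.unusedSectionVars false
open Matrix

namespace Cfsg.Agent.H434.MRep

variable {G : Type*} [Group G] {ι : Type*} [Fintype ι] [DecidableEq ι] {F : Type*} [Field F] {𝕜 : Type*} [Field 𝕜]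

/-- the representation of `G` on `ι → 𝕜` -/
def mRep (m : G →* Matrix ι ι F) (τ : F →+* 𝕜) : Representation 𝕜 G (ι → 𝕜) where
  toFun g := Matrix.toLin' ((m g).map τ)
  map_one' := by
    rw [map_one, Matrix.map_one _ (map_zero _) (map_one _), Matrix.toLin'_one]
    rfl
  map_mul' a b := by
    rw [map_mul, Matrix.map_mul, Matrix.toLin'_mul]
    rfl

theorem mRep_apply (m : G →* Matrix ι ι F) (τ : F →+* 𝕜) (g : G) (v : ι → 𝕜) :
    mRep m τ g v = ((m g).map τ) *ᵥ v := by
  change Matrix.toLin' _ v = _
  rw [Matrix.toLin'_apply]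

theorem mRep_trace (m : G →* Matrix ι ι F) (τ : F →+* 𝕜) (g : G) :
    LinearMap.trace 𝕜 (ι → 𝕜) (mRep m τ g) = τ (m g).trace := by
  change LinearMap.trace _ _ (Matrix.toLin' _) = _
  rw [Matrix.trace_toLin'_eq]
  simp [Matrix.trace, map_sum]

theorem mRep_character (m : G →* Matrix ι ι F) (τ : F →+* 𝕜) (g : G) :
    (mRep m τ).character g = τ (m g).trace := mRep_trace m τ g

theorem mRep_irr [Nonempty ι] (m : G →* Matrix ι ι F) (hm : Submodule.span F (Set.range m) = ⊤) (τ : F →+* 𝕜) :
    (mRep m τ).IsIrreducible := by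
  have key : ∀ W : Submodule 𝕜 (ι → 𝕜), (∀ g, ∀ w ∈ W, mRep m τ g w ∈ W) → W = ⊥ ∨ W = ⊤ := by
    intro W hW
    have hall : ∀ M : Matrix ι ι F, ∀ w ∈ W, (M.map τ) *ᵥ w ∈ W := by
      intro M
      have hM : M ∈ Submodule.span F (Set.range m) := by rw [hm]; trivial
      induction hM using Submodule.span_induction with
      | mem x hx =>
        intro w hw
        obtain ⟨g, rfl⟩ := hx
        rw [← mRep_apply]
        exact hW g w hw
      | zero =>
        intro w _
        rw [Matrix.map_zero _ (map_zero _), Matrix.zero_mulVec]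
        exact W.zero_mem
      | add x y _ _ hx hy =>
        intro w hw
        rw [Matrix.map_add _ (map_add _), Matrix.add_mulVec]
        exact W.add_mem (hx w hw) (hy w hw)
      | smul c x _ hx =>
        intro w hw
        have h1 : (c • x).map τ = (τ c) • x.map τ := by
          ext i j
          simp
        rw [h1, Matrix.smul_mulVec]
        exact W.smul_mem _ (hx w hw)
    rw [or_iff_not_imp_left]
    intro hne
    obtain ⟨w, hw, hw0⟩ := (Submodule.ne_bot_iff _).1 hne
    obtain ⟨j, hj⟩ := Function.ne_iff.1 hw0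
    rw [Pi.zero_apply] at hj
    rw [eq_top_iff]
    intro v _
    have h1 : ∀ i, (Pi.single i 1 : ι → 𝕜) ∈ W := by
      intro i
      have h2 := hall (Matrix.single i j (1 : F)) w hw
      have h3 : ((Matrix.single i j (1 : F)).map τ) *ᵥ w = w j • (Pi.single i 1 : ι → 𝕜) := by
        rw [Matrix.map_single, map_one]
        funext k
        rw [Matrix.mulVec, dotProduct, Finset.sum_eq_single j]
        · by_cases hk : k = i
          · subst hk; simp
          · simp [Matrix.single_apply_of_row_ne (Ne.symm hk), hk]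
        · intro l _ hl
          simp [Matrix.single_apply_of_col_ne _ _ (Ne.symm hl)]
        · intro h; exact absurd (Finset.mem_univ _) h
      rw [h3] at h2
      have h4 := W.smul_mem (w j)⁻¹ h2
      rwa [smul_smul, inv_mul_cancel₀ hj, one_smul] at h4
    have h5 : v = ∑ i, v i • (Pi.single i 1 : ι → 𝕜) := by
      ext k
      simp [Finset.sum_apply, Pi.single_apply]
    rw [h5]
    exact W.sum_mem fun i _ => W.smul_mem _ (h1 i)
  have hnt : Nontrivial (Subrepresentation (mRep m τ)) := by
    refine ⟨⊥, ⊤, fun h => ?_⟩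
    have h1 : (⊥ : Submodule 𝕜 (ι → 𝕜)) = ⊤ := congrArg Subrepresentation.toSubmodule h
    exact bot_ne_top h1
  refine @IsSimpleOrder.mk _ _ _ hnt ?_
  intro W
  rcases key W.toSubmodule (fun g w hw => W.apply_mem_toSubmodule g hw) with h | h
  · left
    exact Subrepresentation.toSubmodule_injective h
  · right
    exact Subrepresentation.toSubmodule_injective h

/-- the dual matrix representation -/
def dual (m : G →* Matrix ι ι F) : G →* Matrix ι ι F where
  toFun g := (m g⁻¹)ᵀ
  map_one' := by rw [inv_one, map_one, Matrix.transpose_one]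
  map_mul' a b := by rw [_root_.mul_inv_rev, map_mul, Matrix.transpose_mul]

theorem dual_trace (m : G →* Matrix ι ι F) (g : G) : (dual m g).trace = (m g⁻¹).trace := Matrix.trace_transpose _

theorem dual_span {m : G →* Matrix ι ι F} (hm : Submodule.span F (Set.range m) = ⊤) :
    Submodule.span F (Set.range (dual m)) = ⊤ := by
  have h1 : Set.range (dual m) = (Matrix.transposeLinearEquiv ι ι F F) '' Set.range m := by
    ext x
    constructor
    · rintro ⟨g, rfl⟩
      exact ⟨m g⁻¹, ⟨g⁻¹, rfl⟩, rfl⟩
    · rintro ⟨_, ⟨g, rfl⟩, rfl⟩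
      refine ⟨g⁻¹, ?_⟩
      change (m g⁻¹⁻¹)ᵀ = _
      rw [inv_inv]
      rfl
  rw [h1]
  have h2 := Submodule.map_span ((Matrix.transposeLinearEquiv ι ι F F).toLinearMap) (Set.range m)
  rw [LinearEquiv.coe_toLinearMap] at h2
  rw [← h2, hm, Submodule.map_top, LinearMap.range_eq_top]
  exact (Matrix.transposeLinearEquiv ι ι F F).surjective

end Cfsg.Agent.H434.MRep
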