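import Mathlib
import Cfsg.Prelude.Def_GeometricClasses

/-!
# Extension of quadratic forms along a field embedding, in every characteristic (helper434)

`exists_quadExt` : a non-degenerate quadratic form `Q` on `ι → F` and `τ : F →+* 𝕜` give a non-degenerate quadratic form
on `ι → 𝕜`, fixed by `M.map τ` for every matrix `M` fixing `Q`.
-/

set_option autoImplicit false
set_option linter.unusedSectionVars false
open Matrix Cfsg Cfsg.Geo

namespace Cfsg.Agent.H434.QExt

variable {ι : Type} [Fintype ι] [DecidableEq ι]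

theorem dot_sum {R : Type*} [CommRing R] (A : Matrix ι ι R) (x : ι → R) :
    x ⬝ᵥ (A *ᵥ x) = ∑ p : ι × ι, x p.1 * A p.1 p.2 * x p.2 := by
  rw [Fintype.sum_prod_type]
  simp only [dotProduct, mulVec, Finset.mul_sum, mul_assoc]

theorem alt_zero {R : Type*} [CommRing R] (A : Matrix ι ι R) (h1 : ∀ i, A i i = 0) (h2 : ∀ i j, A i j + A j i = 0)
    (x : ι → R) : x ⬝ᵥ (A *ᵥ x) = 0 := by
  rw [dot_sum]
  refine Finset.sum_involution (fun p _ => (p.2, p.1)) ?_ ?_ ?_ ?_
  · rintro ⟨i, j⟩ _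
    linear_combination (x i * x j) * h2 i j
  · rintro ⟨i, j⟩ _ hne heq
    have hij : j = i := congrArg Prod.fst heq
    subst hij
    apply hne
    simp [h1]
  · rintro p _
    exact Finset.mem_univ _
  · rintro p _
    rfl

theorem zero_alt {R : Type*} [CommRing R] (A : Matrix ι ι R) (h : ∀ x, x ⬝ᵥ (A *ᵥ x) = 0) :
    (∀ i, A i i = 0) ∧ ∀ i j, A i j + A j i = 0 := by
  have h1 : ∀ i, A i i = 0 := by
    intro i
    have := h (Pi.single i 1)
    simpa using this
  refine ⟨h1, fun i j => ?_⟩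
  have h2 := h (Pi.single i 1 + Pi.single j 1)
  rw [mulVec_add, dotProduct_add, add_dotProduct, add_dotProduct] at h2
  simp only [mulVec_single_one, single_one_dotProduct, col_apply] at h2
  rw [h1, h1] at h2
  linear_combination h2

theorem conj_dot {R : Type*} [CommRing R] (T M : Matrix ι ι R) (x : ι → R) :
    x ⬝ᵥ ((Mᵀ * T * M) *ᵥ x) = (M *ᵥ x) ⬝ᵥ (T *ᵥ (M *ᵥ x)) := by
  rw [← mulVec_mulVec, ← mulVec_mulVec, mulVec_transpose, dotProduct_comm, ← dotProduct_mulVec, dotProduct_comm]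

variable {F : Type*} [Field F]

theorem exists_mat {Q : (ι → F) → F} (hQ : IsNondegenerateQuadraticForm Q) :
    ∃ T : Matrix ι ι F, ∀ x, Q x = x ⬝ᵥ (T *ᵥ x) := by
  let q : QuadraticForm F (ι → F) := QuadraticMap.ofPolar Q
    (fun a x => by rw [hQ.smul, pow_two, smul_eq_mul])
    (fun x x' y => hQ.polar_bilinear.add_left x x' y)
    (fun a x y => by rw [hQ.polar_bilinear.smul_left, smul_eq_mul])
  obtain ⟨B, hB⟩ := LinearMap.BilinMap.toQuadraticMap_surjective (R := F) (N := F) (M := ι → F) q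
  refine ⟨LinearMap.toMatrix₂' F B, fun x => ?_⟩
  have h1 : Q x = q x := rfl
  rw [h1, ← hB, LinearMap.BilinMap.toQuadraticMap_apply]
  have h2 : B = Matrix.toLinearMap₂' F (LinearMap.toMatrix₂' F B) := by simp
  conv_lhs => rw [h2]
  rw [Matrix.toLinearMap₂'_apply']

theorem exists_quadExt {𝕜 : Type*} [Field 𝕜] (τ : F →+* 𝕜) {Q : (ι → F) → F} (hQ : IsNondegenerateQuadraticForm Q) :
    ∃ q : QuadraticForm 𝕜 (ι → 𝕜), (∀ u, (∀ w, QuadraticMap.polar q u w = 0) → u = 0) ∧
      ∀ M : Matrix ι ι F, (∀ x, Q (M *ᵥ x) = Q x) → ∀ u, q (M.map τ *ᵥ u) = q u := by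
  obtain ⟨T, hT⟩ := exists_mat hQ
  let q : QuadraticForm 𝕜 (ι → 𝕜) := LinearMap.BilinMap.toQuadraticMap (Matrix.toLinearMap₂' 𝕜 (T.map τ))
  have hq : ∀ u, q u = u ⬝ᵥ (T.map τ *ᵥ u) := by
    intro u
    change (Matrix.toLinearMap₂' 𝕜 (T.map τ)) u u = _
    rw [Matrix.toLinearMap₂'_apply']
  refine ⟨q, ?_, ?_⟩
  · have hpol : ∀ x y, QuadraticMap.polar Q x y = x ⬝ᵥ ((T + Tᵀ) *ᵥ y) := by
      intro x y
      rw [QuadraticMap.polar, hT, hT, hT, mulVec_add, dotProduct_add, add_dotProduct, add_dotProduct, add_mulVec,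
        dotProduct_add, mulVec_transpose, dotProduct_comm x (y ᵥ* T), ← dotProduct_mulVec]
      ring
    have hdet : (T + Tᵀ).det ≠ 0 := by
      intro h0
      obtain ⟨x, hx, hx0⟩ := Matrix.exists_mulVec_eq_zero_iff.2 h0
      obtain ⟨⟨y, hy⟩, -⟩ := hQ.nondegenerate x hx
      apply hy
      rw [hpol, hx0, dotProduct_zero]
    have hpol' : ∀ x y, QuadraticMap.polar q x y = x ⬝ᵥ ((T + Tᵀ).map τ *ᵥ y) := by
      intro x y
      have hm : (T + Tᵀ).map τ = T.map τ + (T.map τ)ᵀ := by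
        rw [Matrix.map_add _ (map_add τ), Matrix.transpose_map]
      rw [QuadraticMap.polar, hq, hq, hq, hm, mulVec_add, dotProduct_add, add_dotProduct, add_dotProduct, add_mulVec,
        dotProduct_add, mulVec_transpose, dotProduct_comm x (y ᵥ* _), ← dotProduct_mulVec]
      ring
    intro u hu
    by_contra hne
    have h1 : u ᵥ* (T + Tᵀ).map τ = 0 := by
      apply dotProduct_eq_zero
      intro w
      rw [← dotProduct_mulVec, ← hpol']
      exact hu w
    have h2 : ((T + Tᵀ).map τ).det = 0 := Matrix.exists_vecMul_eq_zero_iff.1 ⟨u, hne, h1⟩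
    have h3 : ((T + Tᵀ).map τ).det = τ (T + Tᵀ).det := by
      rw [← RingHom.mapMatrix_apply, ← RingHom.map_det]
    rw [h3, map_eq_zero] at h2
    exact hdet h2
  · intro M hM u
    have h1 := zero_alt (Mᵀ * T * M - T) (by
      intro x
      rw [sub_mulVec, dotProduct_sub, ← hT, conj_dot, ← hT, hM, sub_self])
    have h2 := alt_zero ((Mᵀ * T * M - T).map τ) (fun i => by rw [map_apply, h1.1, map_zero])
      (fun i j => by rw [map_apply, map_apply, ← map_add, h1.2, map_zero]) u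
    have hm : (Mᵀ * T * M - T).map τ = (M.map τ)ᵀ * T.map τ * M.map τ - T.map τ := by
      rw [Matrix.map_sub _ (map_sub τ), Matrix.map_mul, Matrix.map_mul, Matrix.transpose_map]
    rw [hm, sub_mulVec, dotProduct_sub, conj_dot] at h2
    rw [hq, hq]
    exact sub_eq_zero.1 h2

end Cfsg.Agent.H434.QExt
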