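import Cfsg.Agent.H434.LD.WForm
import Cfsg.Agent.H434.LD.QExt
import Cfsg.Agent.H434.LD.MRep
import Cfsg.Agent.H62.SpMult
import Cfsg.Agent.H905.PCover
import Cfsg.Agent.H915.LD
import Cfsg.Agent.H912.CrossList

/-!
# `PSp₄(5)` in dimension 12 (helper434; piece T7.c of the low-dimensional hub)

`P ≤ GL(ι, F)` a core (`H915.LD.Core`), `F` finite of characteristic `p ≠ 5`, `P / scalars = PSp₄(5)`
(`H912.Bd.IsS 2 5 (Soc P)`), `card ι = 12` (`12 ≤ card ι` is in `H936.List12`). Then, for every `p ≠ 5` (also `p = 2`, `3`):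

* `sd` : `SD P`; `fixA` : `FixA P`; `not_fixQ` : `¬ FixQ P`;
* `fr` : `Fr P (p^k)` if `p^k = ±1 mod 5`; `not_fr` : not if `p^k = ±2 mod 5`;
* `card_cases` : `|F| = p` and `Fr P p` if `p = ±1 mod 5`; `|F| = p²`, `Fr P (p²)`, `¬ Fr P p` if `p = ±2 mod 5`
  (`card_eq_p`, `card_eq_sq`);
* `neg_one_mem` : `-1 ∈ P`; `scalar_cases` : the scalars of `P` are `± 1`; `card_scalars` : `|P ∩ scalars| = 2` (`p ≠ 2`);
* `exists_cover` : a surjection `Sp₄(5) → P` with preimage of the scalars the centre.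

Proof: uniqueness of the two representations of degree 12 of `Sp₄(5)` over any field of characteristic `≠ 5` with
a fifth root of unity (`char_eq_tr`): port of helper162's Weil representation files to any coefficient field
(`WWt`, `WRank`, `WStab`, `WFam`, `WUniq`, `WOrb`: `Sp_2n(q)`, rank one weights), `WTwelve` (the axis relations).
-/

set_option autoImplicit false
set_option linter.unusedSectionVars false
open Matrix Module Representation Cfsg.Agent.H162.Weil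

namespace Cfsg.Agent.H434.PSp45

open Cfsg Cfsg.Geo Cfsg.Agent.H915.LD Cfsg.Agent.H434.MRep Cfsg.Agent.H434.WK

universe u v

/-! ### Two representations of degree 12 -/

section abs

variable {𝕜 : Type*} [Field 𝕜] [hq : Fact ((Fintype.card (ZMod 5) : 𝕜) ≠ 0)] {V : Type*} [AddCommGroup V]
  [Module 𝕜 V] [FiniteDimensional 𝕜 V] {ρ : Representation 𝕜 (Sp 2 (ZMod 5)) V} {ψ : AddChar (ZMod 5) 𝕜}

theorem two_zmod : (2 : ZMod 5) ≠ 0 := by decide

theorem seed12 (hψ : ψ.IsPrimitive) (hρ : ρ.IsIrreducible) (hd : finrank 𝕜 V = 12) :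
    (∃ v, Seed ρ ψ 1 0 v) ∨ (∃ v, Seed ρ ψ 2 0 v) := by
  have hR : RkOne ρ ψ := by
    apply rkOne_of_lt hψ two_zmod
    · rw [ZMod.card]; norm_num
    · norm_num
    · rw [ZMod.card, hd]; norm_num
  obtain ⟨lam, v, hs⟩ := exists_seed hψ two_zmod 0 hρ hR (by rw [hd]; norm_num)
  exact seed_cases hs

theorem tr12 (hψ : ψ.IsPrimitive) (hρ : ρ.IsIrreducible) (hd : finrank 𝕜 V = 12) :
    ((∃ v, Seed ρ ψ 1 0 v) ∧ LinearMap.trace 𝕜 V (ρ (uu (sD 0 1))) = 2 + 5 * (ψ 1 + ψ 1 ^ 4)) ∨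
    ((∃ v, Seed ρ ψ 2 0 v) ∧ LinearMap.trace 𝕜 V (ρ (uu (sD 0 1))) = 2 + 5 * (ψ 1 ^ 2 + ψ 1 ^ 3)) := by
  rcases seed12 hψ hρ hd with ⟨v, hs⟩ | ⟨v, hs⟩
  · exact Or.inl ⟨⟨v, hs⟩, tr_z hs hd⟩
  · refine Or.inr ⟨⟨v, hs⟩, ?_⟩
    rw [tr_z hs hd]
    have h1 : ψ 2 = ψ 1 ^ 2 := by
      rw [← psi_nat]
      congr 1
    have h2 := psi_pow_five (ψ := ψ) 1
    rw [h1]
    linear_combination (5 * ψ 1 ^ 3) * h2

/-- **Equal traces on a transvection give equal characters.** -/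
theorem char_eq_tr {V' : Type*} [AddCommGroup V'] [Module 𝕜 V'] [FiniteDimensional 𝕜 V']
    {σ : Representation 𝕜 (Sp 2 (ZMod 5)) V'} (hψ : ψ.IsPrimitive) (hρ : ρ.IsIrreducible) (hσ : σ.IsIrreducible)
    (hd : finrank 𝕜 V = 12) (hd' : finrank 𝕜 V' = 12)
    (htr : LinearMap.trace 𝕜 V (ρ (uu (sD 0 1))) = LinearMap.trace 𝕜 V' (σ (uu (sD 0 1)))) :
    ρ.character = σ.character := by
  have hne := tr_ne (five_ne (𝕜 := 𝕜)) (psi_sum hψ (lam := 1) (by decide))
  rcases tr12 hψ hρ hd with ⟨⟨v, hs⟩, h1⟩ | ⟨⟨v, hs⟩, h1⟩ <;>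
    rcases tr12 hψ hσ hd' with ⟨⟨v', hs'⟩, h2⟩ | ⟨⟨v', hs'⟩, h2⟩
  · exact char_eq12 hs hs' hρ hσ hd hd'
  · exact absurd (by rw [← h1, ← h2, htr]) hne
  · exact absurd (by rw [← h1, ← h2, htr]) hne.symm
  · exact char_eq12 hs hs' hρ hσ hd hd'

/-- a transvection and its inverse have the same trace -/
theorem tr_inv (g : Sp 2 (ZMod 5)) (hg : g = uu (sD 0 1)) :
    LinearMap.trace 𝕜 V (ρ g⁻¹) = LinearMap.trace 𝕜 V (ρ g) := by
  have h1 : g⁻¹ = mm (ht 0 u2) * g * (mm (ht 0 u2))⁻¹ := by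
    rw [hg, mm_mul_uu, mul_inv_cancel_right, ← uu_neg]
    congr 1
    decide
  rw [h1, map_mul, LinearMap.trace_mul_comm, ← map_mul, ← mul_assoc, inv_mul_cancel, one_mul]

end abs

/-! ### `Sp₄` over a field of order 5 -/

section transport

variable {K L : Type*} [Field K] [Field L] {n : ℕ}

/-- `Sp` and a field embedding -/
def spMap (τ : K →+* L) : Sp n K →* Sp n L where
  toFun g := ⟨g.1.map τ, by
    have h := g.2
    rw [SymplecticGroup.mem_iff] at h ⊢
    have h1 := congrArg (fun M : Matrix (Fin n ⊕ Fin n) (Fin n ⊕ Fin n) K => M.map τ) h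
    have hJ : (J (Fin n) K).map τ = J (Fin n) L := by
      ext i j
      rcases i with i | i <;> rcases j with j | j <;> simp [J, Matrix.one_apply]
    simp only [Matrix.map_mul, hJ] at h1
    rw [Matrix.transpose_map] at h1
    exact h1⟩
  map_one' := Subtype.ext (Matrix.map_one _ (map_zero τ) (map_one τ))
  map_mul' _ _ := Subtype.ext Matrix.map_mul

theorem spMap_coe (τ : K →+* L) (g : Sp n K) : (spMap τ g).1 = g.1.map τ := rfl

theorem spMap_bijective (τ : K ≃+* L) : Function.Bijective (spMap (n := n) (τ : K →+* L)) := by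
  constructor
  · intro a b h
    have h1 := congrArg Subtype.val h
    apply Subtype.ext
    ext i j
    exact τ.injective (congrFun (congrFun h1 i) j)
  · intro g
    refine ⟨spMap (τ.symm : L →+* K) g, ?_⟩
    apply Subtype.ext
    ext i j
    exact τ.apply_symm_apply _

theorem exists_proj {K : Type v} [Field K] [Fintype K] (hK : Fintype.card K = 5) :
    ∃ π : Sp 2 (ZMod 5) →* PSp 2 K, Function.Surjective π ∧ ∀ g, π g = 1 ↔ g ∈ Subgroup.center (Sp 2 (ZMod 5)) := by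
  let τ : ZMod 5 ≃+* K := ZMod.ringEquivOfPrime K (by norm_num) hK
  have hb := spMap_bijective (n := 2) τ
  refine ⟨(QuotientGroup.mk' (Subgroup.center (Sp 2 K))).comp (spMap (τ : ZMod 5 →+* K)),
    (QuotientGroup.mk'_surjective _).comp hb.2, fun g => ?_⟩
  rw [MonoidHom.comp_apply, QuotientGroup.mk'_apply, QuotientGroup.eq_one_iff, Subgroup.mem_center_iff,
    Subgroup.mem_center_iff]
  constructor
  · intro h x
    apply hb.1
    rw [map_mul, map_mul]
    exact h _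
  · intro h x
    obtain ⟨y, rfl⟩ := hb.2 x
    rw [← map_mul, ← map_mul, h y]

end transport

/-! ### The core -/

section core

variable {ι : Type} [Fintype ι] [DecidableEq ι] {F : Type u} [Field F] [Finite F] {P : Subgroup (GL ι F)}

/-- **The cover.** -/
theorem exists_cover (hC : Core P) (hT : H912.Bd.IsS 2 5 (Soc P)) (hn : Fintype.card ι = 12) :
    ∃ θ : Sp 2 (ZMod 5) →* P, Function.Surjective θ ∧ ∀ g, toSoc P (θ g) = 1 ↔ g ∈ Subgroup.center (Sp 2 (ZMod 5)) := by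
  obtain ⟨K, iF, iT, hK, ⟨e⟩⟩ := hT
  obtain ⟨π, hπ, hπk⟩ := exists_proj hK
  have hker := ker_comp e
  have h5 : (Nat.card (e.toMonoidHom.comp (toSoc P)).ker).Coprime 5 := by
    rw [hker, Nat.coprime_comm, (by norm_num : Nat.Prime 5).coprime_iff_not_dvd]
    intro hd
    obtain ⟨z, hz⟩ := exists_prime_orderOf_dvd_card' (G := (scalars ι F).subgroupOf P) 5 hd
    have h1 := hC.pow_card z.2
    rw [hn] at h1
    have h2 : z ^ 12 = 1 := Subtype.ext h1
    have h3 := orderOf_dvd_of_pow_eq_one h2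
    rw [hz] at h3
    norm_num at h3
  obtain ⟨θ, h1, h2⟩ := H905.PCover.exists_hom_of_noPCov (G := Sp 2 (ZMod 5)) (p := 5)
    (H62.SpMult.perfect_Sp (by norm_num) (fun _ => by rw [ZMod.card]; norm_num))
    (fun r hr _ => H62.SpMult.noPCov_Sp (by norm_num) (fun _ => by rw [ZMod.card]; norm_num) (by norm_num) hr)
    hπ (fun g hg => (hπk g).1 hg) hC.commutator_top
    (f := e.toMonoidHom.comp (toSoc P)) (e.surjective.comp (toSoc_surjective P))
    (by rw [hker]; exact scalars_le_center) (by norm_num) h5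
  refine ⟨θ, h1, fun g => ?_⟩
  rw [← hπk, ← h2]
  change _ ↔ e (toSoc P (θ g)) = 1
  rw [e.map_eq_one_iff]

/-- the matrices -/
def mm' (θ : Sp 2 (ZMod 5) →* P) : Sp 2 (ZMod 5) →* Matrix ι ι F :=
  (Units.coeHom (Matrix ι ι F)).comp (P.subtype.comp θ)

theorem mm'_apply (θ : Sp 2 (ZMod 5) →* P) (g : Sp 2 (ZMod 5)) : mm' θ g = ((θ g : GL ι F) : Matrix ι ι F) := rfl

theorem mm'_span (hC : Core P) {θ : Sp 2 (ZMod 5) →* P} (hθ : Function.Surjective θ) :
    Submodule.span F (Set.range (mm' θ)) = ⊤ := by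
  rw [← H920.span_eq_top hC.absIrred]
  congr 1
  ext x
  constructor
  · rintro ⟨g, rfl⟩
    exact ⟨θ g, (θ g).2, rfl⟩
  · rintro ⟨y, hy, rfl⟩
    obtain ⟨g, hg⟩ := hθ ⟨y, hy⟩
    refine ⟨g, ?_⟩
    rw [mm'_apply, hg]

variable (p : ℕ) [hp : Fact p.Prime] [CharP F p]

include p in
theorem fact_card (h5 : p ≠ 5) : Fact ((Fintype.card (ZMod 5) : AlgebraicClosure F) ≠ 0) := by
  constructor
  rw [ZMod.card]
  have : CharP (AlgebraicClosure F) p := charP_of_injective_algebraMap (algebraMap F (AlgebraicClosure F)).injective p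
  intro h
  have h1 := (CharP.cast_eq_zero_iff (AlgebraicClosure F) p 5).1 h
  exact h5 ((Nat.prime_dvd_prime_iff_eq hp.out (by norm_num)).1 h1)

include p in
theorem exists_psi (h5 : p ≠ 5) : ∃ ψ : AddChar (ZMod 5) (AlgebraicClosure F), ψ.IsPrimitive := by
  have h := (fact_card (F := F) p h5).out
  rw [ZMod.card] at h
  have : NeZero ((5 : ℕ) : AlgebraicClosure F) := ⟨h⟩
  obtain ⟨ζ, hζ⟩ := HasEnoughRootsOfUnity.exists_primitiveRoot (AlgebraicClosure F) 5
  exact ⟨_, AddChar.zmodChar_primitive_of_primitive_root 5 hζ⟩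

theorem fin12 (hn : Fintype.card ι = 12) : finrank (AlgebraicClosure F) (ι → AlgebraicClosure F) = 12 := by
  rw [Module.finrank_fintype_fun_eq_card, hn]

/-- the character is determined by the trace of a transvection -/
theorem trace_eq (h5 : p ≠ 5) (hn : Fintype.card ι = 12) {m m' : Sp 2 (ZMod 5) →* Matrix ι ι F}
    (hm : Submodule.span F (Set.range m) = ⊤) (hm' : Submodule.span F (Set.range m') = ⊤)
    (τ τ' : F →+* AlgebraicClosure F) (h : τ (m (uu (sD 0 1))).trace = τ' (m' (uu (sD 0 1))).trace)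
    (g : Sp 2 (ZMod 5)) : τ (m g).trace = τ' (m' g).trace := by
  have := fact_card (F := F) p h5
  obtain ⟨ψ, hψ⟩ := exists_psi (F := F) p h5
  have hne : Nonempty ι := by
    rw [← Fintype.card_pos_iff, hn]; norm_num
  have h1 := char_eq_tr hψ (mRep_irr m hm τ) (mRep_irr m' hm' τ') (fin12 hn) (fin12 hn) (by
    rw [mRep_trace, mRep_trace, h])
  have h2 := congrFun h1 g
  rwa [mRep_character, mRep_character] at h2

theorem ac_trace_inj {a b : F} (h : algebraMap F (AlgebraicClosure F) a = algebraMap F (AlgebraicClosure F) b) : a = b :=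
  (algebraMap F (AlgebraicClosure F)).injective h

include p in
/-- **`P` is self-dual.** -/
theorem sd (hC : Core P) (hT : H912.Bd.IsS 2 5 (Soc P)) (h5 : p ≠ 5) (hn : Fintype.card ι = 12) : SD P := by
  obtain ⟨θ, hθ, -⟩ := exists_cover hC hT hn
  have hfc := fact_card (F := F) p h5
  have hm := mm'_span hC hθ
  intro g hg
  obtain ⟨x, hx⟩ := hθ ⟨g, hg⟩
  have h1 := trace_eq p h5 hn hm (dual_span hm) (algebraMap F (AlgebraicClosure F)) (algebraMap F (AlgebraicClosure F)) (by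
    rw [dual_trace, ← mRep_trace, ← mRep_trace, tr_inv _ rfl]) x
  rw [dual_trace, mm'_apply, mm'_apply, map_inv, hx] at h1
  exact (ac_trace_inj h1).symm

theorem frob_aux {𝕜 : Type*} [Field 𝕜] (p : ℕ) [Fact p.Prime] [CharP 𝕜 p] (k : ℕ) (a b : 𝕜) :
    (2 + 5 * (a + b)) ^ p ^ k = 2 + 5 * (a ^ p ^ k + b ^ p ^ k) := by
  have h : iterateFrobenius 𝕜 p k (2 + 5 * (a + b)) = 2 + 5 * (iterateFrobenius 𝕜 p k a + iterateFrobenius 𝕜 p k b) := by
    rw [map_add, map_mul, map_add, map_ofNat, map_ofNat]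
  rwa [iterateFrobenius_def, iterateFrobenius_def, iterateFrobenius_def] at h

theorem pow_red {𝕜 : Type*} [Field 𝕜] {μ : 𝕜} (h : μ ^ 5 = 1) {a b : ℕ} (hab : a % 5 = b % 5) : μ ^ a = μ ^ b := by
  rw [← Nat.div_add_mod a 5, ← Nat.div_add_mod b 5, pow_add, pow_add, pow_mul, pow_mul, h, one_pow, one_pow, hab]

/-- the Frobenius on the trace of a transvection -/
theorem tr_frob (hC : Core P) {θ : Sp 2 (ZMod 5) →* P} (hθ : Function.Surjective θ) (h5 : p ≠ 5)
    (hn : Fintype.card ι = 12) (k : ℕ) :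
    ((p ^ k % 5 = 1 ∨ p ^ k % 5 = 4) → (mm' θ (uu (sD 0 1))).trace ^ p ^ k = (mm' θ (uu (sD 0 1))).trace) ∧
    ((p ^ k % 5 = 2 ∨ p ^ k % 5 = 3) → (mm' θ (uu (sD 0 1))).trace ^ p ^ k ≠ (mm' θ (uu (sD 0 1))).trace) := by
  have hfc := fact_card (F := F) p h5
  obtain ⟨ψ, hψ⟩ := exists_psi (F := F) p h5
  have hm := mm'_span hC hθ
  have hne : Nonempty ι := by
    rw [← Fintype.card_pos_iff, hn]; norm_num
  have : CharP (AlgebraicClosure F) p := charP_of_injective_algebraMap (algebraMap F (AlgebraicClosure F)).injective p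
  have hμ5 := psi_pow_five (ψ := ψ) 1
  have hsum := psi_sum hψ (lam := 1) (by decide)
  have htn := tr_ne (five_ne (𝕜 := AlgebraicClosure F)) hsum
  have h1 := tr12 hψ (mRep_irr (mm' θ) hm (algebraMap F (AlgebraicClosure F))) (fin12 hn)
  rw [mRep_trace] at h1
  have h2 : ∀ a : F, algebraMap F (AlgebraicClosure F) (a ^ p ^ k) = (algebraMap F (AlgebraicClosure F) a) ^ p ^ k :=
    fun a => map_pow _ _ _
  constructor
  · intro hk
    apply ac_trace_inj
    rw [h2]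
    rcases h1 with ⟨-, h1⟩ | ⟨-, h1⟩ <;> rw [h1, frob_aux] <;> simp only [← pow_mul] <;> rcases hk with hk | hk
    · rw [pow_red hμ5 (a := p ^ k) (b := 1) (by omega), pow_red hμ5 (a := 4 * p ^ k) (b := 4) (by omega), pow_one]
    · rw [pow_red hμ5 (a := p ^ k) (b := 4) (by omega), pow_red hμ5 (a := 4 * p ^ k) (b := 1) (by omega), pow_one,
        add_comm (ψ 1 ^ 4)]
    · rw [pow_red hμ5 (a := 2 * p ^ k) (b := 2) (by omega), pow_red hμ5 (a := 3 * p ^ k) (b := 3) (by omega)]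
    · rw [pow_red hμ5 (a := 2 * p ^ k) (b := 3) (by omega), pow_red hμ5 (a := 3 * p ^ k) (b := 2) (by omega),
        add_comm (ψ 1 ^ 3)]
  · intro hk h
    have h3 := congrArg (algebraMap F (AlgebraicClosure F)) h
    rw [h2] at h3
    rcases h1 with ⟨-, h1⟩ | ⟨-, h1⟩ <;> rw [h1, frob_aux] at h3 <;> simp only [← pow_mul] at h3 <;>
      rcases hk with hk | hk
    · rw [pow_red hμ5 (a := p ^ k) (b := 2) (by omega), pow_red hμ5 (a := 4 * p ^ k) (b := 3) (by omega)] at h3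
      exact htn h3.symm
    · rw [pow_red hμ5 (a := p ^ k) (b := 3) (by omega), pow_red hμ5 (a := 4 * p ^ k) (b := 2) (by omega),
        add_comm (ψ 1 ^ 3)] at h3
      exact htn h3.symm
    · rw [pow_red hμ5 (a := 2 * p ^ k) (b := 4) (by omega), pow_red hμ5 (a := 3 * p ^ k) (b := 1) (by omega), pow_one,
        add_comm (ψ 1 ^ 4)] at h3
      exact htn h3
    · rw [pow_red hμ5 (a := 2 * p ^ k) (b := 1) (by omega), pow_red hμ5 (a := 3 * p ^ k) (b := 4) (by omega),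
        pow_one] at h3
      exact htn h3

/-- **`Fr P (p^k)` if `p^k = ±1 mod 5`.** -/
theorem fr (hC : Core P) (hT : H912.Bd.IsS 2 5 (Soc P)) (h5 : p ≠ 5) (hn : Fintype.card ι = 12) {k : ℕ}
    (hk : p ^ k % 5 = 1 ∨ p ^ k % 5 = 4) : Fr P (p ^ k) := by
  obtain ⟨θ, hθ, -⟩ := exists_cover hC hT hn
  have hm := mm'_span hC hθ
  intro g hg
  obtain ⟨x, hx⟩ := hθ ⟨g, hg⟩
  have h1 := trace_eq p h5 hn hm hm (algebraMap F (AlgebraicClosure F))
    ((algebraMap F (AlgebraicClosure F)).comp (iterateFrobenius F p k)) (by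
    rw [RingHom.comp_apply, iterateFrobenius_def, (tr_frob p hC hθ h5 hn k).1 hk]) x
  rw [RingHom.comp_apply, iterateFrobenius_def, mm'_apply, hx] at h1
  exact (ac_trace_inj h1).symm

theorem not_fr (hC : Core P) (hT : H912.Bd.IsS 2 5 (Soc P)) (h5 : p ≠ 5) (hn : Fintype.card ι = 12) {k : ℕ}
    (hk : p ^ k % 5 = 2 ∨ p ^ k % 5 = 3) : ¬ Fr P (p ^ k) := by
  obtain ⟨θ, hθ, -⟩ := exists_cover hC hT hn
  intro h
  exact (tr_frob p hC hθ h5 hn k).2 hk (h _ (θ (uu (sD 0 1))).2)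

theorem mod_five (h5 : p ≠ 5) : p % 5 = 1 ∨ p % 5 = 2 ∨ p % 5 = 3 ∨ p % 5 = 4 := by
  have h1 : p % 5 ≠ 0 := by
    intro h
    exact h5 ((Nat.prime_dvd_prime_iff_eq (by norm_num) hp.out).1 (Nat.dvd_of_mod_eq_zero h)).symm
  omega

/-- `|F| = p` if `p = ±1 mod 5` -/
theorem card_eq_p [Fintype F] (hC : Core P) (hT : H912.Bd.IsS 2 5 (Soc P)) (hn : Fintype.card ι = 12)
    (hk : p % 5 = 1 ∨ p % 5 = 4) : Fintype.card F = p := by
  apply hC.card_eq p
  have h1 := fr p hC hT (by rintro rfl; omega) hn (k := 1) (by rwa [pow_one])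
  rwa [pow_one] at h1

/-- `|F| = p²` if `p = ±2 mod 5` -/
theorem card_eq_sq [Fintype F] (hC : Core P) (hT : H912.Bd.IsS 2 5 (Soc P)) (hn : Fintype.card ι = 12)
    (hk : p % 5 = 2 ∨ p % 5 = 3) : Fintype.card F = p ^ 2 := by
  have h5 : p ≠ 5 := by rintro rfl; omega
  have hsq : p ^ 2 % 5 = 4 := by
    rw [Nat.pow_mod]
    rcases hk with h | h <;> rw [h]
  have h1 := hC.card_le p (k := 2) (by norm_num) (fr p hC hT h5 hn (k := 2) (Or.inr hsq))
  have h2 := not_fr p hC hT h5 hn (k := 1) (by rwa [pow_one])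
  obtain ⟨n, hpr, hcard⟩ := FiniteField.card F p
  rw [hcard] at h1 ⊢
  have h3 : (n : ℕ) ≤ 2 := (Nat.pow_le_pow_iff_right hp.out.one_lt).1 h1
  have h4 : (n : ℕ) ≠ 1 := by
    intro h
    apply h2
    intro g _
    rw [pow_one]
    have h6 := FiniteField.pow_card (tr g)
    rwa [hcard, h, pow_one] at h6
  have h6 : (n : ℕ) = 2 := by
    have := n.pos
    omega
  rw [h6]

include p in
/-- the central element acts as `-1` -/
theorem neg_one_eq (hC : Core P) {θ : Sp 2 (ZMod 5) →* P} (hθ : Function.Surjective θ) (h5 : p ≠ 5)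
    (hn : Fintype.card ι = 12) : ((θ (mm (-1 : GL (Fin 2) (ZMod 5))) : P) : GL ι F) = -1 := by
  have hfc := fact_card (F := F) p h5
  obtain ⟨ψ, hψ⟩ := exists_psi (F := F) p h5
  have hm := mm'_span hC hθ
  have hne : Nonempty ι := by
    rw [← Fintype.card_pos_iff, hn]; norm_num
  set τ := algebraMap F (AlgebraicClosure F) with hτ
  have hirr := mRep_irr (mm' θ) hm τ
  have key : ∀ u, mRep (mm' θ) τ (mm (-1 : GL (Fin 2) (ZMod 5))) u = - u := by
    obtain ⟨ε, hε, hu⟩ := exists_parity hirr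
    obtain ⟨lam, v, hs⟩ : ∃ lam v, Seed (mRep (mm' θ) τ) ψ lam 0 v := by
      rcases seed12 hψ hirr (fin12 hn) with ⟨v, h⟩ | ⟨v, h⟩
      · exact ⟨1, v, h⟩
      · exact ⟨2, v, h⟩
    have h1 := (wmat' hs hirr (fin12 hn) ij2).1 (Pi.single 0 1)
    rw [ff_neg hs, hu] at h1
    have h2 : (ε + 1) • ff (mRep (mm' θ) τ) ψ lam v (Pi.single 0 1) = 0 := by
      rw [add_smul, one_smul, h1, neg_add_cancel]
    have h3 : ε = -1 := by
      rcases smul_eq_zero.1 h2 with h | h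
      · exact eq_neg_of_add_eq_zero_left h
      · exact absurd h (ff_ne hs (X12_ne (single_mem1 0)))
    intro u
    rw [hu, h3, neg_one_smul]
  apply Units.ext
  rw [Units.val_neg, Units.val_one, ← mm'_apply]
  ext i j
  apply (algebraMap F (AlgebraicClosure F)).injective
  have h1 := congrFun (key (Pi.single j 1)) i
  rw [mRep_apply, Matrix.mulVec_single_one, Matrix.col_apply, Matrix.map_apply] at h1
  rw [← hτ, h1, Matrix.neg_apply, map_neg, Pi.neg_apply]
  by_cases hij : i = j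
  · subst hij; simp
  · rw [Pi.single_eq_of_ne hij, Matrix.one_apply_ne hij, map_zero]

include p in
/-- `-1 ∈ P` -/
theorem neg_one_mem (hC : Core P) (hT : H912.Bd.IsS 2 5 (Soc P)) (h5 : p ≠ 5) (hn : Fintype.card ι = 12) :
    (-1 : GL ι F) ∈ P := by
  obtain ⟨θ, hθ, -⟩ := exists_cover hC hT hn
  rw [← neg_one_eq p hC hθ h5 hn]
  exact (θ _).2

include p in
/-- **The scalars in `P` are `± 1`.** -/
theorem scalar_cases (hC : Core P) (hT : H912.Bd.IsS 2 5 (Soc P)) (h5 : p ≠ 5) (hn : Fintype.card ι = 12) {z : GL ι F}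
    (hz : z ∈ P) (hz' : z ∈ scalars ι F) : z = 1 ∨ z = -1 := by
  obtain ⟨θ, hθ, hθc⟩ := exists_cover hC hT hn
  obtain ⟨x, hx⟩ := hθ ⟨z, hz⟩
  have h1 : toSoc P (θ x) = 1 := by
    rw [hx, ← MonoidHom.mem_ker, ker_toSoc]
    exact hz'
  rw [hθc, LieClassical.SympCenter.mem_center_iff] at h1
  obtain ⟨a, ha⟩ := h1
  have h2 : a * a = 1 := LieClassical.SympCenter.sq_eq_one_of_smul_mem (m := 2) (by norm_num) (by
    rw [← ha]; exact x.2)
  rcases mul_self_eq_one_iff.1 h2 with h | h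
  · left
    have h3 : x = 1 := by
      apply Subtype.ext
      rw [ha, h, one_smul]
      rfl
    rw [h3, map_one] at hx
    exact (congrArg Subtype.val hx).symm
  · right
    have h3 : x = mm (-1 : GL (Fin 2) (ZMod 5)) := by
      apply Subtype.ext
      rw [ha, h, mm_coe]
      have h4 : ((-1 : GL (Fin 2) (ZMod 5))⁻¹ : GL (Fin 2) (ZMod 5)) = -1 := by simp
      rw [h4, Units.val_neg, Units.val_one, Matrix.transpose_neg, Matrix.transpose_one, ← Matrix.fromBlocks_one,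
        neg_one_smul, Matrix.fromBlocks_neg, neg_zero]
    rw [← neg_one_eq p hC hθ h5 hn, ← h3, hx]

include p in
/-- for odd `p` : `|P ∩ scalars| = 2` -/
theorem card_scalars (hC : Core P) (hT : H912.Bd.IsS 2 5 (Soc P)) (h5 : p ≠ 5) (h2 : p ≠ 2)
    (hn : Fintype.card ι = 12) : Nat.card ((scalars ι F).subgroupOf P) = 2 := by
  have hne : Nonempty ι := by
    rw [← Fintype.card_pos_iff, hn]; norm_num
  have hF2 : (2 : F) ≠ 0 := by
    intro h
    have h1 := (CharP.cast_eq_zero_iff F p 2).1 (by exact_mod_cast h)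
    exact h2 ((Nat.prime_dvd_prime_iff_eq hp.out Nat.prime_two).1 h1)
  have h1 : (-1 : GL ι F) ≠ 1 := by
    intro h
    obtain ⟨i⟩ := hne
    have h3 : ((-1 : GL ι F) : Matrix ι ι F) i i = ((1 : GL ι F) : Matrix ι ι F) i i := by rw [h]
    simp only [Units.val_neg, Units.val_one, Matrix.neg_apply, Matrix.one_apply_eq] at h3
    apply hF2
    linear_combination -h3
  have hm := neg_one_mem p hC hT h5 hn
  have hs : (-1 : GL ι F) ∈ scalars ι F := by
    rw [mem_scalars_iff]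
    refine ⟨(-1 : Fˣ), ?_⟩
    ext i j
    simp only [Units.val_neg, Units.val_one, Matrix.neg_apply, neg_one_smul]
  rw [Nat.card_eq_two_iff]
  refine ⟨1, ⟨⟨-1, hm⟩, hs⟩, ?_, ?_⟩
  · intro h
    exact h1 (congrArg (fun x : (scalars ι F).subgroupOf P => ((x : P) : GL ι F)) h).symm
  · ext x
    simp only [Set.mem_insert_iff, Set.mem_singleton_iff, Set.mem_univ, iff_true]
    rcases scalar_cases p hC hT h5 hn x.1.2 x.2 with h | h
    · left
      exact Subtype.ext (Subtype.ext h)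
    · right
      exact Subtype.ext (Subtype.ext h)

include p in
/-- **no invariant quadratic form** -/
theorem not_fixQ (hC : Core P) (hT : H912.Bd.IsS 2 5 (Soc P)) (h5 : p ≠ 5) (hn : Fintype.card ι = 12) : ¬ FixQ P := by
  rintro ⟨Q, hQ, hfix⟩
  obtain ⟨θ, hθ, -⟩ := exists_cover hC hT hn
  have hfc := fact_card (F := F) p h5
  obtain ⟨ψ, hψ⟩ := exists_psi (F := F) p h5
  have hm := mm'_span hC hθ
  have hne : Nonempty ι := by
    rw [← Fintype.card_pos_iff, hn]; norm_num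
  have hirr := mRep_irr (mm' θ) hm (algebraMap F (AlgebraicClosure F))
  obtain ⟨q, hnd, hinv⟩ := QExt.exists_quadExt (algebraMap F (AlgebraicClosure F)) hQ
  obtain ⟨lam, v, hs⟩ : ∃ lam v, Seed (mRep (mm' θ) (algebraMap F (AlgebraicClosure F))) ψ lam 0 v := by
    rcases seed12 hψ hirr (fin12 hn) with ⟨v, h⟩ | ⟨v, h⟩
    · exact ⟨1, v, h⟩
    · exact ⟨2, v, h⟩
  refine not_quad hs hirr (fin12 hn) q (fun g u => ?_) hnd
  rw [mRep_apply]
  apply hinv
  intro x
  exact hfix _ ⟨θ g, (θ g).2, rfl⟩ x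

include p in
/-- **`P` fixes an alternating form.** -/
theorem fixA (hC : Core P) (hT : H912.Bd.IsS 2 5 (Soc P)) (h5 : p ≠ 5) (hn : Fintype.card ι = 12) : FixA P :=
  (hC.forms_of_sd (sd p hC hT h5 hn)).resolve_left (not_fixQ p hC hT h5 hn)

/-- the field, all `p ≠ 5` -/
theorem card_cases [Fintype F] (hC : Core P) (hT : H912.Bd.IsS 2 5 (Soc P)) (h5 : p ≠ 5) (hn : Fintype.card ι = 12) :
    ((p % 5 = 1 ∨ p % 5 = 4) ∧ Fintype.card F = p ∧ Fr P p) ∨
    ((p % 5 = 2 ∨ p % 5 = 3) ∧ Fintype.card F = p ^ 2 ∧ Fr P (p ^ 2) ∧ ¬ Fr P p) := by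
  rcases (by have := mod_five p h5; omega : (p % 5 = 1 ∨ p % 5 = 4) ∨ (p % 5 = 2 ∨ p % 5 = 3)) with h | h
  · left
    refine ⟨h, card_eq_p p hC hT hn h, ?_⟩
    have h1 := fr p hC hT h5 hn (k := 1) (by rwa [pow_one])
    rwa [pow_one] at h1
  · right
    refine ⟨h, card_eq_sq p hC hT hn h, fr p hC hT h5 hn (k := 2) (Or.inr ?_), ?_⟩
    · rw [Nat.pow_mod]
      rcases h with h | h <;> rw [h]
    · have h1 := not_fr p hC hT h5 hn (k := 1) (by rwa [pow_one])
      rwa [pow_one] at h1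

end core

end Cfsg.Agent.H434.PSp45
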