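import Cfsg.Agent.H434.LD.WRep
import Cfsg.Agent.H464.Sl2Basic
import Mathlib.RingTheory.Trace.Basic

/-!
# `SL₂(K)` in `Sp_2n(k)`, `n = [K : k]` (helper434)

`e` a basis of `K / k`, `M` the regular matrices, `G` the matrix of the trace form. `jj : SL₂(K) → Sp_2n(k)`.
-/

set_option autoImplicit false
set_option linter.unusedSectionVars false
open Matrix Module Cfsg.Agent.H162.Weil

namespace Cfsg.Agent.H434.K2

variable {k : Type*} [Field k] {K : Type*} [Field K] [Algebra k K] {n : ℕ} (e : Basis (Fin n) k K)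

/-- regular matrices -/
noncomputable def M (a : K) : Matrix (Fin n) (Fin n) k := Algebra.leftMulMatrix e a

theorem M_add (a b : K) : M e (a + b) = M e a + M e b := map_add _ _ _
theorem M_mul (a b : K) : M e (a * b) = M e a * M e b := map_mul _ _ _
theorem M_sub (a b : K) : M e (a - b) = M e a - M e b := map_sub _ _ _
theorem M_one : M e 1 = 1 := map_one _
theorem M_zero : M e 0 = 0 := map_zero _
theorem M_neg (a : K) : M e (-a) = -M e a := map_neg _ _
theorem M_comm (a b : K) : M e a * M e b = M e b * M e a := by rw [← M_mul, ← M_mul, mul_comm]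

theorem M_mulVec (a : K) (x : Fin n → k) : e.equivFun.symm (M e a *ᵥ x) = a * e.equivFun.symm x := by
  apply e.equivFun.injective
  rw [LinearEquiv.apply_symm_apply]
  have h1 := Algebra.leftMulMatrix_mulVec_repr e a (e.equivFun.symm x)
  have h2 : (e.repr (e.equivFun.symm x) : Fin n → k) = x := e.equivFun.apply_symm_apply x
  rw [h2] at h1
  exact h1

/-- the trace form -/
noncomputable def G : Matrix (Fin n) (Fin n) k := Algebra.traceMatrix k e

theorem G_apply (i j : Fin n) : G e i j = Algebra.trace k K (e i * e j) := rfl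

theorem G_symm : (G e)ᵀ = G e := by
  ext i j
  rw [Matrix.transpose_apply, G_apply, G_apply, mul_comm]

theorem G_mul_apply (a : K) (i j : Fin n) : (G e * M e a) i j = Algebra.trace k K (a * (e i * e j)) := by
  rw [Matrix.mul_apply]
  have h1 : ∑ l, M e a l j • e l = a * e j :=
    (Finset.sum_congr rfl fun l _ => by
      rw [show M e a l j = e.repr (a * e j) l from Algebra.leftMulMatrix_eq_repr_mul e a l j]).trans
        (e.sum_repr (a * e j))
  have h2 : a * (e i * e j) = e i * ∑ l, M e a l j • e l := by rw [h1]; ring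
  rw [h2, Finset.mul_sum, map_sum]
  refine Finset.sum_congr rfl fun l _ => ?_
  rw [mul_smul_comm, map_smul, smul_eq_mul, mul_comm]
  rfl

theorem G_mul (a : K) : G e * M e a = (M e a)ᵀ * G e := by
  have h1 : (G e * M e a)ᵀ = G e * M e a := by
    ext i j
    rw [Matrix.transpose_apply, G_mul_apply, G_mul_apply, mul_comm (e j)]
  rw [← h1, Matrix.transpose_mul, G_symm]

variable [Algebra.IsSeparable k K]

theorem G_det : (G e).det ≠ 0 := by
  have h := det_traceForm_ne_zero (K := k) (L := K) e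
  rwa [← Algebra.traceMatrix_of_basis] at h

theorem G_mul_inv : G e * (G e)⁻¹ = 1 := Matrix.mul_nonsing_inv _ (isUnit_iff_ne_zero.2 (G_det e))
theorem G_inv_mul : (G e)⁻¹ * G e = 1 := Matrix.nonsing_inv_mul _ (isUnit_iff_ne_zero.2 (G_det e))

theorem Gi_symm : ((G e)⁻¹)ᵀ = (G e)⁻¹ := by
  rw [Matrix.transpose_nonsing_inv, G_symm]

/-- `M a G⁻¹ = G⁻¹ (M a)ᵀ`. -/
theorem mul_Gi (a : K) : M e a * (G e)⁻¹ = (G e)⁻¹ * (M e a)ᵀ := by
  have h := G_mul e a
  calc M e a * (G e)⁻¹ = ((G e)⁻¹ * G e) * (M e a * (G e)⁻¹) := by rw [G_inv_mul, Matrix.one_mul]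
    _ = (G e)⁻¹ * (G e * M e a) * (G e)⁻¹ := by simp only [Matrix.mul_assoc]
    _ = (G e)⁻¹ * ((M e a)ᵀ * (G e * (G e)⁻¹)) := by rw [h]; simp only [Matrix.mul_assoc]
    _ = _ := by rw [G_mul_inv, Matrix.mul_one]

theorem trGi (a : K) : (M e a * (G e)⁻¹)ᵀ = M e a * (G e)⁻¹ := by
  rw [Matrix.transpose_mul, Gi_symm, mul_Gi]

/-- the symmetric matrix `M a G⁻¹` -/
noncomputable def SG (a : K) : Sym n k := ⟨M e a * (G e)⁻¹, trGi e a⟩

theorem jj_mem (g : SpecialLinearGroup (Fin 2) K) :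
    fromBlocks (M e (g.1 0 0)) (M e (g.1 0 1) * (G e)⁻¹) (G e * M e (g.1 1 0)) (M e (g.1 1 1))ᵀ ∈
      Matrix.symplecticGroup (Fin n) k := by
  have hdet := g.2
  rw [Matrix.det_fin_two] at hdet
  rw [SymplecticGroup.fromBlocks_mem_iff]
  refine ⟨?_, ?_, ?_⟩
  · rw [Matrix.transpose_mul, G_symm, ← G_mul e (g.1 1 0), ← Matrix.mul_assoc, ← G_mul, Matrix.mul_assoc,
      Matrix.mul_assoc, M_comm]
  · rw [trGi, Matrix.transpose_transpose, Matrix.mul_assoc, ← mul_Gi e (g.1 1 1), ← Matrix.mul_assoc, M_comm,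
      Matrix.mul_assoc]
  · have h1 : (G e * M e (g.1 1 0))ᵀ * (M e (g.1 0 1) * (G e)⁻¹) = (M e (g.1 0 1 * g.1 1 0))ᵀ := by
      calc (G e * M e (g.1 1 0))ᵀ * (M e (g.1 0 1) * (G e)⁻¹)
          = (M e (g.1 1 0))ᵀ * ((G e * M e (g.1 0 1)) * (G e)⁻¹) := by
            rw [Matrix.transpose_mul, G_symm]; simp only [Matrix.mul_assoc]
        _ = (M e (g.1 1 0))ᵀ * ((M e (g.1 0 1))ᵀ * (G e * (G e)⁻¹)) := by rw [G_mul]; simp only [Matrix.mul_assoc]
        _ = _ := by rw [G_mul_inv, Matrix.mul_one, ← Matrix.transpose_mul, ← M_mul]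
    rw [h1, ← Matrix.transpose_mul, ← Matrix.transpose_sub, ← M_mul, ← M_sub, mul_comm (g.1 1 1), hdet, M_one,
      Matrix.transpose_one]

/-- **The embedding.** -/
noncomputable def jj : SpecialLinearGroup (Fin 2) K →* Sp n k where
  toFun g := ⟨_, jj_mem e g⟩
  map_one' := by
    apply Subtype.ext
    change fromBlocks (M e ((1 : Matrix (Fin 2) (Fin 2) K) 0 0)) (M e ((1 : Matrix (Fin 2) (Fin 2) K) 0 1) * (G e)⁻¹)
      (G e * M e ((1 : Matrix (Fin 2) (Fin 2) K) 1 0)) (M e ((1 : Matrix (Fin 2) (Fin 2) K) 1 1))ᵀ = 1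
    rw [Matrix.one_apply_eq, Matrix.one_apply_eq, Matrix.one_apply_ne (by decide), Matrix.one_apply_ne (by decide),
      M_one, M_zero, Matrix.zero_mul, Matrix.mul_zero, Matrix.transpose_one, fromBlocks_one]
  map_mul' g h := by
    apply Subtype.ext
    change fromBlocks (M e ((g.1 * h.1) 0 0)) (M e ((g.1 * h.1) 0 1) * (G e)⁻¹)
      (G e * M e ((g.1 * h.1) 1 0)) (M e ((g.1 * h.1) 1 1))ᵀ = fromBlocks _ _ _ _ * fromBlocks _ _ _ _
    rw [fromBlocks_multiply]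
    have e1 : ∀ i j, (g.1 * h.1) i j = g.1 i 0 * h.1 0 j + g.1 i 1 * h.1 1 j := fun i j => by
      rw [Matrix.mul_apply, Fin.sum_univ_two]
    simp only [e1, M_add, M_mul]
    congr 1
    · rw [Matrix.mul_assoc _ (G e)⁻¹, ← Matrix.mul_assoc (G e)⁻¹, G_inv_mul, Matrix.one_mul]
    · rw [Matrix.mul_assoc _ (G e)⁻¹, ← mul_Gi, Matrix.add_mul]
      simp only [Matrix.mul_assoc]
    · rw [← Matrix.mul_assoc _ (G e), ← G_mul, Matrix.mul_add]
      simp only [Matrix.mul_assoc]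
    · rw [Matrix.mul_assoc (G e), ← Matrix.mul_assoc (M e _) (M e _), ← Matrix.mul_assoc (G e), ← M_mul, G_mul,
        Matrix.mul_assoc _ (G e), G_mul_inv, Matrix.mul_one, ← Matrix.transpose_mul, ← Matrix.transpose_add,
        ← M_mul, ← M_mul, mul_comm (h.1 1 1)]

theorem jj_coe (g : SpecialLinearGroup (Fin 2) K) : (jj e g).1 =
    fromBlocks (M e (g.1 0 0)) (M e (g.1 0 1) * (G e)⁻¹) (G e * M e (g.1 1 0)) (M e (g.1 1 1))ᵀ := rfl

theorem jj_u (x : K) : jj e (H464.Sl2.u x) = uu (SG e x) := by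
  apply Subtype.ext
  rw [jj_coe, uu_coe]
  change fromBlocks (M e 1) (M e x * (G e)⁻¹) (G e * M e 0) (M e 1)ᵀ = _
  rw [M_one, M_zero, Matrix.mul_zero, Matrix.transpose_one]
  rfl

/-- the regular matrix of a unit -/
noncomputable def Mu (a : Kˣ) : GL (Fin n) k :=
  ⟨M e a, M e ((a⁻¹ : Kˣ) : K), by rw [← M_mul, ← Units.val_mul, mul_inv_cancel, Units.val_one, M_one], by
    rw [← M_mul, ← Units.val_mul, inv_mul_cancel, Units.val_one, M_one]⟩

theorem jj_t (a : Kˣ) : jj e (H464.Sl2.t a) = mm (Mu e a) := by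
  apply Subtype.ext
  rw [jj_coe, mm_coe]
  change fromBlocks (M e a) (M e 0 * (G e)⁻¹) (G e * M e 0) (M e ((a⁻¹ : Kˣ) : K))ᵀ = _
  rw [M_zero, Matrix.mul_zero, Matrix.zero_mul]
  rfl

theorem jj_injective : Function.Injective (jj e) := by
  intro g h hgh
  have h1 := congrArg Subtype.val hgh
  rw [jj_coe, jj_coe, Matrix.fromBlocks_inj] at h1
  obtain ⟨h2, h3, h4, h5⟩ := h1
  have hinj : Function.Injective (M e) := Algebra.leftMulMatrix_injective e
  have h3' : M e (g.1 0 1) = M e (h.1 0 1) := by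
    have := congrArg (· * G e) h3
    simpa only [Matrix.mul_assoc, G_inv_mul, Matrix.mul_one] using this
  have h4' : M e (g.1 1 0) = M e (h.1 1 0) := by
    have := congrArg ((G e)⁻¹ * ·) h4
    simpa only [← Matrix.mul_assoc, G_inv_mul, Matrix.one_mul] using this
  apply Subtype.ext
  ext i j
  fin_cases i <;> fin_cases j
  · exact hinj h2
  · exact hinj h3'
  · exact hinj h4'
  · exact hinj (Matrix.transpose_injective h5)

/-! ### The identification of `k^n` with `K` -/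

/-- `φ x = ∑ (G⁻¹ x)_i e_i` -/
noncomputable def ph (x : Fin n → k) : K := e.equivFun.symm ((G e)⁻¹ *ᵥ x)

theorem ph_zero : ph e 0 = 0 := by rw [ph, Matrix.mulVec_zero, map_zero]

theorem ph_neg (x : Fin n → k) : ph e (-x) = -ph e x := by rw [ph, Matrix.mulVec_neg, map_neg]; rfl

theorem ph_injective : Function.Injective (ph e) := by
  intro x y h
  have h1 := e.equivFun.symm.injective h
  have h2 := congrArg (G e *ᵥ ·) h1
  simpa only [Matrix.mulVec_mulVec, G_mul_inv, Matrix.one_mulVec] using h2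

theorem ph_ne {x : Fin n → k} (hx : x ≠ 0) : ph e x ≠ 0 := fun h => hx (ph_injective e (h.trans (ph_zero e).symm))

/-- `x ↦ x M_a` is multiplication by `a`. -/
theorem ph_vecMul (a : K) (x : Fin n → k) : ph e (x ᵥ* M e a) = a * ph e x := by
  rw [ph, ph, ← Matrix.mulVec_transpose, Matrix.mulVec_mulVec, ← mul_Gi, ← Matrix.mulVec_mulVec, M_mulVec]

/-- The quadratic form of `SG t`. -/
theorem ph_quad (t : K) (x : Fin n → k) : x ⬝ᵥ ((SG e t).1 *ᵥ x) = Algebra.trace k K (t * (ph e x) ^ 2) := by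
  set y := (G e)⁻¹ *ᵥ x with hy
  have hx : x = G e *ᵥ y := by
    rw [hy, Matrix.mulVec_mulVec, G_mul_inv, Matrix.one_mulVec]
  have h1 : x ⬝ᵥ ((SG e t).1 *ᵥ x) = y ⬝ᵥ ((G e * M e t) *ᵥ y) := by
    change x ⬝ᵥ ((M e t * (G e)⁻¹) *ᵥ x) = _
    rw [← Matrix.mulVec_mulVec, ← hy]
    conv_lhs => rw [hx]
    rw [Matrix.dotProduct_mulVec, ← Matrix.vecMul_transpose, G_symm, Matrix.vecMul_vecMul, ← Matrix.dotProduct_mulVec]
  rw [h1]
  have h2 : ph e x = ∑ i, y i • e i := by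
    rw [ph, ← hy, Basis.equivFun_symm_apply]
  rw [h2, sq, Finset.sum_mul_sum]
  rw [Finset.mul_sum, map_sum, dotProduct]
  refine Finset.sum_congr rfl fun i _ => ?_
  rw [Finset.mul_sum, map_sum, Matrix.mulVec, dotProduct, Finset.mul_sum]
  refine Finset.sum_congr rfl fun j _ => ?_
  rw [G_mul_apply, smul_mul_smul_comm, mul_smul_comm, map_smul, smul_eq_mul]
  ring

/-! ### Field automorphisms -/

/-- the matrix of an automorphism -/
noncomputable def Sg (σ : K ≃ₐ[k] K) : Matrix (Fin n) (Fin n) k := LinearMap.toMatrix e e σ.toLinearMap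

theorem Sg_M (σ : K ≃ₐ[k] K) (a : K) : Sg e σ * M e a = M e (σ a) * Sg e σ := by
  rw [Sg, M, M, Algebra.leftMulMatrix_apply, Algebra.leftMulMatrix_apply, ← LinearMap.toMatrix_comp e e e,
    ← LinearMap.toMatrix_comp e e e]
  congr 1
  apply LinearMap.ext
  intro x
  change σ (a * x) = σ a * σ x
  rw [map_mul]

theorem Sg_mul (σ τ : K ≃ₐ[k] K) : Sg e (σ * τ) = Sg e σ * Sg e τ := by
  rw [Sg, Sg, Sg, ← LinearMap.toMatrix_comp e e e]
  rfl

theorem Sg_one : Sg e 1 = 1 := by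
  rw [Sg]
  exact LinearMap.toMatrix_id e

/-- as an element of `GL` -/
noncomputable def Su (σ : K ≃ₐ[k] K) : GL (Fin n) k :=
  ⟨Sg e σ, Sg e σ⁻¹, by rw [← Sg_mul, mul_inv_cancel, Sg_one], by rw [← Sg_mul, inv_mul_cancel, Sg_one]⟩

theorem Sg_form (σ : K ≃ₐ[k] K) : (Sg e σ)ᵀ * G e * Sg e σ = G e := by
  have hcol : ∀ j, σ (e j) = ∑ l, Sg e σ l j • e l := by
    intro j
    refine ((Finset.sum_congr rfl fun l _ => ?_).trans (e.sum_repr (σ (e j)))).symm
    rw [show Sg e σ l j = e.repr (σ (e j)) l from LinearMap.toMatrix_apply e e σ.toLinearMap l j]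
  ext i j
  have h1 : G e i j = Algebra.trace k K (σ (e i) * σ (e j)) := by
    rw [G_apply, ← map_mul σ (e i) (e j), Algebra.trace_eq_of_algEquiv σ]
  rw [h1, hcol i, hcol j, Finset.sum_mul_sum, map_sum, Matrix.mul_apply]
  simp only [Matrix.mul_apply, Matrix.transpose_apply, Finset.sum_mul, map_sum]
  rw [Finset.sum_comm]
  refine Finset.sum_congr rfl fun a _ => ?_
  refine Finset.sum_congr rfl fun b _ => ?_
  rw [smul_mul_smul_comm, map_smul, smul_eq_mul, G_apply]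
  ring

theorem Su_coe (σ : K ≃ₐ[k] K) : (Su e σ : Matrix (Fin n) (Fin n) k) = Sg e σ := rfl

theorem Su_inv_coe (σ : K ≃ₐ[k] K) : (((Su e σ)⁻¹ : GL (Fin n) k) : Matrix (Fin n) (Fin n) k) = Sg e σ⁻¹ := rfl

theorem Sg_inv_mul (σ : K ≃ₐ[k] K) : Sg e σ⁻¹ * Sg e σ = 1 := by rw [← Sg_mul, inv_mul_cancel, Sg_one]
theorem Sg_mul_inv (σ : K ≃ₐ[k] K) : Sg e σ * Sg e σ⁻¹ = 1 := by rw [← Sg_mul, mul_inv_cancel, Sg_one]

/-- `Σ G⁻¹ = G⁻¹ Σ⁻ᵀ`. -/
theorem Sg_Gi (σ : K ≃ₐ[k] K) : Sg e σ * (G e)⁻¹ = (G e)⁻¹ * (Sg e σ⁻¹)ᵀ := by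
  have h1 := Sg_form e σ
  have h2 : G e * Sg e σ = (Sg e σ⁻¹)ᵀ * G e := by
    calc G e * Sg e σ = ((Sg e σ⁻¹)ᵀ * (Sg e σ)ᵀ) * (G e * Sg e σ) := by
          rw [← Matrix.transpose_mul, Sg_mul_inv, Matrix.transpose_one, Matrix.one_mul]
      _ = (Sg e σ⁻¹)ᵀ * ((Sg e σ)ᵀ * G e * Sg e σ) := by simp only [Matrix.mul_assoc]
      _ = _ := by rw [h1]
  calc Sg e σ * (G e)⁻¹ = ((G e)⁻¹ * G e) * (Sg e σ * (G e)⁻¹) := by rw [G_inv_mul, Matrix.one_mul]
    _ = (G e)⁻¹ * (G e * Sg e σ) * (G e)⁻¹ := by simp only [Matrix.mul_assoc]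
    _ = (G e)⁻¹ * ((Sg e σ⁻¹)ᵀ * (G e * (G e)⁻¹)) := by rw [h2]; simp only [Matrix.mul_assoc]
    _ = _ := by rw [G_mul_inv, Matrix.mul_one]

/-- **Field automorphisms are inner in `Sp_2n(k)`.** -/
theorem jj_map (σ : K ≃ₐ[k] K) (g : SpecialLinearGroup (Fin 2) K) :
    mm (Su e σ) * jj e g = jj e (SpecialLinearGroup.map (σ : K →+* K) g) * mm (Su e σ) := by
  have hG : (Sg e σ⁻¹)ᵀ * G e = G e * Sg e σ := by
    calc (Sg e σ⁻¹)ᵀ * G e = (Sg e σ⁻¹)ᵀ * ((Sg e σ)ᵀ * G e * Sg e σ) := by rw [Sg_form]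
      _ = (Sg e σ * Sg e σ⁻¹)ᵀ * (G e * Sg e σ) := by rw [Matrix.transpose_mul]; simp only [Matrix.mul_assoc]
      _ = _ := by rw [Sg_mul_inv, Matrix.transpose_one, Matrix.one_mul]
  apply Subtype.ext
  rw [Submonoid.coe_mul, Submonoid.coe_mul, jj_coe, jj_coe, mm_coe, fromBlocks_multiply, fromBlocks_multiply,
    Su_coe, Su_inv_coe]
  simp only [Matrix.mul_zero, Matrix.zero_mul, add_zero, zero_add]
  congr 1
  · exact Sg_M e σ _
  · rw [← Matrix.mul_assoc, Sg_M, Matrix.mul_assoc, Sg_Gi, ← Matrix.mul_assoc]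
    rfl
  · rw [← Matrix.mul_assoc, hG, Matrix.mul_assoc, Sg_M, ← Matrix.mul_assoc]
    rfl
  · rw [← Matrix.transpose_mul, ← Matrix.transpose_mul]
    congr 1
    have h1 := Sg_M e σ⁻¹ (σ (g.1 1 1))
    have h2 : σ⁻¹ (σ (g.1 1 1)) = g.1 1 1 := σ.symm_apply_apply _
    rw [h2] at h1
    exact h1.symm

end Cfsg.Agent.H434.K2
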