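import Cfsg.Agent.H434.LD.PSp45

/-!
# Generalities for the extension of `SL₂(25)` to `Sp₄(5)` (helper434)
-/

set_option autoImplicit false
set_option linter.unusedSectionVars false
open Matrix Module Cfsg.Agent.H162.Weil

namespace Cfsg.Agent.H434.K2

open Cfsg.Agent.H434.MRep Cfsg.Agent.H434.WK Cfsg.Agent.H434.PSp45

section gen

variable {G : Type*} [Group G] {ι : Type*} [Fintype ι] [DecidableEq ι] {F : Type*} [Field F] {𝕜 : Type*} [Field 𝕜]
  {V : Type*} [AddCommGroup V] [Module 𝕜 V]

/-- matrices of a representation -/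
noncomputable def toM (b : Basis ι 𝕜 V) (R : G →* Module.End 𝕜 V) : G →* Matrix ι ι 𝕜 :=
  (LinearMap.toMatrixAlgEquiv b : Module.End 𝕜 V →* Matrix ι ι 𝕜).comp R

theorem toM_apply (b : Basis ι 𝕜 V) (R : G →* Module.End 𝕜 V) (g : G) : toM b R g = LinearMap.toMatrix b b (R g) := rfl

theorem toM_trace (b : Basis ι 𝕜 V) (R : G →* Module.End 𝕜 V) (g : G) :
    (toM b R g).trace = LinearMap.trace 𝕜 V (R g) := by
  rw [toM_apply, LinearMap.trace_eq_matrix_trace 𝕜 b]

theorem toM_span (b : Basis ι 𝕜 V) {R : G →* Module.End 𝕜 V} (h : Submodule.span 𝕜 (Set.range R) = ⊤) :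
    Submodule.span 𝕜 (Set.range (toM b R)) = ⊤ := by
  have h1 : Set.range (toM b R) = (LinearMap.toMatrix b b) '' Set.range R := by
    rw [← Set.range_comp]
    rfl
  rw [h1]
  have h2 := Submodule.map_span ((LinearMap.toMatrix b b).toLinearMap) (Set.range R)
  rw [LinearEquiv.coe_toLinearMap] at h2
  rw [← h2, h, Submodule.map_top, LinearMap.range_eq_top]
  exact (LinearMap.toMatrix b b).surjective

theorem mRep_span (m : G →* Matrix ι ι F) (hm : Submodule.span F (Set.range m) = ⊤) (τ : F →+* 𝕜) :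
    Submodule.span 𝕜 (Set.range (mRep m τ)) = ⊤ := by
  have hall : ∀ M : Matrix ι ι F, Matrix.toLin' (M.map τ) ∈ Submodule.span 𝕜 (Set.range (mRep m τ)) := by
    intro M
    have hM : M ∈ Submodule.span F (Set.range m) := by rw [hm]; trivial
    induction hM using Submodule.span_induction with
    | mem x hx =>
      obtain ⟨g, rfl⟩ := hx
      exact Submodule.subset_span ⟨g, rfl⟩
    | zero =>
      rw [Matrix.map_zero _ (map_zero _), map_zero]
      exact Submodule.zero_mem _
    | add x y _ _ hx hy =>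
      rw [Matrix.map_add _ (map_add _), map_add]
      exact Submodule.add_mem _ hx hy
    | smul c x _ hx =>
      have h1 : (c • x).map τ = (τ c) • x.map τ := by
        ext i j
        simp
      rw [h1, map_smul]
      exact Submodule.smul_mem _ _ hx
  rw [eq_top_iff]
  intro T _
  have h2 : T = ∑ i, ∑ j, (LinearMap.toMatrix' T i j) • Matrix.toLin' ((Matrix.single i j (1 : F)).map τ) := by
    apply LinearMap.toMatrix'.injective
    simp only [map_sum, map_smul, LinearMap.toMatrix'_toLin']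
    conv_lhs => rw [Matrix.matrix_eq_sum_single (LinearMap.toMatrix' T)]
    refine Finset.sum_congr rfl fun i _ => Finset.sum_congr rfl fun j _ => ?_
    rw [Matrix.map_single, map_one, Matrix.smul_single, smul_eq_mul, mul_one]
  rw [h2]
  exact Submodule.sum_mem _ fun i _ => Submodule.sum_mem _ fun j _ => Submodule.smul_mem _ _ (hall _)

theorem span_le_mono {R : G →* Module.End 𝕜 V} {H : Type*} [Group H] (j : H →* G)
    (h : Submodule.span 𝕜 (Set.range (R.comp j)) = ⊤) : Submodule.span 𝕜 (Set.range R) = ⊤ := by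
  rw [eq_top_iff, ← h]
  apply Submodule.span_mono
  rintro _ ⟨x, rfl⟩
  exact ⟨j x, rfl⟩

theorem ne_one_of_span [FiniteDimensional 𝕜 V] {R : G →* Module.End 𝕜 V}
    (h : Submodule.span 𝕜 (Set.range R) = ⊤) (hV : 1 < finrank 𝕜 V) : R ≠ 1 := by
  rintro rfl
  have h1 : Set.range (1 : G →* Module.End 𝕜 V) = {1} := by
    ext x
    simp [eq_comm]
  rw [h1] at h
  have h2 : finrank 𝕜 (Submodule.span 𝕜 ({1} : Set (Module.End 𝕜 V))) ≤ 1 :=
    (finrank_span_le_card _).trans (by simp)
  rw [h, finrank_top, Module.finrank_linearMap] at h2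
  nlinarith

/-- a spanning representation is irreducible -/
theorem irr_of_span [Nontrivial V] {R : Representation 𝕜 G V} (h : Submodule.span 𝕜 (Set.range R) = ⊤) :
    R.IsIrreducible := by
  have key : ∀ W : Submodule 𝕜 V, (∀ g, ∀ w ∈ W, R g w ∈ W) → W = ⊥ ∨ W = ⊤ := by
    intro W hW
    have hall : ∀ T : Module.End 𝕜 V, ∀ w ∈ W, T w ∈ W := by
      intro T
      have hT : T ∈ Submodule.span 𝕜 (Set.range R) := by rw [h]; trivial
      induction hT using Submodule.span_induction with
      | mem x hx =>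
        intro w hw
        obtain ⟨g, rfl⟩ := hx
        exact hW g w hw
      | zero =>
        intro w _
        exact W.zero_mem
      | add x y _ _ hx hy =>
        intro w hw
        exact W.add_mem (hx w hw) (hy w hw)
      | smul c x _ hx =>
        intro w hw
        exact W.smul_mem _ (hx w hw)
    rw [or_iff_not_imp_left]
    intro hne
    obtain ⟨w, hw, hw0⟩ := (Submodule.ne_bot_iff _).1 hne
    obtain ⟨f, hf⟩ : ∃ f : Module.Dual 𝕜 V, f w = 1 := by
      by_contra hcon
      push Not at hcon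
      apply hw0
      rw [← Module.forall_dual_apply_eq_zero_iff 𝕜]
      intro φ
      by_contra hφ
      apply hcon ((φ w)⁻¹ • φ)
      rw [LinearMap.smul_apply, smul_eq_mul, inv_mul_cancel₀ hφ]
    rw [eq_top_iff]
    intro v _
    have h1 := hall (f.smulRight v) w hw
    rwa [LinearMap.smulRight_apply, hf, one_smul] at h1
  have hnt : Nontrivial (Subrepresentation R) := by
    refine ⟨⊥, ⊤, fun h => ?_⟩
    have h1 : (⊥ : Submodule 𝕜 V) = ⊤ := congrArg Subrepresentation.toSubmodule h
    exact bot_ne_top h1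
  refine @IsSimpleOrder.mk _ _ _ hnt ?_
  intro W
  rcases key W.toSubmodule (fun g w hw => W.apply_mem_toSubmodule g hw) with h | h
  · left
    exact Subrepresentation.toSubmodule_injective h
  · right
    exact Subrepresentation.toSubmodule_injective h

end gen

/-- the central element of `Sp₄(5)` acts as `-1` -/
theorem neg_one_act {𝕜 : Type*} [Field 𝕜] [hq : Fact ((Fintype.card (ZMod 5) : 𝕜) ≠ 0)] {V : Type*} [AddCommGroup V]
    [Module 𝕜 V] [FiniteDimensional 𝕜 V] [IsAlgClosed 𝕜] {ρ : Representation 𝕜 (Sp 2 (ZMod 5)) V} {ψ : AddChar (ZMod 5) 𝕜}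
    (hψ : ψ.IsPrimitive) (hρ : ρ.IsIrreducible) (hd : finrank 𝕜 V = 12) (u : V) :
    ρ (mm (-1 : GL (Fin 2) (ZMod 5))) u = -u := by
  obtain ⟨ε, hε, hu⟩ := exists_parity hρ
  obtain ⟨lam, v, hs⟩ : ∃ lam v, Seed ρ ψ lam 0 v := by
    rcases seed12 hψ hρ hd with ⟨v, h⟩ | ⟨v, h⟩
    · exact ⟨1, v, h⟩
    · exact ⟨2, v, h⟩
  have h1 := (wmat' hs hρ hd ij2).1 (Pi.single 0 1)
  rw [ff_neg hs, hu] at h1
  have h2 : (ε + 1) • ff ρ ψ lam v (Pi.single 0 1) = 0 := by
    rw [add_smul, one_smul, h1, neg_add_cancel]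
  have h3 : ε = -1 := by
    rcases smul_eq_zero.1 h2 with h | h
    · exact eq_neg_of_add_eq_zero_left h
    · exact absurd h (ff_ne hs (X12_ne (single_mem1 0)))
  rw [hu, h3, neg_one_smul]

end Cfsg.Agent.H434.K2
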