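import Cfsg.Agent.H434.LD.K2Span
import Cfsg.Agent.H434.LD.K2Gen
import Cfsg.Agent.H464.L2Conj
import Cfsg.Agent.ClassicalGeometry.AutPSL.Auto

/-!
# Extension of the 12-dimensional representation of `SL₂(25)` to `Sp₄(5)` over `F_p`, `p ≡ ±1 mod 5` (helper434)
-/

set_option autoImplicit false
set_option linter.unusedSectionVars false
open Matrix Module Cfsg.Agent.H162.Weil

namespace Cfsg.Agent.H434.K2

open Cfsg Cfsg.Geo Cfsg.Agent.H915.LD Cfsg.Agent.H434.MRep Cfsg.Agent.H434.WK Cfsg.Agent.H434.PSp45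

universe u v

section desc

variable {F : Type*} [Field F] [Fintype F] {𝕜 : Type*} [Field 𝕜] [Algebra F 𝕜] (p : ℕ) [hp : Fact p.Prime] [CharP F p]

theorem mem_range_of_pow (y : 𝕜) (hy : y ^ p = y) : ∃ x : F, algebraMap F 𝕜 x = y := by
  have : CharP 𝕜 p := charP_of_injective_algebraMap (algebraMap F 𝕜).injective p
  have h1 : y ∈ (⊥ : Subfield 𝕜) := (Subfield.mem_bot_iff_pow_eq_self 𝕜 p).2 hy
  have h2 : (⊥ : Subfield 𝕜) ≤ (algebraMap F 𝕜).fieldRange := bot_le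
  exact h2 h1

variable {ι : Type*} [Fintype ι] [DecidableEq ι] {G : Type*} [Group G]

/-- descent of a matrix by traces -/
theorem exists_map (m : G →* Matrix ι ι F) (hm : Submodule.span F (Set.range m) = ⊤) (M : Matrix ι ι 𝕜)
    (htr : ∀ g, ∃ x : F, algebraMap F 𝕜 x = (M * (m g).map (algebraMap F 𝕜)).trace) :
    ∃ M₀ : Matrix ι ι F, M₀.map (algebraMap F 𝕜) = M := by
  have hall : ∀ N : Matrix ι ι F, ∃ x : F, algebraMap F 𝕜 x = (M * N.map (algebraMap F 𝕜)).trace := by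
    intro N
    have hN : N ∈ Submodule.span F (Set.range m) := by rw [hm]; trivial
    induction hN using Submodule.span_induction with
    | mem x hx =>
      obtain ⟨g, rfl⟩ := hx
      exact htr g
    | zero => exact ⟨0, by rw [map_zero, Matrix.map_zero _ (map_zero _), Matrix.mul_zero, Matrix.trace_zero]⟩
    | add x y _ _ hx hy =>
      obtain ⟨a, ha⟩ := hx
      obtain ⟨b, hb⟩ := hy
      exact ⟨a + b, by rw [map_add, ha, hb, Matrix.map_add _ (map_add _), Matrix.mul_add, Matrix.trace_add]⟩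
    | smul c x _ hx =>
      obtain ⟨a, ha⟩ := hx
      refine ⟨c * a, ?_⟩
      have h1 : (c • x).map (algebraMap F 𝕜) = (algebraMap F 𝕜 c) • x.map (algebraMap F 𝕜) := by
        ext i j
        simp
      rw [map_mul, ha, h1, Matrix.mul_smul, Matrix.trace_smul, smul_eq_mul]
  choose f hf using fun i j => hall (Matrix.single j i (1 : F))
  refine ⟨Matrix.of f, ?_⟩
  ext i j
  rw [Matrix.map_apply, Matrix.of_apply, hf, Matrix.map_single, map_one, Matrix.trace_mul_single]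
  simp

end desc

section weil

variable {𝕜 : Type*} [Field 𝕜] [hq : Fact ((Fintype.card (ZMod 5) : 𝕜) ≠ 0)] [hk2 : Fact ((2 : 𝕜) ≠ 0)]

theorem finrank_odd12 : finrank 𝕜 (Es 2 (ZMod 5) (-1 : 𝕜)) = 12 := by
  have h1 := finrank_even_eq (𝕜 := 𝕜) (n := 2) (F := ZMod 5) two_zmod
  have h2 := finrank_sum (𝕜 := 𝕜) (n := 2) (F := ZMod 5) two_zmod
  rw [ZMod.card] at h2
  omega

variable {K : Type*} [Field K] [Fintype K] [Algebra (ZMod 5) K] (b : Basis (Fin 2) (ZMod 5) K)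

include b in
theorem card_25 : Fintype.card K = 25 := by
  rw [card_K b, ZMod.card]
  norm_num

/-- The odd Weil representation of `Sp₄(5)`. -/
theorem exists_odd {ψ : AddChar (ZMod 5) 𝕜} (hψ : ψ.IsPrimitive) :
    ∃ ρ : Representation 𝕜 (Sp 2 (ZMod 5)) (Es 2 (ZMod 5) (-1 : 𝕜)),
      Submodule.span 𝕜 (Set.range (ρ.comp (jj b))) = ⊤ ∧ ∀ S, ρ (uu S) = 1 → S = 0 := by
  obtain ⟨ω, hu, hω, hm, -⟩ := exists_weil hψ two_zmod (one_ne_zero) (0 : Fin 2)
  refine ⟨oddRep ω hω, span_odd b hω hψ two_zmod hu hm, fun S hS => ?_⟩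
  by_contra hS0
  -- `x · S x = 0` for every `x`
  have h1 : ∀ x : Fin 2 → ZMod 5, x ⬝ᵥ (S.1 *ᵥ x) = 0 := by
    intro x
    by_contra hx
    have hx0 : x ≠ 0 := by
      rintro rfl
      exact hx (by simp)
    obtain ⟨s, hs⟩ : ∃ s : ZMod 5, ψ (s * (x ⬝ᵥ (S.1 *ᵥ x))) ≠ 1 := exists_ne_one hψ hx
    obtain ⟨m, rfl⟩ : ∃ m : ℕ, (m : ZMod 5) = s := ⟨s.val, ZMod.natCast_zmod_val s⟩
    apply hs
    have h2 := congrArg (fun T : Module.End 𝕜 (Es 2 (ZMod 5) (-1 : 𝕜)) => (T (dd x)).1 x) hS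
    simp only [Module.End.one_apply] at h2
    rw [oddRep_coe, hu, WK.DS_apply, dd_self two_zmod hx0, mul_one, one_mul] at h2
    rw [← nsmul_eq_mul, AddChar.map_nsmul_eq_pow, h2, one_pow]
  apply hS0
  apply Subtype.ext
  have h2 : (2 : ZMod 5) ≠ 0 := two_zmod
  have hsym : S.1 1 0 = S.1 0 1 := Sym.apply S 1 0
  have e1 := h1 ![1, 0]
  have e2 := h1 ![0, 1]
  have e3 := h1 ![1, 1]
  simp only [dotProduct, mulVec, Fin.sum_univ_two, Matrix.cons_val_zero, Matrix.cons_val_one, mul_one, mul_zero, add_zero,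
    zero_add, one_mul, zero_mul] at e1 e2 e3
  have e4 : S.1 0 1 = 0 := by
    rw [e1, e2, hsym] at e3
    have : (2 : ZMod 5) * S.1 0 1 = 0 := by linear_combination e3
    exact (mul_eq_zero.1 this).resolve_left h2
  ext i j
  fin_cases i <;> fin_cases j
  · exact e1
  · exact e4
  · exact hsym.trans e4
  · exact e2

end weil

theorem toMatrix_neg_one {ι : Type*} [Fintype ι] [DecidableEq ι] {𝕜 : Type*} [Field 𝕜] {V : Type*} [AddCommGroup V]
    [Module 𝕜 V] (b : Basis ι 𝕜 V) {T : Module.End 𝕜 V} (hT : ∀ v, T v = -v) :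
    LinearMap.toMatrix b b T = (-1 : 𝕜) • (1 : Matrix ι ι 𝕜) := by
  have h : T = (-1 : 𝕜) • LinearMap.id := by
    apply LinearMap.ext
    intro v
    rw [hT, LinearMap.smul_apply, LinearMap.id_apply, neg_one_smul]
  rw [h, map_smul, LinearMap.toMatrix_id]

section main

variable {ι : Type} [Fintype ι] [DecidableEq ι] {F : Type u} [Field F] [Fintype F] {P : Subgroup (GL ι F)}
  {K : Type v} [Field K] [Fintype K]

/-- matrices of a homomorphism to `GL` -/
def cm {G : Type*} [Group G] (ρ : G →* GL ι F) : G →* Matrix ι ι F := (Units.coeHom (Matrix ι ι F)).comp ρ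

theorem cm_apply {G : Type*} [Group G] (ρ : G →* GL ι F) (g : G) : cm ρ g = (ρ g : Matrix ι ι F) := rfl

theorem cm_span (hC : Core P) {G : Type*} [Group G] {ρ : G →* GL ι F} (hρ : ρ.range = P) :
    Submodule.span F (Set.range (cm ρ)) = ⊤ := by
  rw [← H920.span_eq_top hC.absIrred]
  congr 1
  ext x
  constructor
  · rintro ⟨g, rfl⟩
    exact ⟨ρ g, hρ ▸ ⟨g, rfl⟩, rfl⟩
  · rintro ⟨y, hy, rfl⟩
    rw [← hρ] at hy
    obtain ⟨g, rfl⟩ := hy
    exact ⟨g, rfl⟩

open ClassicalGeometry.AutPSL.Auto in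
/-- twisting the parametrisation by a diagonal automorphism -/
theorem exists_equiv_dl (e : Soc P ≃* ProjectiveSpecialLinearGroup (Fin 2) K) (ρ₁ : SpecialLinearGroup (Fin 2) K →* GL ι F)
    (he : ∀ (g : SpecialLinearGroup (Fin 2) K) (h : ρ₁ g ∈ P), e (toSoc P ⟨ρ₁ g, h⟩) = QuotientGroup.mk g) (ν : Kˣ) :
    ∃ e' : Soc P ≃* ProjectiveSpecialLinearGroup (Fin 2) K, ∀ (g : SpecialLinearGroup (Fin 2) K)
      (h : ρ₁ (H464.Sl2.dl ν g) ∈ P), e' (toSoc P ⟨ρ₁ (H464.Sl2.dl ν g), h⟩) = QuotientGroup.mk g := by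
  let d : MulAut (SpecialLinearGroup (Fin 2) K) := MulEquiv.ofBijective (H464.Sl2.dl ν)
    ⟨Finite.injective_iff_surjective.2 (H464.Sl2.dl_surjective ν), H464.Sl2.dl_surjective ν⟩
  refine ⟨e.trans (lift d)⁻¹, fun g h => ?_⟩
  change (lift d)⁻¹ (e _) = _
  rw [he]
  change (lift d)⁻¹ ((lift d) (QuotientGroup.mk g)) = _
  exact MulAut.inv_apply_self _ _ _

variable (p : ℕ) [hp : Fact p.Prime] [CharP F p]

/-- **Step 1**: a parametrisation `ρ` of `P` with the same traces as the odd Weil representation. -/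
theorem exists_param (hC : Core P) [Algebra (ZMod 5) K] (b : Basis (Fin 2) (ZMod 5) K) (hp5 : p ≠ 5)
    (hn : Fintype.card ι = 12) (e : Soc P ≃* ProjectiveSpecialLinearGroup (Fin 2) K)
    [hq : Fact ((Fintype.card (ZMod 5) : AlgebraicClosure F) ≠ 0)] [hk2 : Fact ((2 : AlgebraicClosure F) ≠ 0)]
    {ψ : AddChar (ZMod 5) (AlgebraicClosure F)} (hψ : ψ.IsPrimitive)
    (σ : Representation (AlgebraicClosure F) (Sp 2 (ZMod 5)) (Es 2 (ZMod 5) (-1 : AlgebraicClosure F)))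
    (hσ : Submodule.span (AlgebraicClosure F) (Set.range (σ.comp (jj b))) = ⊤) :
    ∃ ρ : SpecialLinearGroup (Fin 2) K →* GL ι F, ρ.range = P ∧
      (∃ e' : Soc P ≃* ProjectiveSpecialLinearGroup (Fin 2) K, ∀ (g : SpecialLinearGroup (Fin 2) K) (h : ρ g ∈ P),
        e' (toSoc P ⟨ρ g, h⟩) = QuotientGroup.mk g) ∧
      ∀ g, algebraMap F (AlgebraicClosure F) (tr (ρ g)) = LinearMap.trace (AlgebraicClosure F) _ (σ (jj b g)) := by
  classical
  have hK25 := card_25 b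
  have hpK : ¬ p ∣ Fintype.card K := by
    rw [hK25]
    intro h
    exact hp5 ((Nat.prime_dvd_prime_iff_eq hp.out (by norm_num)).1 (hp.out.dvd_of_dvd_pow (n := 2) (by norm_num; exact h)))
  obtain ⟨ρ₁, hρ₁, he₁⟩ := H464.Sl2.l2_rep hC (by omega) (by omega) e
  set 𝕜 := AlgebraicClosure F with h𝕜
  have hKF : (Fintype.card K : F) ≠ 0 := H464.Sl2.card_cast_ne p hpK
  have hKk : (Fintype.card K : 𝕜) ≠ 0 := card_K_ne (𝕜 := 𝕜) b
  set ψK : AddChar K 𝕜 := psK K ψ with hψK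
  have hψK' : ψK.IsPrimitive := psK_prim hψ
  set R₁ : SpecialLinearGroup (Fin 2) K →* Module.End 𝕜 (ι → 𝕜) := mRep (cm ρ₁) (algebraMap F 𝕜) with hR₁
  set R₂ : SpecialLinearGroup (Fin 2) K →* Module.End 𝕜 (Es 2 (ZMod 5) (-1 : 𝕜)) := σ.comp (jj b) with hR₂
  have hd₁ : finrank 𝕜 (ι → 𝕜) = 12 := fin12 hn
  have hd₂ : finrank 𝕜 (Es 2 (ZMod 5) (-1 : 𝕜)) = 12 := finrank_odd12
  have hs₁ : Submodule.span 𝕜 (Set.range R₁) = ⊤ := mRep_span (cm ρ₁) (cm_span hC hρ₁) _
  have hn₁ : R₁ ≠ 1 := ne_one_of_span hs₁ (by rw [hd₁]; norm_num)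
  have hn₂ : R₂ ≠ 1 := ne_one_of_span hσ (by rw [hd₂]; norm_num)
  obtain ⟨b₁, b₁', hb₁, hb₁', hE₁, hE₁', h0₁⟩ := H464.Sl2.half_cases R₁ hψK' hKk hs₁ hn₁ (by omega) (by omega)
  obtain ⟨b₂, b₂', hb₂, hb₂', hE₂, hE₂', h0₂⟩ := H464.Sl2.half_cases R₂ hψK' hKk hσ hn₂ (by omega) (by omega)
  have hchar : ringChar K ≠ 2 := by
    intro h
    have h1 := FiniteField.even_card_of_char_two h
    omega
  obtain ⟨ν, hν⟩ := H464.Sl2.half_u_cases R₂ R₁ hψK' hKk hchar (by omega) hb₂' hb₁'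
    (H464.Sl2.half_weights R₂ hψK' hKk hσ hb₂ hE₂ hb₂' hE₂') (H464.Sl2.half_weights R₁ hψK' hKk hs₁ hb₁ hE₁ hb₁' hE₁')
  set ρ : SpecialLinearGroup (Fin 2) K →* GL ι F := ρ₁.comp (H464.Sl2.dl ν) with hρdef
  have hρ : ρ.range = P := by
    rw [hρdef, MonoidHom.range_comp, MonoidHom.range_eq_top.2 (H464.Sl2.dl_surjective ν), ← MonoidHom.range_eq_map, hρ₁]
  refine ⟨ρ, hρ, exists_equiv_dl e ρ₁ he₁ ν, ?_⟩
  set R : SpecialLinearGroup (Fin 2) K →* Module.End 𝕜 (ι → 𝕜) := mRep (cm ρ) (algebraMap F 𝕜) with hR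
  have hs : Submodule.span 𝕜 (Set.range R) = ⊤ := mRep_span (cm ρ) (cm_span hC hρ) _
  have htr : ∀ g, LinearMap.trace 𝕜 _ (R g) = algebraMap F 𝕜 (tr (ρ g)) := fun g => mRep_trace _ _ _
  let bA : Basis (Fin 12) 𝕜 (ι → 𝕜) := finBasisOfFinrankEq 𝕜 _ hd₁
  let bB : Basis (Fin 12) 𝕜 (Es 2 (ZMod 5) (-1 : 𝕜)) := finBasisOfFinrankEq 𝕜 _ hd₂
  set ρA : SpecialLinearGroup (Fin 2) K →* GL (Fin 12) 𝕜 := (toM bA R).toHomUnits with hρA
  set ρB : SpecialLinearGroup (Fin 2) K →* GL (Fin 12) 𝕜 := (toM bB R₂).toHomUnits with hρB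
  have hA : ∀ g, (ρA g : Matrix (Fin 12) (Fin 12) 𝕜) = toM bA R g := fun g => rfl
  have hB : ∀ g, (ρB g : Matrix (Fin 12) (Fin 12) 𝕜) = toM bB R₂ g := fun g => rfl
  have hspA : Submodule.span 𝕜 (Set.range fun g => (ρA g : Matrix (Fin 12) (Fin 12) 𝕜)) = ⊤ := toM_span bA hs
  have hspB : Submodule.span 𝕜 (Set.range fun g => (ρB g : Matrix (Fin 12) (Fin 12) 𝕜)) = ⊤ := toM_span bB hσ
  have key := H464.Sl2.weil_trace_eq ρA ρB hKk
    (by
      intro h
      apply ne_one_of_span hs (by rw [hd₁]; norm_num)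
      ext1 g
      apply (LinearMap.toMatrix bA bA).injective
      have h2 := congrArg (fun x : GL (Fin 12) 𝕜 => (x : Matrix (Fin 12) (Fin 12) 𝕜)) (DFunLike.congr_fun h g)
      simp only [MonoidHom.one_apply, Units.val_one] at h2 ⊢
      rw [Module.End.one_eq_id, LinearMap.toMatrix_id]
      exact h2)
    (by
      intro h
      apply hn₂
      ext1 g
      apply (LinearMap.toMatrix bB bB).injective
      have h2 := congrArg (fun x : GL (Fin 12) 𝕜 => (x : Matrix (Fin 12) (Fin 12) 𝕜)) (DFunLike.congr_fun h g)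
      simp only [MonoidHom.one_apply, Units.val_one] at h2 ⊢
      rw [Module.End.one_eq_id, LinearMap.toMatrix_id]
      exact h2)
    hspA hspB (by omega) hchar (by omega)
    (by
      intro x
      rw [hA, hB, toM_trace, toM_trace, htr]
      have h1 := hν x
      rw [H464.Sl2.chi, H464.Sl2.chi] at h1
      rw [h1, hρdef, MonoidHom.comp_apply, H464.Sl2.dl_u]
      exact (mRep_trace (cm ρ₁) (algebraMap F 𝕜) _).symm)
    (by
      refine ⟨-1, ?_, ?_⟩
      · obtain ⟨c, -, hcc⟩ := H830.Sl2Form.scalar_t ρ (hρ ▸ hC.absIrred)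
        obtain ⟨-, h2, -⟩ := H464.Sl2.half_field p hC ρ hρ hpK (by omega) (by omega)
        have h3 := (h2 (by omega)).1 c hcc
        have h4 : H464.Sl2.eta F (-1 : K) = 1 := by
          rw [H464.Sl2.eta, (quadraticChar_one_iff_isSquare (by simp)).2
            (FiniteField.isSquare_neg_one_iff.2 (by omega)), Int.cast_one]
        rw [h4] at h3
        rw [hA, toM_apply]
        apply toMatrix_neg_one
        intro v
        have h6 : cm ρ (H464.Sl2.t (-1)) = -1 := by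
          rw [cm_apply]
          refine hcc.trans ?_
          rw [h3, neg_one_smul]
        rw [hR, mRep_apply, h6]
        have h7 : (-1 : Matrix ι ι F).map (algebraMap F 𝕜) = -1 := by
          rw [Matrix.map_neg _ (map_neg _), Matrix.map_one _ (map_zero _) (map_one _)]
        rw [h7, Matrix.neg_mulVec, Matrix.one_mulVec]
      · rw [hB, toM_apply]
        have hnt : Nontrivial (Es 2 (ZMod 5) (-1 : 𝕜)) := Module.nontrivial_of_finrank_pos (R := 𝕜) (by rw [hd₂]; norm_num)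
        have hirr : σ.IsIrreducible := irr_of_span (span_le_mono (jj b) hσ)
        apply toMatrix_neg_one
        intro v
        have h6 : jj b (H464.Sl2.t (-1)) = mm (-1 : GL (Fin 2) (ZMod 5)) := by
          rw [jj_t]
          congr 1
          apply Units.ext
          change M b ((-1 : Kˣ) : K) = _
          rw [Units.val_neg, Units.val_one, M_neg, M_one]
          rfl
        rw [hR₂, MonoidHom.comp_apply, h6, neg_one_act hψ hirr hd₂])
  intro g
  have h1 := key g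
  rw [hA, hB, toM_trace, toM_trace, htr] at h1
  exact h1

/-- a representation of `Sp₄(5)` of degree 12 has its traces fixed by the Frobenius, `p = ±1 mod 5` -/
theorem trace_frob {𝕜 : Type*} [Field 𝕜] [hq : Fact ((Fintype.card (ZMod 5) : 𝕜) ≠ 0)] (p : ℕ) [hp : Fact p.Prime]
    [CharP 𝕜 p] {ψ : AddChar (ZMod 5) 𝕜} (hψ : ψ.IsPrimitive) (hp5 : p % 5 = 1 ∨ p % 5 = 4) (hn : Fintype.card ι = 12)
    (m : Sp 2 (ZMod 5) →* Matrix ι ι 𝕜) (hm : Submodule.span 𝕜 (Set.range m) = ⊤) (g : Sp 2 (ZMod 5)) :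
    (m g).trace ^ p = (m g).trace := by
  have hne : Nonempty ι := by
    rw [← Fintype.card_pos_iff, hn]; norm_num
  have hd : finrank 𝕜 (ι → 𝕜) = 12 := by rw [Module.finrank_fintype_fun_eq_card, hn]
  have hμ5 := psi_pow_five (ψ := ψ) 1
  have h0 : (m (uu (sD 0 1))).trace ^ p = (m (uu (sD 0 1))).trace := by
    have h1 := tr12 hψ (mRep_irr m hm (RingHom.id 𝕜)) hd
    rw [mRep_trace, RingHom.id_apply] at h1
    have hfr : ∀ x y : 𝕜, (2 + 5 * (x + y)) ^ p = 2 + 5 * (x ^ p + y ^ p) := by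
      intro x y
      have := frob_aux p 1 x y
      rwa [pow_one] at this
    rcases h1 with ⟨-, h1⟩ | ⟨-, h1⟩ <;> rw [h1, hfr] <;> simp only [← pow_mul] <;> rcases hp5 with hk | hk
    · rw [pow_red hμ5 (a := p) (b := 1) (by omega), pow_red hμ5 (a := 4 * p) (b := 4) (by omega), pow_one]
    · rw [pow_red hμ5 (a := p) (b := 4) (by omega), pow_red hμ5 (a := 4 * p) (b := 1) (by omega), pow_one,
        add_comm (ψ 1 ^ 4)]
    · rw [pow_red hμ5 (a := 2 * p) (b := 2) (by omega), pow_red hμ5 (a := 3 * p) (b := 3) (by omega)]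
    · rw [pow_red hμ5 (a := 2 * p) (b := 3) (by omega), pow_red hμ5 (a := 3 * p) (b := 2) (by omega),
        add_comm (ψ 1 ^ 3)]
  have h1 := char_eq_tr hψ (mRep_irr m hm (RingHom.id 𝕜)) (mRep_irr m hm (frobenius 𝕜 p)) hd hd (by
    rw [mRep_trace, mRep_trace, RingHom.id_apply, frobenius_def, h0])
  have h2 := congrFun h1 g
  rw [mRep_character, mRep_character, RingHom.id_apply, frobenius_def] at h2
  exact h2.symm

/-- **Step 2**: the extension. -/
theorem exists_ext (hC : Core P) [Algebra (ZMod 5) K] (b : Basis (Fin 2) (ZMod 5) K) (hp5 : p % 5 = 1 ∨ p % 5 = 4)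
    (hp2 : p ≠ 2) (hF : Fintype.card F = p) (hn : Fintype.card ι = 12)
    (e : Soc P ≃* ProjectiveSpecialLinearGroup (Fin 2) K) :
    ∃ (ρ : SpecialLinearGroup (Fin 2) K →* GL ι F) (R : Sp 2 (ZMod 5) →* GL ι F), ρ.range = P ∧
      (∃ e' : Soc P ≃* ProjectiveSpecialLinearGroup (Fin 2) K, ∀ (g : SpecialLinearGroup (Fin 2) K) (h : ρ g ∈ P),
        e' (toSoc P ⟨ρ g, h⟩) = QuotientGroup.mk g) ∧
      (∀ g, R (jj b g) = ρ g) ∧ ∀ S, R (uu S) = 1 → S = 0 := by
  classical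
  have h5 : p ≠ 5 := by rintro rfl; omega
  have hch : CharP (AlgebraicClosure F) p := charP_of_injective_algebraMap (algebraMap F (AlgebraicClosure F)).injective p
  have hq : Fact ((Fintype.card (ZMod 5) : AlgebraicClosure F) ≠ 0) := fact_card (F := F) p h5
  have hk2 : Fact ((2 : AlgebraicClosure F) ≠ 0) := by
    constructor
    intro h
    have h1 := (CharP.cast_eq_zero_iff (AlgebraicClosure F) p 2).1 (by exact_mod_cast h)
    exact hp2 ((Nat.prime_dvd_prime_iff_eq hp.out Nat.prime_two).1 h1)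
  obtain ⟨ψ, hψ⟩ := exists_psi (F := F) p h5
  obtain ⟨σ, hσ, hσu⟩ := exists_odd b hψ
  obtain ⟨ρ, hρ, he', htr⟩ := exists_param p hC b h5 hn e hψ σ hσ
  set 𝕜 := AlgebraicClosure F with h𝕜
  have hd₂ : finrank 𝕜 (Es 2 (ZMod 5) (-1 : 𝕜)) = 12 := finrank_odd12
  let bV : Basis ι 𝕜 (Es 2 (ZMod 5) (-1 : 𝕜)) :=
    (finBasisOfFinrankEq 𝕜 _ hd₂).reindex (Fintype.equivFinOfCardEq hn).symm
  -- the two representations over `𝕜`
  set mS : Sp 2 (ZMod 5) →* Matrix ι ι 𝕜 := toM bV σ with hmS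
  set gS : Sp 2 (ZMod 5) →* GL ι 𝕜 := mS.toHomUnits with hgS
  set mA : SpecialLinearGroup (Fin 2) K →* Matrix ι ι 𝕜 :=
    ((algebraMap F 𝕜).mapMatrix : Matrix ι ι F →+* Matrix ι ι 𝕜).toMonoidHom.comp (cm ρ) with hmA
  have hmAa : ∀ g, mA g = (cm ρ g).map (algebraMap F 𝕜) := fun g => rfl
  set gA : SpecialLinearGroup (Fin 2) K →* GL ι 𝕜 := mA.toHomUnits with hgA
  have hspS : Submodule.span 𝕜 (Set.range mS) = ⊤ := toM_span bV (span_le_mono (jj b) hσ)
  have hspB : Submodule.span 𝕜 (Set.range (toM bV (σ.comp (jj b)))) = ⊤ := toM_span bV hσ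
  obtain ⟨J, hJ⟩ := H920.exists_conj_of_trace (gS.comp (jj b)) gA
    (by
      rw [eq_top_iff]
      intro x _
      have hx : x ∈ Submodule.span 𝕜 (Set.range (toM bV (σ.comp (jj b)))) := by rw [hspB]; trivial
      exact Algebra.span_le_adjoin 𝕜 _ hx)
    (by
      intro g
      change (mS (jj b g)).trace = (mA g).trace
      rw [hmS, toM_trace, ← htr g, hmAa]
      change algebraMap F 𝕜 (cm ρ g).trace = _
      simp [Matrix.trace, map_sum])
  -- the conjugated representation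
  set gT : Sp 2 (ZMod 5) →* GL ι 𝕜 := (MulAut.conj J).toMonoidHom.comp gS with hgT
  have hTj : ∀ g, gT (jj b g) = gA g := fun g => (hJ g).symm
  have htrT : ∀ x, ((gT x : GL ι 𝕜) : Matrix ι ι 𝕜).trace = (mS x).trace := by
    intro x
    change ((J * gS x * J⁻¹ : GL ι 𝕜) : Matrix ι ι 𝕜).trace = _
    rw [Units.val_mul, Units.val_mul, Matrix.trace_mul_comm, ← Matrix.mul_assoc, ← Units.val_mul, inv_mul_cancel,
      Units.val_one, Matrix.one_mul]
    rfl
  have hM : ∀ x, ∃ M₀ : Matrix ι ι F, M₀.map (algebraMap F 𝕜) = ((gT x : GL ι 𝕜) : Matrix ι ι 𝕜) := by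
    intro x
    apply exists_map (cm ρ) (cm_span hC hρ)
    intro g
    apply mem_range_of_pow p
    have h1 : ((gT x : GL ι 𝕜) : Matrix ι ι 𝕜) * (cm ρ g).map (algebraMap F 𝕜) =
        ((gT (x * jj b g) : GL ι 𝕜) : Matrix ι ι 𝕜) := by
      rw [map_mul, Units.val_mul, hTj]
      rfl
    rw [h1, htrT]
    exact trace_frob p hψ hp5 hn mS hspS _
  choose f hf using hM
  have hinj : Function.Injective (fun M : Matrix ι ι F => M.map (algebraMap F 𝕜)) :=
    Matrix.map_injective (algebraMap F 𝕜).injective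
  let mR : Sp 2 (ZMod 5) →* Matrix ι ι F :=
    { toFun := f
      map_one' := by
        apply hinj
        change (f 1).map _ = (1 : Matrix ι ι F).map _
        rw [hf, map_one, Matrix.map_one _ (map_zero _) (map_one _), Units.val_one]
      map_mul' := by
        intro x y
        apply hinj
        change (f (x * y)).map _ = (f x * f y).map _
        rw [hf, map_mul, Matrix.map_mul, hf, hf, Units.val_mul] }
  refine ⟨ρ, mR.toHomUnits, hρ, he', fun g => ?_, fun S hS => ?_⟩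
  · apply Units.ext
    apply hinj
    change (f (jj b g)).map _ = (cm ρ g).map _
    rw [hf, hTj]
    rfl
  · apply hσu
    have h1 : f (uu S) = 1 := congrArg (fun x : GL ι F => (x : Matrix ι ι F)) hS
    have h2 := hf (uu S)
    rw [h1, Matrix.map_one _ (map_zero _) (map_one _)] at h2
    have h3 : gT (uu S) = 1 := Units.ext h2.symm
    have h4 : J * gS (uu S) * J⁻¹ = 1 := h3
    have h5 : gS (uu S) = 1 := by
      rw [mul_inv_eq_one] at h4
      exact mul_eq_left.1 h4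
    have h6 : mS (uu S) = 1 := congrArg (fun x : GL ι 𝕜 => (x : Matrix ι ι 𝕜)) h5
    apply (LinearMap.toMatrix bV bV).injective
    rw [Module.End.one_eq_id, LinearMap.toMatrix_id]
    exact h6

end main

end Cfsg.Agent.H434.K2
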