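import Cfsg.Agent.H434.LD.K2Ext
import Cfsg.Agent.ClassicalGeometry.AutPSL.Main
import Cfsg.Agent.H909.SpBasic
import Cfsg.Agent.S0242
import Cfsg.Agent.H464.L2Num

/-!
# `SL₂(25)` is not maximal in `Sp₁₂(p)`, `p ≡ ±1 mod 5` (helper434)
-/

set_option autoImplicit false
set_option linter.unusedSectionVars false
open Matrix Module Cfsg.Agent.H162.Weil
open scoped commutatorElement

namespace Cfsg.Agent.H434.K2

open Cfsg Cfsg.Geo Cfsg.Agent.H915.LD Cfsg.Agent.H434.MRep Cfsg.Agent.H434.WK Cfsg.Agent.H434.PSp45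

universe u v

section gen

variable {ι : Type} [Fintype ι] [DecidableEq ι] {F : Type u} [Field F]

theorem scalar_comm {z : GL ι F} (hz : z ∈ scalars ι F) (x : GL ι F) : z * x = x * z := by
  rw [mem_scalars_iff] at hz
  obtain ⟨c, hc⟩ := hz
  apply Units.ext
  rw [Units.val_mul, Units.val_mul, hc, mul_smul_comm, smul_mul_assoc, mul_one, one_mul]

/-- homomorphisms of a perfect group that agree modulo scalars -/
theorem hom_eq_of_scalar {G : Type*} [Group G] (hG : commutator G = ⊤) (f₁ f₂ : G →* GL ι F)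
    (h : ∀ g, f₁ g * (f₂ g)⁻¹ ∈ scalars ι F) : f₁ = f₂ := by
  have h1 : commutator G ≤ f₁.eqLocus f₂ := by
    rw [commutator_def, Subgroup.commutator_le]
    intro a _ b _
    change f₁ ⁅a, b⁆ = f₂ ⁅a, b⁆
    obtain ⟨z, hz⟩ : ∃ z, z = f₁ a * (f₂ a)⁻¹ := ⟨_, rfl⟩
    obtain ⟨w, hw⟩ : ∃ w, w = f₁ b * (f₂ b)⁻¹ := ⟨_, rfl⟩
    have hz' : ∀ x, z * x = x * z := fun x => scalar_comm (hz ▸ h a) x
    have hw' : ∀ x, w * x = x * w := fun x => scalar_comm (hw ▸ h b) x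
    have e1 : f₁ a = z * f₂ a := by rw [hz, inv_mul_cancel_right]
    have e2 : f₁ b = w * f₂ b := by rw [hw, inv_mul_cancel_right]
    rw [map_commutatorElement, map_commutatorElement, e1, e2, commutatorElement_def, commutatorElement_def]
    calc z * f₂ a * (w * f₂ b) * (z * f₂ a)⁻¹ * (w * f₂ b)⁻¹
        = z * (f₂ a * w) * f₂ b * ((f₂ a)⁻¹ * z⁻¹) * ((f₂ b)⁻¹ * w⁻¹) := by group
      _ = z * (w * f₂ a) * f₂ b * ((f₂ a)⁻¹ * z⁻¹) * ((f₂ b)⁻¹ * w⁻¹) := by rw [hw' (f₂ a)]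
      _ = (z * w) * (f₂ a * f₂ b * (f₂ a)⁻¹) * z⁻¹ * (f₂ b)⁻¹ * w⁻¹ := by group
      _ = (f₂ a * f₂ b * (f₂ a)⁻¹) * (z * w) * z⁻¹ * (f₂ b)⁻¹ * w⁻¹ := by
          rw [mul_assoc z w, hw', hz' , mul_assoc _ w z, hw' z]
      _ = (f₂ a * f₂ b * (f₂ a)⁻¹) * (z * w * z⁻¹) * (f₂ b)⁻¹ * w⁻¹ := by group
      _ = (f₂ a * f₂ b * (f₂ a)⁻¹) * (w * (f₂ b)⁻¹) * w⁻¹ := by rw [hz' w, mul_inv_cancel_right]; group
      _ = _ := by rw [hw' ((f₂ b)⁻¹)]; group
  rw [hG] at h1
  ext1 g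
  exact h1 (Subgroup.mem_top g)

/-- a matrix commuting with a spanning set is scalar -/
theorem scalar_of_comm {G : Type*} [Group G] {m : G →* Matrix ι ι F} (hm : Submodule.span F (Set.range m) = ⊤)
    {C : Matrix ι ι F} (hC : ∀ g, C * m g = m g * C) : ∃ c : F, C = c • 1 := by
  have hall : ∀ N : Matrix ι ι F, C * N = N * C := by
    intro N
    have hN : N ∈ Submodule.span F (Set.range m) := by rw [hm]; trivial
    induction hN using Submodule.span_induction with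
    | mem x hx => obtain ⟨g, rfl⟩ := hx; exact hC g
    | zero => rw [Matrix.mul_zero, Matrix.zero_mul]
    | add x y _ _ hx hy => rw [Matrix.mul_add, Matrix.add_mul, hx, hy]
    | smul c x _ hx => rw [Matrix.mul_smul, Matrix.smul_mul, hx]
  obtain ⟨c, hc⟩ := Matrix.mem_range_scalar_of_commute_single (M := C) (fun i j _ => (hall _).symm)
  exact ⟨c, by rw [← hc, Matrix.scalar_apply, Matrix.smul_one_eq_diagonal]⟩

end gen

section ext

variable {F : Type u} [Field F] [Fintype F] (p : ℕ) [hp : Fact p.Prime] [CharP F p]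

include p in
/-- **The extension is symplectic.** -/
theorem sp_of_ext (h5 : p ≠ 5) {G : Type*} [Group G] (ρ : G →* GL (Fin 6 ⊕ Fin 6) F) (j : G →* Sp 2 (ZMod 5))
    (R : Sp 2 (ZMod 5) →* GL (Fin 6 ⊕ Fin 6) F) (hR : ∀ g, R (j g) = ρ g) (hspan : Submodule.span F (Set.range (cm ρ)) = ⊤)
    (hsp : ∀ g, ρ g ∈ spGL 6 F) (x : Sp 2 (ZMod 5)) : R x ∈ spGL 6 F := by
  have hn : Fintype.card (Fin 6 ⊕ Fin 6) = 12 := by simp
  have hm : Submodule.span F (Set.range (cm R)) = ⊤ := by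
    rw [eq_top_iff, ← hspan]
    apply Submodule.span_mono
    rintro _ ⟨g, rfl⟩
    exact ⟨j g, by rw [cm_apply, cm_apply, hR]⟩
  have htr : ∀ x, (cm R x).trace = (dual (cm R) x).trace := by
    intro x
    have hfc := fact_card (F := F) p h5
    exact ac_trace_inj (trace_eq p h5 hn hm (dual_span hm) (algebraMap F (AlgebraicClosure F))
      (algebraMap F (AlgebraicClosure F)) (by rw [dual_trace, ← mRep_trace, ← mRep_trace, tr_inv _ rfl]) x)
  obtain ⟨J₁, hJ₁⟩ := H920.exists_conj_of_trace R (dual (cm R)).toHomUnits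
    (by
      rw [eq_top_iff]
      intro x _
      have hx : x ∈ Submodule.span F (Set.range (cm R)) := by rw [hm]; trivial
      exact Algebra.span_le_adjoin F _ hx)
    (fun g => htr g)
  have e1 : ∀ x, (cm R x⁻¹)ᵀ * (J₁ : Matrix _ _ F) = (J₁ : Matrix _ _ F) * cm R x := by
    intro x
    have h1 : (dual (cm R)).toHomUnits x * J₁ = J₁ * R x := by rw [hJ₁, inv_mul_cancel_right]
    exact congrArg (fun y : GL (Fin 6 ⊕ Fin 6) F => (y : Matrix (Fin 6 ⊕ Fin 6) (Fin 6 ⊕ Fin 6) F)) h1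
  set J := Matrix.J (Fin 6) F with hJ
  have hJJ : J * J = -1 := Matrix.J_squared (Fin 6) F
  have e2 : ∀ g, (cm ρ g⁻¹)ᵀ * J = J * cm ρ g := by
    intro g
    have h1 := H909.mem_spGL_iff_transpose.1 (hsp g)
    have h2 : (cm ρ g⁻¹)ᵀ * ((cm ρ g)ᵀ * J * cm ρ g) = J * cm ρ g := by
      rw [← Matrix.mul_assoc, ← Matrix.mul_assoc, ← Matrix.transpose_mul, ← map_mul, mul_inv_cancel, map_one,
        Matrix.transpose_one, Matrix.one_mul]
    rw [← h2]
    congr 1
    exact h1.symm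
  have e3 : ∀ g, (J * (J₁ : Matrix _ _ F)) * cm ρ g = cm ρ g * (J * (J₁ : Matrix _ _ F)) := by
    intro g
    have h1 : cm R (j g) = cm ρ g := by rw [cm_apply, cm_apply, hR]
    have h2 : cm R (j g)⁻¹ = cm ρ g⁻¹ := by rw [← map_inv, cm_apply, cm_apply, hR]
    have h3 := e1 (j g)
    rw [h1, h2] at h3
    have h4 : J * (cm ρ g⁻¹)ᵀ = cm ρ g * J := by
      have h5 := congrArg (fun Y => J * Y * J) (e2 g)
      simp only [← Matrix.mul_assoc] at h5
      rw [Matrix.mul_assoc _ J J, hJJ, Matrix.mul_neg, Matrix.mul_one] at h5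
      simp only [Matrix.neg_mul, Matrix.one_mul] at h5
      exact neg_injective h5
    rw [Matrix.mul_assoc, ← h3, ← Matrix.mul_assoc, h4, Matrix.mul_assoc]
  obtain ⟨c, hc⟩ := scalar_of_comm hspan e3
  have hJ1 : (J₁ : Matrix _ _ F) = (-c) • J := by
    have h1 := congrArg (fun Y => J * Y) hc
    simp only [← Matrix.mul_assoc] at h1
    rw [hJJ, Matrix.neg_mul, Matrix.one_mul, Matrix.mul_smul, Matrix.mul_one] at h1
    rw [neg_smul, ← h1, neg_neg]
  have hc0 : -c ≠ 0 := by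
    intro h
    rw [h, zero_smul] at hJ1
    exact (Units.ne_zero J₁) hJ1
  have e4 : ∀ x, (cm R x⁻¹)ᵀ * J = J * cm R x := by
    intro x
    have h1 := e1 x
    rw [hJ1, Matrix.mul_smul, Matrix.smul_mul] at h1
    exact smul_right_injective _ hc0 h1
  rw [H909.mem_spGL_iff_transpose]
  change (cm R x)ᵀ * J * cm R x = J
  rw [Matrix.mul_assoc, ← e4, ← Matrix.mul_assoc, ← Matrix.transpose_mul, ← map_mul, inv_mul_cancel, map_one,
    Matrix.transpose_one, Matrix.one_mul]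

end ext

section nrm

variable {ι : Type} [Fintype ι] [DecidableEq ι] {F : Type u} [Field F] {P : Subgroup (GL ι F)}
  {K : Type v} [Field K] [Fintype K]

open ClassicalGeometry.AutPSL.Auto in
/-- An element normalising `P` acts on it as a product of a diagonal and a field automorphism. -/
theorem exists_aut (r : ℕ) [Fact r.Prime] [CharP K r] (h4 : 4 ≤ Fintype.card K) {ρ : SpecialLinearGroup (Fin 2) K →* GL ι F}
    (hρ : ρ.range = P)
    (e' : Soc P ≃* ProjectiveSpecialLinearGroup (Fin 2) K) (he' : ∀ (g : SpecialLinearGroup (Fin 2) K) (h : ρ g ∈ P),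
        e' (toSoc P ⟨ρ g, h⟩) = QuotientGroup.mk g) {h : GL ι F} (hh : ∀ x ∈ P, h * x * h⁻¹ ∈ P)
    (hh' : ∀ x ∈ P, h⁻¹ * x * h ∈ P) :
    ∃ (A : GL (Fin 2) K) (σ : K ≃+* K), ∀ g, h * ρ g * h⁻¹ = ρ (cj A (fld σ g)) := by
  have hmem : ∀ g, ρ g ∈ P := fun g => hρ ▸ ⟨g, rfl⟩
  let f₁ : SpecialLinearGroup (Fin 2) K →* GL ι F := (MulAut.conj h).toMonoidHom.comp ρ
  have hf₁ : ∀ g, f₁ g = h * ρ g * h⁻¹ := fun g => rfl
  have hf₁P : ∀ g, f₁ g ∈ P := fun g => hh _ (hmem g)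
  let q : SpecialLinearGroup (Fin 2) K →* ProjectiveSpecialLinearGroup (Fin 2) K :=
    e'.toMonoidHom.comp ((toSoc P).comp (f₁.codRestrict P hf₁P))
  have hq : ∀ g, q g = e' (toSoc P ⟨f₁ g, hf₁P g⟩) := fun g => rfl
  have hqs : Function.Surjective q := by
    refine e'.surjective.comp ((toSoc_surjective P).comp ?_)
    rintro ⟨x, hx⟩
    have h1 := hh' x hx
    rw [← hρ] at h1
    obtain ⟨g, hg⟩ := h1
    refine ⟨g, Subtype.ext ?_⟩
    change h * ρ g * h⁻¹ = x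
    rw [hg]
    group
  have hker : ∀ x : P, toSoc P x = 1 ↔ (x : GL ι F) ∈ scalars ι F := by
    intro x
    rw [← MonoidHom.mem_ker, ker_toSoc]
    exact Iff.rfl
  have hcen : Subgroup.center (SpecialLinearGroup (Fin 2) K) ≤ q.ker := by
    intro g hg
    have h1 : e' (toSoc P ⟨ρ g, hmem g⟩) = 1 := by
      rw [he']
      exact (QuotientGroup.eq_one_iff g).2 hg
    rw [map_eq_one_iff e' e'.injective, hker] at h1
    rw [MonoidHom.mem_ker, hq, map_eq_one_iff e' e'.injective, hker]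
    have h2 : f₁ g = ρ g := by
      rw [hf₁, ← scalar_comm h1 h, mul_inv_cancel_right]
    change f₁ g ∈ _
    rw [h2]
    exact h1
  let qb : ProjectiveSpecialLinearGroup (Fin 2) K →* ProjectiveSpecialLinearGroup (Fin 2) K :=
    QuotientGroup.lift _ q hcen
  have hqbs : Function.Surjective qb := by
    intro x
    obtain ⟨g, rfl⟩ := hqs x
    exact ⟨QuotientGroup.mk g, rfl⟩
  have : Finite (ProjectiveSpecialLinearGroup (Fin 2) K) := Quotient.finite _
  let α : MulAut (ProjectiveSpecialLinearGroup (Fin 2) K) :=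
    MulEquiv.ofBijective qb ⟨Finite.injective_iff_surjective.2 hqbs, hqbs⟩
  obtain ⟨A, σ, hα⟩ := ClassicalGeometry.AutPSL.Main.surj_two r α
  refine ⟨A, σ, ?_⟩
  have key := hom_eq_of_scalar (H464.Sl2.commutator_sl2 h4) f₁ (ρ.comp (cj A * fld σ : MulAut (SpecialLinearGroup (Fin 2) K)).toMonoidHom) (by
    intro g
    have h1 : q g = e' (toSoc P ⟨ρ ((cj A * fld σ : MulAut (SpecialLinearGroup (Fin 2) K)) g), hmem _⟩) := by
      rw [he']
      have h2 : α (QuotientGroup.mk g) = lift (cj A * fld σ) (QuotientGroup.mk g) := by rw [hα]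
      exact h2
    rw [hq] at h1
    have h3 := e'.injective h1
    have h4 : toSoc P (⟨f₁ g, hf₁P g⟩ * ⟨ρ ((cj A * fld σ : MulAut (SpecialLinearGroup (Fin 2) K)) g), hmem _⟩⁻¹) = 1 := by
      rw [map_mul, map_inv, h3, mul_inv_cancel]
    rw [hker] at h4
    exact h4)
  intro g
  exact DFunLike.congr_fun key g

end nrm

section diag

variable {K : Type v} [Field K]

open ClassicalGeometry.AutPSL.Auto

theorem cj_u (A : GL (Fin 2) K) (y : K) : ∃ s : SpecialLinearGroup (Fin 2) K,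
    cj A (H464.Sl2.u y) = s * H464.Sl2.u ((A : Matrix (Fin 2) (Fin 2) K).det * y) * s⁻¹ := by
  set δ := (A : Matrix (Fin 2) (Fin 2) K).det with hδ
  have hδ0 : δ ≠ 0 := by
    rw [hδ]
    exact (Matrix.isUnits_det_units A).ne_zero
  let D : Matrix (Fin 2) (Fin 2) K := !![δ⁻¹, 0; 0, 1]
  let D' : Matrix (Fin 2) (Fin 2) K := !![δ, 0; 0, 1]
  have hDD : D * D' = 1 := by
    ext i j
    fin_cases i <;> fin_cases j <;> simp [D, D', Matrix.mul_apply, Fin.sum_univ_two, hδ0]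
  have hs : ((A : Matrix (Fin 2) (Fin 2) K) * D).det = 1 := by
    rw [Matrix.det_mul, Matrix.det_fin_two_of, mul_one, mul_zero, sub_zero, mul_inv_cancel₀ hδ0]
  let s : SpecialLinearGroup (Fin 2) K := ⟨(A : Matrix (Fin 2) (Fin 2) K) * D, hs⟩
  refine ⟨s, ?_⟩
  rw [eq_mul_inv_iff_mul_eq]
  apply Subtype.ext
  change ((A : Matrix (Fin 2) (Fin 2) K) * (H464.Sl2.u y).1 * ((A⁻¹ : GL (Fin 2) K) : Matrix (Fin 2) (Fin 2) K)) *
    ((A : Matrix (Fin 2) (Fin 2) K) * D) = (A : Matrix (Fin 2) (Fin 2) K) * D * (H464.Sl2.u (δ * y)).1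
  have h1 : (H464.Sl2.u y).1 * D = D * (H464.Sl2.u (δ * y)).1 := by
    change !![1, y; 0, 1] * D = D * !![1, δ * y; 0, 1]
    ext i j
    fin_cases i <;> fin_cases j <;> simp [D, Matrix.mul_apply, Fin.sum_univ_two, hδ0]
  calc _ = (A : Matrix (Fin 2) (Fin 2) K) * (H464.Sl2.u y).1 *
        (((A⁻¹ : GL (Fin 2) K) : Matrix (Fin 2) (Fin 2) K) * (A : Matrix (Fin 2) (Fin 2) K)) * D := by
          simp only [Matrix.mul_assoc]
    _ = (A : Matrix (Fin 2) (Fin 2) K) * ((H464.Sl2.u y).1 * D) := by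
          rw [← Units.val_mul, inv_mul_cancel, Units.val_one, Matrix.mul_one, Matrix.mul_assoc]
    _ = _ := by rw [h1, ← Matrix.mul_assoc]

theorem cj_of_sq (A : GL (Fin 2) K) (h : IsSquare (A : Matrix (Fin 2) (Fin 2) K).det) :
    ∃ s : SpecialLinearGroup (Fin 2) K, ∀ g, cj A g = s * g * s⁻¹ := by
  obtain ⟨μ, hμ⟩ := h
  have hδ0 : (A : Matrix (Fin 2) (Fin 2) K).det ≠ 0 := (Matrix.isUnits_det_units A).ne_zero
  have hμ0 : μ ≠ 0 := by
    rintro rfl
    rw [mul_zero] at hμ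
    exact hδ0 hμ
  have hs : (μ⁻¹ • (A : Matrix (Fin 2) (Fin 2) K)).det = 1 := by
    rw [Matrix.det_smul, Fintype.card_fin, hμ]
    field_simp
  let s : SpecialLinearGroup (Fin 2) K := ⟨μ⁻¹ • (A : Matrix (Fin 2) (Fin 2) K), hs⟩
  refine ⟨s, fun g => ?_⟩
  rw [eq_mul_inv_iff_mul_eq]
  apply Subtype.ext
  change ((A : Matrix (Fin 2) (Fin 2) K) * g.1 * ((A⁻¹ : GL (Fin 2) K) : Matrix (Fin 2) (Fin 2) K)) *
    (μ⁻¹ • (A : Matrix (Fin 2) (Fin 2) K)) = (μ⁻¹ • (A : Matrix (Fin 2) (Fin 2) K)) * g.1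
  rw [Matrix.mul_smul, Matrix.smul_mul, Matrix.mul_assoc, ← Units.val_mul, inv_mul_cancel, Units.val_one, Matrix.mul_one]

theorem fld_u (σ : K ≃+* K) (y : K) : fld σ (H464.Sl2.u y) = H464.Sl2.u (σ y) := by
  apply Subtype.ext
  ext i j
  rw [coe_fld_apply]
  change σ (!![1, y; 0, 1] i j) = !![1, σ y; 0, 1] i j
  fin_cases i <;> fin_cases j <;> simp

end diag

section nrm2

variable {ι : Type} [Fintype ι] [DecidableEq ι] {F : Type u} [Field F] {K : Type v} [Field K] [Fintype K]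

open ClassicalGeometry.AutPSL.Auto in
theorem exists_sl {ρ : SpecialLinearGroup (Fin 2) K →* GL ι F}
    (hdiag : ∀ x y : K, ¬ IsSquare (x * y) → tr (ρ (H464.Sl2.u x)) ≠ tr (ρ (H464.Sl2.u y))) {h : GL ι F}
    {A : GL (Fin 2) K} {σ : K ≃+* K} (hA : ∀ g, h * ρ g * h⁻¹ = ρ (cj A (fld σ g))) :
    ∃ s : SpecialLinearGroup (Fin 2) K, ∀ g, h * ρ g * h⁻¹ = ρ (s * fld σ g * s⁻¹) := by
  have hsq : IsSquare (A : Matrix (Fin 2) (Fin 2) K).det := by
    by_contra hns
    obtain ⟨s, hs⟩ := cj_u A 1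
    have h1 := hA (H464.Sl2.u 1)
    rw [fld_u, map_one, hs, mul_one, map_mul, map_mul, map_inv] at h1
    have h2 := congrArg tr h1
    rw [tr_conj, tr_conj] at h2
    exact hdiag 1 _ (by rwa [one_mul]) h2
  obtain ⟨s, hs⟩ := cj_of_sq A hsq
  exact ⟨s, fun g => by rw [hA, hs]⟩

end nrm2

section fin

variable {F : Type u} [Field F] [Fintype F] {K : Type v} [Field K] [Fintype K]

theorem Su_mul [Algebra (ZMod 5) K] (b : Basis (Fin 2) (ZMod 5) K) (σ τ : K ≃ₐ[ZMod 5] K) :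
    Su b (σ * τ) = Su b σ * Su b τ := by
  apply Units.ext
  rw [Units.val_mul, Su_coe, Su_coe, Su_coe, Sg_mul]

theorem Su_one [Algebra (ZMod 5) K] (b : Basis (Fin 2) (ZMod 5) K) : Su b (1 : K ≃ₐ[ZMod 5] K) = 1 := by
  apply Units.ext
  rw [Su_coe, Sg_one, Units.val_one]

open ClassicalGeometry.AutPSL.Auto in
/-- **Elements of `H` lie in the image of `Sp₄(5)`.** -/
theorem elt_form [Algebra (ZMod 5) K] (b : Basis (Fin 2) (ZMod 5) K)
    (ρ : SpecialLinearGroup (Fin 2) K →* GL (Fin 6 ⊕ Fin 6) F) (R : Sp 2 (ZMod 5) →* GL (Fin 6 ⊕ Fin 6) F)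
    (hR : ∀ g, R (jj b g) = ρ g) (hspan : Submodule.span F (Set.range (cm ρ)) = ⊤) (hRsp : ∀ x, R x ∈ spGL 6 F)
    (hneg : ρ (H464.Sl2.t (-1)) = -1) {h : GL (Fin 6 ⊕ Fin 6) F} (hh : h ∈ spGL 6 F) {s : SpecialLinearGroup (Fin 2) K}
    {σ : K ≃+* K} (hs : ∀ g, h * ρ g * h⁻¹ = ρ (s * fld σ g * s⁻¹)) :
    ∃ (s : SpecialLinearGroup (Fin 2) K) (τ : K ≃ₐ[ZMod 5] K), h = ρ s * R (mm (Su b τ)) := by
  let τ : K ≃ₐ[ZMod 5] K := AlgEquiv.ofRingEquiv (f := σ) (fun r => by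
    have h1 : ((σ : K →+* K).comp (algebraMap (ZMod 5) K)) = algebraMap (ZMod 5) K := Subsingleton.elim _ _
    exact RingHom.congr_fun h1 r)
  have hτ : ∀ g : SpecialLinearGroup (Fin 2) K, SpecialLinearGroup.map (τ : K →+* K) g = fld σ g := by
    intro g
    apply Subtype.ext
    ext i j
    rfl
  set y := R (mm (Su b τ)) with hy
  have h1 : ∀ g, y * ρ g = ρ (fld σ g) * y := by
    intro g
    rw [hy, ← hR, ← map_mul, jj_map, map_mul, hτ, hR]
  set x := ρ s * y with hx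
  have hxsp : x ∈ spGL 6 F := by
    rw [hx, ← hR]
    exact mul_mem (hRsp _) (hRsp _)
  have h2 : ∀ g, (x⁻¹ * h) * ρ g = ρ g * (x⁻¹ * h) := by
    intro g
    have h3 : h * ρ g = ρ s * ρ (fld σ g) * (ρ s)⁻¹ * h := by
      have := hs g
      rw [mul_inv_eq_iff_eq_mul] at this
      rw [this, map_mul, map_mul, map_inv]
    have h4 : x * ρ g = ρ s * ρ (fld σ g) * (ρ s)⁻¹ * x := by
      rw [hx, mul_assoc, h1]
      group
    have h5 : ρ g = x⁻¹ * (ρ s * ρ (fld σ g) * (ρ s)⁻¹) * x := by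
      rw [mul_assoc x⁻¹, ← h4, inv_mul_cancel_left]
    calc (x⁻¹ * h) * ρ g = x⁻¹ * (h * ρ g) := mul_assoc _ _ _
      _ = x⁻¹ * (ρ s * ρ (fld σ g) * (ρ s)⁻¹ * h) := by rw [h3]
      _ = (x⁻¹ * (ρ s * ρ (fld σ g) * (ρ s)⁻¹) * x) * (x⁻¹ * h) := by group
      _ = _ := by rw [← h5]
  obtain ⟨c, hc⟩ := scalar_of_comm (C := ((x⁻¹ * h : GL (Fin 6 ⊕ Fin 6) F) : Matrix _ _ F)) hspan (fun g =>
    congrArg (fun y : GL (Fin 6 ⊕ Fin 6) F => (y : Matrix (Fin 6 ⊕ Fin 6) (Fin 6 ⊕ Fin 6) F)) (h2 g))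
  have h3 : x⁻¹ * h ∈ spGL 6 F := mul_mem (inv_mem hxsp) hh
  rw [H909.mem_spGL_iff_transpose, hc] at h3
  have h4 : c * c = 1 := by
    have h5 := congrFun (congrFun h3 (Sum.inr 0)) (Sum.inl 0)
    rw [Matrix.transpose_smul, Matrix.transpose_one, Matrix.smul_mul, Matrix.one_mul, Matrix.mul_smul, Matrix.mul_one,
      smul_smul, Matrix.smul_apply] at h5
    simp [Matrix.J] at h5
    exact h5
  rcases mul_self_eq_one_iff.1 h4 with h5 | h5
  · refine ⟨s, τ, ?_⟩
    have h6 : x⁻¹ * h = 1 := by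
      apply Units.ext
      rw [hc, h5, one_smul]
      rfl
    rw [inv_mul_eq_one] at h6
    exact h6.symm
  · refine ⟨s * H464.Sl2.t (-1), τ, ?_⟩
    have h6 : x⁻¹ * h = -1 := by
      apply Units.ext
      rw [hc, h5, neg_one_smul]
      rfl
    rw [inv_mul_eq_iff_eq_mul] at h6
    rw [h6, map_mul, hneg, ← hy, hx]
    simp

theorem gal_sq [Algebra (ZMod 5) K] (b : Basis (Fin 2) (ZMod 5) K) (τ : K ≃ₐ[ZMod 5] K) : τ * τ = 1 := by
  have h1 : Nat.card (K ≃ₐ[ZMod 5] K) = 2 := by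
    rw [IsGalois.card_aut_eq_finrank, Module.finrank_eq_card_basis b, Fintype.card_fin]
  have h2 := pow_card_eq_one' (x := τ)
  rwa [h1, sq] at h2

/-- squares of elements of `H` lie in `P` -/
theorem sq_mem [Algebra (ZMod 5) K] (b : Basis (Fin 2) (ZMod 5) K)
    (ρ : SpecialLinearGroup (Fin 2) K →* GL (Fin 6 ⊕ Fin 6) F) (R : Sp 2 (ZMod 5) →* GL (Fin 6 ⊕ Fin 6) F)
    (hR : ∀ g, R (jj b g) = ρ g) {h : GL (Fin 6 ⊕ Fin 6) F} (s : SpecialLinearGroup (Fin 2) K) (τ : K ≃ₐ[ZMod 5] K)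
    (hh : h = ρ s * R (mm (Su b τ))) : h * h ∈ ρ.range := by
  set y := R (mm (Su b τ)) with hy
  have h1 : ∀ g, y * ρ g = ρ (SpecialLinearGroup.map (τ : K →+* K) g) * y := by
    intro g
    rw [hy, ← hR, ← map_mul, jj_map, map_mul, hR]
  have h2 : y * y = 1 := by
    rw [hy, ← map_mul, ← map_mul, ← Su_mul, gal_sq b, Su_one, map_one, map_one]
  refine ⟨s * SpecialLinearGroup.map (τ : K →+* K) s, ?_⟩
  rw [hh, mul_assoc, ← mul_assoc y, h1, mul_assoc, h2, mul_one, map_mul]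

/-- `F_5³ → Sym` -/
def sy : Multiplicative (ZMod 5 × ZMod 5 × ZMod 5) →* Sp 2 (ZMod 5) where
  toFun v := uu ⟨!![(Multiplicative.toAdd v).1, (Multiplicative.toAdd v).2.1; (Multiplicative.toAdd v).2.1,
    (Multiplicative.toAdd v).2.2], by
      rw [mem_Sym]
      ext i j
      fin_cases i <;> fin_cases j <;> rfl⟩
  map_one' := by
    rw [← uu_zero]
    congr 1
    apply Subtype.ext
    ext i j
    fin_cases i <;> fin_cases j <;> rfl
  map_mul' v w := by
    rw [← uu_add]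
    congr 1
    apply Subtype.ext
    ext i j
    fin_cases i <;> fin_cases j <;> rfl

theorem sy_eq (v : Multiplicative (ZMod 5 × ZMod 5 × ZMod 5)) : ∃ S, sy v = uu S ∧ (S = 0 → v = 1) := by
  refine ⟨_, rfl, fun h => ?_⟩
  have h1 := congrArg Subtype.val h
  have e1 := congrFun (congrFun h1 0) 0
  have e2 := congrFun (congrFun h1 0) 1
  have e3 := congrFun (congrFun h1 1) 1
  exact Prod.ext e1 (Prod.ext e2 e3)

/-- `125` divides the order of a group containing the image of the unipotent radical -/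
theorem dvd_card (R : Sp 2 (ZMod 5) →* GL (Fin 6 ⊕ Fin 6) F) (hRu : ∀ S, R (uu S) = 1 → S = 0)
    (P : Subgroup (GL (Fin 6 ⊕ Fin 6) F)) (hP : ∀ S, R (uu S) ∈ P) : 125 ∣ Nat.card P := by
  have h1 : ∀ v, (R.comp sy) v ∈ P := by
    intro v
    obtain ⟨S, hS, -⟩ := sy_eq v
    rw [MonoidHom.comp_apply, hS]
    exact hP S
  have h2 : Function.Injective ((R.comp sy).codRestrict P h1) := by
    rw [injective_iff_map_eq_one]
    intro v hv
    have h3 : R (sy v) = 1 := congrArg Subtype.val hv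
    obtain ⟨S, hS, hS0⟩ := sy_eq v
    rw [hS] at h3
    exact hS0 (hRu S h3)
  have h3 := Subgroup.card_dvd_of_injective _ h2
  have h4 : Nat.card (Multiplicative (ZMod 5 × ZMod 5 × ZMod 5)) = 125 := by
    rw [Nat.card_congr Multiplicative.toAdd, Nat.card_prod, Nat.card_prod, Nat.card_zmod]
  rwa [h4] at h3

theorem uu_five (S : Sym 2 (ZMod 5)) : (uu S) ^ 5 = 1 := by
  have h1 : ∀ m : ℕ, (uu S) ^ m = uu (m • S) := by
    intro m
    induction m with
    | zero => rw [pow_zero, zero_smul, uu_zero]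
    | succ m ih => rw [pow_succ, ih, succ_nsmul, uu_add]
  rw [h1, ← uu_zero]
  congr 1
  apply Subtype.ext
  ext i j
  rw [AddSubgroup.coe_nsmul, Matrix.smul_apply]
  rw [nsmul_eq_mul]
  have h5 : ((5 : ℕ) : ZMod 5) = 0 := rfl
  rw [h5, zero_mul]
  rfl

/-- a lower bound for the order of `Sp₁₂(q)` -/
theorem card_spGL_ge : Fintype.card F ^ 12 ≤ Nat.card (spGL 6 F) := by
  classical
  have hmem : ∀ d d' : Fin 6 → F, fromBlocks (1 + Matrix.diagonal d * Matrix.diagonal d') (Matrix.diagonal d)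
      (Matrix.diagonal d') 1 ∈ Matrix.symplecticGroup (Fin 6) F := by
    intro d d'
    rw [SymplecticGroup.fromBlocks_mem_iff]
    refine ⟨?_, ?_, ?_⟩
    · rw [Matrix.diagonal_mul_diagonal, Matrix.transpose_add, Matrix.transpose_one, Matrix.diagonal_transpose,
        Matrix.diagonal_transpose, Matrix.add_mul, Matrix.mul_add, Matrix.one_mul, Matrix.mul_one,
        Matrix.diagonal_mul_diagonal, Matrix.diagonal_mul_diagonal]
      congr 2
      ext i
      ring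
    · rw [Matrix.mul_one, Matrix.transpose_one, Matrix.one_mul, Matrix.diagonal_transpose]
    · rw [Matrix.mul_one, Matrix.diagonal_mul_diagonal, Matrix.transpose_add, Matrix.transpose_one,
        Matrix.diagonal_transpose, Matrix.diagonal_transpose, Matrix.diagonal_mul_diagonal]
      have h1 : (fun i => d i * d' i) = fun i => d' i * d i := by
        ext i
        ring
      rw [h1, add_sub_cancel_right]
  let f : (Fin 6 → F) × (Fin 6 → F) → spGL 6 F := fun v =>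
    ⟨⟨(⟨_, hmem v.1 v.2⟩ : Matrix.symplecticGroup (Fin 6) F).1,
      ((⟨_, hmem v.1 v.2⟩ : Matrix.symplecticGroup (Fin 6) F)⁻¹).1,
      congrArg Subtype.val (mul_inv_cancel (⟨_, hmem v.1 v.2⟩ : Matrix.symplecticGroup (Fin 6) F)),
      congrArg Subtype.val (inv_mul_cancel (⟨_, hmem v.1 v.2⟩ : Matrix.symplecticGroup (Fin 6) F))⟩,
      H909.mem_spGL_iff_symplectic.2 (hmem v.1 v.2)⟩
  have hf : Function.Injective f := by
    rintro ⟨d, d'⟩ ⟨c, c'⟩ h
    have h1 := congrArg (fun x : spGL 6 F => ((x : GL (Fin 6 ⊕ Fin 6) F) : Matrix (Fin 6 ⊕ Fin 6) (Fin 6 ⊕ Fin 6) F)) h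
    change fromBlocks _ _ _ _ = fromBlocks _ _ _ _ at h1
    rw [Matrix.fromBlocks_inj] at h1
    obtain ⟨-, h2, h3, -⟩ := h1
    exact Prod.ext (Matrix.diagonal_injective h2) (Matrix.diagonal_injective h3)
  have h1 := Nat.card_le_card_of_injective f hf
  rw [Nat.card_prod, Nat.card_eq_fintype_card, Fintype.card_fun, Fintype.card_fin, ← pow_add] at h1
  exact h1

/-- an upper bound for the order of `Sp₄(5)` -/
theorem card_sp_le : Nat.card (Sp 2 (ZMod 5)) ≤ 5 ^ 16 := by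
  have h1 := Nat.card_le_card_of_injective
    (fun x : Sp 2 (ZMod 5) => (x.1 : Fin 2 ⊕ Fin 2 → Fin 2 ⊕ Fin 2 → ZMod 5)) Subtype.val_injective
  refine h1.trans (le_of_eq ?_)
  change Nat.card (Fin 2 ⊕ Fin 2 → Fin 2 ⊕ Fin 2 → ZMod 5) = _
  rw [Nat.card_eq_fintype_card, Fintype.card_fun, Fintype.card_fun, ZMod.card, Fintype.card_sum, Fintype.card_fin,
    ← pow_mul]

theorem card_sl_25 (hK : Fintype.card K = 25) : Nat.card (SpecialLinearGroup (Fin 2) K) = 15600 := by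
  have h := S0242.result (F := K) rfl 2 (by norm_num)
  rw [Fin.prod_univ_two, hK] at h
  norm_num at h
  omega

theorem charP_five (hK : Fintype.card K = 25) : CharP K 5 := by
  have hch : ringChar K = 5 := by
    obtain ⟨n, hn1, hn2⟩ := FiniteField.card K (ringChar K)
    rw [hK] at hn2
    have h10 : ringChar K ∣ 5 ^ 2 := by
      have h11 : ringChar K ∣ 25 := by
        rw [hn2]
        exact dvd_pow_self _ n.ne_zero
      exact h11
    exact (Nat.prime_dvd_prime_iff_eq hn1 (by norm_num)).1 (hn1.dvd_of_dvd_pow h10)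
  rw [← hch]
  infer_instance

end fin

/-- **K2**: `2.PSL₂(25)` is not the core of a maximal subgroup of `Sp₁₂(F)` when `p = ±1 mod 5`. -/
theorem not_maximal {F : Type u} [Field F] [Fintype F] (p : ℕ) [hp : Fact p.Prime] [CharP F p]
    {H P : Subgroup (GL (Fin 6 ⊕ Fin 6) F)} (hH : IsMaximalIn (spGL 6 F) H) (hc : IsResidualCore H P)
    {K : Type v} [Field K] [Fintype K] (hK : Fintype.card K = 25)
    (e : Soc P ≃* ProjectiveSpecialLinearGroup (Fin 2) K) (hp5 : p % 5 = 1 ∨ p % 5 = 4) : False := by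
  classical
  have h5 : p ≠ 5 := by rintro rfl; omega
  have hp2 : p ≠ 2 := by rintro rfl; omega
  have hC := core_of_residual hc
  have hn : Fintype.card (Fin 6 ⊕ Fin 6) = 12 := by simp
  obtain ⟨-, -, hF⟩ := H464.Sl2.l2_25_12 p hC hK h5 e hn
  have hcp := charP_five hK
  have : Fact (Nat.Prime 5) := ⟨by norm_num⟩
  let : Algebra (ZMod 5) K := ZMod.algebra K 5
  have hfr : finrank (ZMod 5) K = 2 := by
    have h1 := Module.card_eq_pow_finrank (K := ZMod 5) (V := K)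
    rw [ZMod.card, hK] at h1
    have h2 : (5 : ℕ) ^ 2 = 5 ^ finrank (ZMod 5) K := by rw [← h1]; norm_num
    exact (Nat.pow_right_injective (le_refl 2 |>.trans (by norm_num)) h2).symm
  let b : Basis (Fin 2) (ZMod 5) K := finBasisOfFinrankEq (ZMod 5) K hfr
  obtain ⟨ρ, R, hρ, ⟨e', he'⟩, hR, hRu⟩ := exists_ext p hC b hp5 hp2 hF hn e
  have hspan := cm_span hC hρ
  have hρP : ∀ g, ρ g ∈ P := fun g => hρ ▸ ⟨g, rfl⟩
  have hρsp : ∀ g, ρ g ∈ spGL 6 F := fun g => hH.1.le (hc.le (hρP g))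
  have hRsp : ∀ x, R x ∈ spGL 6 F := sp_of_ext p h5 ρ (jj b) R hR hspan hρsp
  have hpK : ¬ p ∣ Fintype.card K := by
    rw [hK]
    intro h
    exact h5 ((Nat.prime_dvd_prime_iff_eq hp.out (by norm_num)).1 (hp.out.dvd_of_dvd_pow (n := 2) (by norm_num; exact h)))
  obtain ⟨-, hf2, hf3, -⟩ := H464.Sl2.half_field p hC ρ hρ hpK (by omega) (by omega)
  have hneg : ρ (H464.Sl2.t (-1)) = -1 := by
    obtain ⟨c, -, hcc⟩ := H830.Sl2Form.scalar_t ρ (hρ ▸ hC.absIrred)
    have h3 := (hf2 (by omega)).1 c hcc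
    have h4 : H464.Sl2.eta F (-1 : K) = 1 := by
      rw [H464.Sl2.eta, (quadraticChar_one_iff_isSquare (by simp)).2
        (FiniteField.isSquare_neg_one_iff.2 (by omega)), Int.cast_one]
    rw [h4] at h3
    apply Units.ext
    refine hcc.trans ?_
    rw [h3, neg_one_smul]
    rfl
  -- every element of `H`
  have hform : ∀ h ∈ H, ∃ (s : SpecialLinearGroup (Fin 2) K) (τ : K ≃ₐ[ZMod 5] K), h = ρ s * R (mm (Su b τ)) := by
    intro h hh
    obtain ⟨A, σ, hA⟩ := exists_aut 5 (by omega) hρ e' he' (h := h) (fun x hx => hc.normal h hh x hx) (fun x hx => by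
      have h1 := hc.normal h⁻¹ (inv_mem hh) x hx
      rwa [inv_inv] at h1)
    obtain ⟨s, hs⟩ := exists_sl hf3 hA
    exact elt_form b ρ R hR hspan hRsp hneg (hH.1.le hh) hs
  have hHX : H ≤ R.range := by
    intro h hh
    obtain ⟨s, τ, h1⟩ := hform h hh
    rw [h1, ← hR, ← map_mul]
    exact ⟨_, rfl⟩
  have hXsp : R.range ≤ spGL 6 F := by
    rintro _ ⟨x, rfl⟩
    exact hRsp x
  rcases hH.2 R.range hHX hXsp with hX | hX
  · -- `X = H`
    have h1 : ∀ S, R (uu S) ∈ P := by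
      intro S
      have h2 : R (uu S) ∈ H := by
        rw [← hX]
        exact ⟨_, rfl⟩
      obtain ⟨s, τ, h3⟩ := hform _ h2
      have h4 := sq_mem b ρ R hR s τ h3
      rw [hρ] at h4
      have h6 : R (uu S) = (R (uu S) * R (uu S)) ^ 3 := by
        rw [← sq, ← pow_mul, ← map_pow, pow_succ (uu S) 5, uu_five, one_mul]
      rw [h6]
      exact pow_mem h4 3
    have h2 := dvd_card R hRu P h1
    have h3 : Nat.card P ∣ Nat.card (SpecialLinearGroup (Fin 2) K) := by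
      rw [← hρ]
      exact Subgroup.card_range_dvd ρ
    rw [card_sl_25 hK] at h3
    have h4 := h2.trans h3
    norm_num at h4
  · -- `X = Sp`
    have h1 := card_spGL_ge (F := F)
    rw [← hX] at h1
    have h2 : Nat.card R.range ≤ Nat.card (Sp 2 (ZMod 5)) := Nat.card_le_card_of_surjective R.rangeRestrict
      R.rangeRestrict_surjective
    have h3 := (h1.trans h2).trans card_sp_le
    rw [hF] at h3
    have h4 : 11 ≤ p := by
      by_contra hlt
      push Not at hlt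
      have hpr := hp.out
      interval_cases p <;> first | omega | (norm_num at hpr)
    have h6 : 11 ^ 12 ≤ p ^ 12 := Nat.pow_le_pow_left h4 12
    have h7 : (5 : ℕ) ^ 16 < 11 ^ 12 := by norm_num
    omega

end Cfsg.Agent.H434.K2
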