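import Cfsg.Agent.H434.LD.K2Emb

/-!
# The odd half of the Weil representation of `Sp_2n(k)`, restricted to `SL₂(K)`, spans (helper434)
-/

set_option autoImplicit false
set_option linter.unusedSectionVars false
open Matrix Module Cfsg.Agent.H162.Weil Cfsg.Agent.H434.WK

namespace Cfsg.Agent.H434.K2

variable {k : Type*} [Field k] [Fintype k] {𝕜 : Type*} [Field 𝕜] [hq : Fact ((Fintype.card k : 𝕜) ≠ 0)]
  [hk2 : Fact ((2 : 𝕜) ≠ 0)] {n : ℕ}

/-- the odd half -/
def oddRep (ω : Representation 𝕜 (Sp n k) (W n k 𝕜)) (hω : ∀ g f, ω g (Pop f) = Pop (ω g f)) :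
    Representation 𝕜 (Sp n k) (Es n k (-1 : 𝕜)) where
  toFun g := (ω g).restrict (p := Es n k (-1 : 𝕜)) (q := Es n k (-1 : 𝕜)) (fun f hf => by
    have h1 : CP (ω g) := hω g
    exact h1.mem hf)
  map_one' := by
    apply LinearMap.ext
    intro f
    apply Subtype.ext
    rw [LinearMap.coe_restrict_apply, map_one]
    rfl
  map_mul' a b := by
    apply LinearMap.ext
    intro f
    apply Subtype.ext
    rw [LinearMap.coe_restrict_apply, map_mul]
    rfl

theorem oddRep_coe (ω : Representation 𝕜 (Sp n k) (W n k 𝕜)) (hω : ∀ g f, ω g (Pop f) = Pop (ω g f)) (g : Sp n k)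
    (f : Es n k (-1 : 𝕜)) : ((oddRep ω hω g f : Es n k (-1 : 𝕜)) : W n k 𝕜) = ω g f := rfl

theorem odd_neg (f : Es n k (-1 : 𝕜)) (x : Fin n → k) : f.1 (-x) = -f.1 x := by
  have h := f.2 x
  rw [neg_one_mul] at h
  exact h

theorem odd_zero (f : Es n k (-1 : 𝕜)) : f.1 0 = 0 := by
  have h := odd_neg f 0
  rw [neg_zero] at h
  have h1 : (2 : 𝕜) * f.1 0 = 0 := by linear_combination h
  exact (mul_eq_zero.1 h1).resolve_left hk2.out

/-- `δ_x - δ_{-x}` -/
noncomputable def dd (x : Fin n → k) : Es n k (-1 : 𝕜) := ⟨dl x - dl (-x), by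
  intro y
  rw [Pi.sub_apply, Pi.sub_apply]
  by_cases h1 : y = x
  · subst h1
    by_cases h2 : -y = y
    · rw [h2, sub_self]; ring
    · rw [dl_ne h2, dl_self, dl_self, dl_ne (fun h => h2 h.symm)]; ring
  · by_cases h2 : y = -x
    · subst h2
      rw [neg_neg, dl_self, dl_self, dl_ne h1, dl_ne (fun h => h1 h.symm)]; ring
    · rw [dl_ne (y := -y) (x := x) (fun h => h2 (by rw [← h, neg_neg])), dl_ne (y := -y) (x := -x) (fun h => h1 (neg_injective h)),
        dl_ne h1, dl_ne h2]; ring⟩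

theorem dd_apply (x y : Fin n → k) : (dd x : Es n k (-1 : 𝕜)).1 y = (dl x : W n k 𝕜) y - (dl (-x) : W n k 𝕜) y := rfl

theorem dd_zero : (dd (0 : Fin n → k) : Es n k (-1 : 𝕜)) = 0 := by
  apply Subtype.ext
  ext y
  rw [dd_apply, neg_zero, sub_self]
  rfl

theorem dd_self (h2 : (2 : k) ≠ 0) {x : Fin n → k} (hx : x ≠ 0) : (dd x : Es n k (-1 : 𝕜)).1 x = 1 := by
  rw [dd_apply, dl_self, dl_ne, sub_zero]
  intro h
  exact hx ((eq_neg_iff h2 x).1 h)

theorem dd_ne {x y : Fin n → k} (h1 : y ≠ x) (h2 : y ≠ -x) : (dd x : Es n k (-1 : 𝕜)).1 y = 0 := by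
  rw [dd_apply, dl_ne h1, dl_ne h2, sub_zero]

/-- the projection onto the line of `dd x` -/
noncomputable def ex (x : Fin n → k) : Module.End 𝕜 (Es n k (-1 : 𝕜)) where
  toFun f := f.1 x • dd x
  map_add' f g := by
    rw [← add_smul]; rfl
  map_smul' c f := by
    rw [RingHom.id_apply, smul_smul]; rfl

theorem ex_apply (x : Fin n → k) (f : Es n k (-1 : 𝕜)) : ex x f = f.1 x • dd x := rfl

theorem sum_ex : ∑ x : Fin n → k, (ex x : Module.End 𝕜 (Es n k (-1 : 𝕜))) = (2 : 𝕜) • 1 := by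
  classical
  apply LinearMap.ext
  intro f
  apply Subtype.ext
  ext y
  rw [LinearMap.sum_apply, LinearMap.smul_apply, Module.End.one_apply]
  have h1 : ((∑ x, ex x f : Es n k (-1 : 𝕜)) : W n k 𝕜) y = ∑ x, f.1 x * ((dl x : W n k 𝕜) y - (dl (-x) : W n k 𝕜) y) := by
    rw [AddSubmonoidClass.coe_finsetSum, Finset.sum_apply]
    rfl
  rw [h1]
  simp only [mul_sub, Finset.sum_sub_distrib]
  have h3 : ∑ x, f.1 x * (dl x : W n k 𝕜) y = f.1 y := by
    rw [Finset.sum_eq_single y, dl_self, mul_one]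
    · intro x _ hx
      rw [dl_ne hx.symm, mul_zero]
    · intro h; exact absurd (Finset.mem_univ _) h
  have h4 : ∑ x, f.1 x * (dl (-x) : W n k 𝕜) y = f.1 (-y) := by
    rw [Finset.sum_eq_single (-y), neg_neg, dl_self, mul_one]
    · intro x _ hx
      rw [dl_ne (fun h => hx (by rw [h, neg_neg])), mul_zero]
    · intro h; exact absurd (Finset.mem_univ _) h
  rw [h3, h4, odd_neg]
  change _ = (2 : 𝕜) * f.1 y
  ring

section sl

variable {K : Type*} [Field K] [Fintype K] [Algebra k K] [Algebra.IsSeparable k K] (e : Basis (Fin n) k K)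
  {ψ : AddChar k 𝕜} (ω : Representation 𝕜 (Sp n k) (W n k 𝕜)) (hω : ∀ g f, ω g (Pop f) = Pop (ω g f))

/-- `ψ ∘ Tr` -/
noncomputable def psK (K : Type*) [Field K] [Algebra k K] (ψ : AddChar k 𝕜) : AddChar K 𝕜 :=
  ψ.compAddMonoidHom (Algebra.trace k K).toAddMonoidHom

theorem psK_apply (x : K) : psK K ψ x = ψ (Algebra.trace k K x) := rfl

theorem psK_prim (hψ : ψ.IsPrimitive) : (psK K ψ).IsPrimitive := by
  intro s hs h
  obtain ⟨t, ht⟩ := Algebra.trace_surjective k K 1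
  obtain ⟨c, hc⟩ := exists_ne_one hψ (one_ne_zero (α := k))
  apply hc
  have h1 := DFunLike.congr_fun h (c • t * s⁻¹)
  rw [AddChar.mulShift_apply, AddChar.one_apply, psK_apply, mul_comm (c • t), ← mul_assoc, mul_inv_cancel₀ hs, one_mul,
    map_smul, ht, smul_eq_mul] at h1
  exact h1

include e in
theorem card_K : Fintype.card K = Fintype.card k ^ n := by
  rw [Module.card_fintype e]
  simp

include e in
theorem card_K_ne : (Fintype.card K : 𝕜) ≠ 0 := by
  rw [card_K e, Nat.cast_pow]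
  exact pow_ne_zero _ hq.out

variable {ω}

/-- **Lemma A.** -/
theorem ex_eq (hψ : ψ.IsPrimitive) (h2 : (2 : k) ≠ 0) (hu : ∀ S f, ω (uu S) f = DS ψ 1 S f) {x : Fin n → k} (hx : x ≠ 0) :
    (ex x : Module.End 𝕜 (Es n k (-1 : 𝕜))) = (Fintype.card K : 𝕜)⁻¹ • ∑ t : K,
      (psK K ψ (-(t * ph e x ^ 2))) • oddRep ω hω (jj e (H464.Sl2.u t)) := by
  classical
  have hxn : x ≠ -x := fun h => hx ((eq_neg_iff h2 x).1 h)
  apply LinearMap.ext
  intro f
  apply Subtype.ext
  ext y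
  have h1 : ((((Fintype.card K : 𝕜)⁻¹ • ∑ t : K,
      (psK K ψ (-(t * ph e x ^ 2))) • oddRep ω hω (jj e (H464.Sl2.u t))) f : Es n k (-1 : 𝕜)) : W n k 𝕜) y =
      (Fintype.card K : 𝕜)⁻¹ * ∑ t : K, psK K ψ (-(t * ph e x ^ 2)) * (psK K ψ (t * ph e y ^ 2) * f.1 y) := by
    rw [LinearMap.smul_apply, LinearMap.sum_apply, Submodule.coe_smul, Pi.smul_apply, AddSubmonoidClass.coe_finsetSum,
      Finset.sum_apply, smul_eq_mul]
    congr 1
    refine Finset.sum_congr rfl fun t _ => ?_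
    rw [LinearMap.smul_apply, Submodule.coe_smul, Pi.smul_apply, oddRep_coe, smul_eq_mul, jj_u, hu, DS_apply, one_mul,
      ph_quad, psK_apply (t * ph e y ^ 2)]
  rw [h1]
  have h3 : ∀ t : K, psK K ψ (-(t * ph e x ^ 2)) * (psK K ψ (t * ph e y ^ 2) * f.1 y) =
      psK K ψ (t * (ph e y ^ 2 - ph e x ^ 2)) * f.1 y := by
    intro t
    rw [← mul_assoc, ← AddChar.map_add_eq_mul]
    congr 2
    ring
  simp only [h3]
  rw [← Finset.sum_mul, AddChar.sum_mulShift _ (psK_prim hψ), ex_apply]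
  change f.1 x * (dd x : Es n k (-1 : 𝕜)).1 y = _
  by_cases hy : y = x
  · subst hy
    rw [sub_self, if_pos rfl, ← mul_assoc, inv_mul_cancel₀ (card_K_ne e), one_mul, dd_self h2 hx, mul_one]
  · by_cases hy' : y = -x
    · subst hy'
      rw [ph_neg, neg_sq, sub_self, if_pos rfl, ← mul_assoc, inv_mul_cancel₀ (card_K_ne e), one_mul, odd_neg, odd_neg,
        dd_self h2 hx]
      ring
    · rw [dd_ne hy hy', mul_zero, if_neg, Nat.cast_zero, zero_mul, mul_zero]
      intro h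
      have h4 : (ph e y - ph e x) * (ph e y + ph e x) = 0 := by linear_combination h
      rcases mul_eq_zero.1 h4 with h5 | h5
      · exact hy (ph_injective e (sub_eq_zero.1 h5))
      · apply hy'
        apply ph_injective e
        rw [ph_neg]
        exact eq_neg_of_add_eq_zero_left h5

/-- **Lemma B.** -/
theorem ex_ex (h2 : (2 : k) ≠ 0) (hm : ∀ h, ∃ c : 𝕜, c ≠ 0 ∧ ∀ f, ω (mm h) f = c • LH h f) {x z : Fin n → k}
    (hx : x ≠ 0) (hz : z ≠ 0) : ∃ (c : 𝕜) (a : Kˣ), c ≠ 0 ∧ ∀ f : Es n k (-1 : 𝕜),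
      (ex x * oddRep ω hω (jj e (H464.Sl2.t a)) * ex z : Module.End 𝕜 (Es n k (-1 : 𝕜))) f = (f.1 z * c) • dd x := by
  have hpx := ph_ne e hx
  have hpz := ph_ne e hz
  obtain ⟨c, hc, hcf⟩ := hm (Mu e (Units.mk0 (ph e z / ph e x) (div_ne_zero hpz hpx)))
  refine ⟨c, Units.mk0 (ph e z / ph e x) (div_ne_zero hpz hpx), hc, fun f => ?_⟩
  rw [Module.End.mul_apply, Module.End.mul_apply, ex_apply, ex_apply, oddRep_coe, Submodule.coe_smul, map_smul, jj_t, hcf,
    Pi.smul_apply, Pi.smul_apply, LH_apply]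
  have h1 : x ᵥ* ((Mu e (Units.mk0 (ph e z / ph e x) (div_ne_zero hpz hpx)) : GL (Fin n) k) : Matrix (Fin n) (Fin n) k) = z := by
    apply ph_injective e
    change ph e (x ᵥ* M e (ph e z / ph e x)) = _
    rw [ph_vecMul, div_mul_cancel₀ _ hpx]
  rw [h1, dd_self h2 hz, smul_eq_mul, smul_eq_mul, mul_one]

/-- **The odd half restricted to `SL₂(K)` spans.** -/
theorem span_odd (hψ : ψ.IsPrimitive) (h2 : (2 : k) ≠ 0) (hu : ∀ S f, ω (uu S) f = DS ψ 1 S f)
    (hm : ∀ h, ∃ c : 𝕜, c ≠ 0 ∧ ∀ f, ω (mm h) f = c • LH h f) :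
    Submodule.span 𝕜 (Set.range ((oddRep ω hω).comp (jj e))) = ⊤ := by
  classical
  set R : SpecialLinearGroup (Fin 2) K →* Module.End 𝕜 (Es n k (-1 : 𝕜)) := (oddRep ω hω).comp (jj e) with hR
  have hA : Submodule.span 𝕜 (Set.range R) = Subalgebra.toSubmodule (Algebra.adjoin 𝕜 (Set.range R)) := by
    rw [Algebra.adjoin_eq_span]
    congr 1
    have h3 : Set.range R = (MonoidHom.mrange R : Set _) := rfl
    rw [h3, Submonoid.closure_eq]
  rw [hA, eq_top_iff]
  intro T _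
  change T ∈ Algebra.adjoin 𝕜 (Set.range R)
  have hmem : ∀ g, R g ∈ Algebra.adjoin 𝕜 (Set.range R) := fun g => Algebra.subset_adjoin ⟨g, rfl⟩
  have hex : ∀ x : Fin n → k, ex x ∈ Algebra.adjoin 𝕜 (Set.range R) := by
    intro x
    by_cases hx : x = 0
    · have h4 : (ex x : Module.End 𝕜 (Es n k (-1 : 𝕜))) = 0 := by
        apply LinearMap.ext
        intro f
        rw [ex_apply, hx, odd_zero, zero_smul]
        rfl
      rw [h4]
      exact zero_mem _
    · rw [ex_eq e hω hψ h2 hu hx]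
      exact Subalgebra.smul_mem _ (sum_mem fun t _ => Subalgebra.smul_mem _ (hmem _) _) _
  have h4 : ((2 : 𝕜) * 2) ≠ 0 := mul_ne_zero hk2.out hk2.out
  have hT : ((2 : 𝕜) * 2) • T = ∑ x, ∑ z, ex x * T * ex z := by
    have h5 : ∑ x, ∑ z, ex x * T * ex z = (∑ x, ex x) * T * ∑ z, ex z := by
      rw [Finset.sum_mul, Finset.sum_mul]
      refine Finset.sum_congr rfl fun x _ => ?_
      rw [Finset.mul_sum]
    rw [h5, sum_ex, smul_mul_assoc, one_mul, smul_mul_smul_comm, mul_one]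
  have hsum : ((2 : 𝕜) * 2) • T ∈ Algebra.adjoin 𝕜 (Set.range R) := by
    rw [hT]
    refine sum_mem fun x _ => sum_mem fun z _ => ?_
    by_cases hx : x = 0
    · have h6 : (ex x * T * ex z : Module.End 𝕜 (Es n k (-1 : 𝕜))) = 0 := by
        apply LinearMap.ext
        intro f
        rw [Module.End.mul_apply, Module.End.mul_apply, ex_apply x, hx, odd_zero, zero_smul]
        rfl
      rw [h6]
      exact zero_mem _
    by_cases hz : z = 0
    · have h6 : (ex x * T * ex z : Module.End 𝕜 (Es n k (-1 : 𝕜))) = 0 := by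
        apply LinearMap.ext
        intro f
        rw [Module.End.mul_apply, Module.End.mul_apply, ex_apply z, hz, odd_zero, zero_smul, map_zero, map_zero]
        rfl
      rw [h6]
      exact zero_mem _
    obtain ⟨c, a, hc, hca⟩ := ex_ex e hω h2 hm hx hz
    have h7 : ex x * T * ex z = ((T (dd z)).1 x / c) • (ex x * R (H464.Sl2.t a) * ex z) := by
      apply LinearMap.ext
      intro f
      rw [LinearMap.smul_apply]
      have h8 : (ex x * R (H464.Sl2.t a) * ex z : Module.End 𝕜 (Es n k (-1 : 𝕜))) f = (f.1 z * c) • dd x := hca f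
      rw [h8, Module.End.mul_apply, Module.End.mul_apply, ex_apply, ex_apply, map_smul, Submodule.coe_smul, Pi.smul_apply,
        smul_smul, smul_eq_mul]
      congr 1
      field_simp
    rw [h7]
    exact Subalgebra.smul_mem _ (mul_mem (mul_mem (hex x) (hmem _)) (hex z)) _
  have h9 := Subalgebra.smul_mem _ hsum ((2 : 𝕜) * 2)⁻¹
  rwa [smul_smul, inv_mul_cancel₀ h4, one_smul] at h9

end sl

end Cfsg.Agent.H434.K2
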