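import Cfsg.Agent.H434.LD.WTr

/-!
# Extension of quadratic forms; the representations of degree 12 are symplectic (helper434)
-/

set_option autoImplicit false
set_option linter.unusedSectionVars false
open Matrix Module Representation Cfsg.Agent.H162.Weil

namespace Cfsg.Agent.H434.WK

section nq

variable {𝕜 : Type*} [Field 𝕜] [hq : Fact ((Fintype.card (ZMod 5) : 𝕜) ≠ 0)] {V : Type*} [AddCommGroup V]
  [Module 𝕜 V] [FiniteDimensional 𝕜 V] {ρ : Representation 𝕜 (Sp 2 (ZMod 5)) V} {ψ : AddChar (ZMod 5) 𝕜}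
  {lam : ZMod 5} {v : V}

/-- **No invariant quadratic form.** -/
theorem not_quad (hs : Seed ρ ψ lam 0 v) (hρ : ρ.IsIrreducible) (hd : finrank 𝕜 V = 12) (q : QuadraticForm 𝕜 V)
    (hinv : ∀ g u, q (ρ g u) = q u) (hnd : ∀ u, (∀ w, QuadraticMap.polar q u w = 0) → u = 0) : False := by
  obtain ⟨hneg, α, β, s1, s2, h1, h2⟩ := wmat' hs hρ hd (a := 0) (b := 1) (by decide)
  set f1 := ff ρ ψ lam v (Pi.single 1 1) with hf1
  set f2 := ff ρ ψ lam v (Pi.single 1 2) with hf2
  have hlam := hs.lam0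
  have hpol : ∀ g u w, QuadraticMap.polar q (ρ g u) (ρ g w) = QuadraticMap.polar q u w := by
    intro g u w
    simp only [QuadraticMap.polar]
    rw [← map_add, hinv, hinv, hinv]
  have hα : α ≠ 0 := by
    rintro rfl
    rw [zero_mul] at s1
    exact zero_ne_one s1
  have hβ : β ≠ 0 := by
    rintro rfl
    rw [zero_mul] at s2
    exact zero_ne_one s2
  have key : ∀ c : ZMod 5, c ≠ 0 → q (ff ρ ψ lam v (Pi.single 1 c)) = 0 := by
    intro c hc
    have h3 := hinv (uu (sD 1 1)) (ff ρ ψ lam v (Pi.single 1 c))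
    rw [ax hs, QuadraticMap.map_smul, one_mul, smul_eq_mul, ← AddChar.map_add_eq_mul] at h3
    have h4 : ψ (lam * (c * c) + lam * (c * c)) ≠ 1 := by
      apply psi_ne_one hs.prim
      rw [← two_mul]
      exact mul_ne_zero hs.two (mul_ne_zero hlam (mul_ne_zero hc hc))
    have h5 : (ψ (lam * (c * c) + lam * (c * c)) - 1) * q (ff ρ ψ lam v (Pi.single 1 c)) = 0 := by
      linear_combination h3
    exact (mul_eq_zero.1 h5).resolve_left (sub_ne_zero.2 h4)
  have q1 : q f1 = 0 := key 1 (by decide)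
  have q2 : q f2 = 0 := key 2 (by decide)
  have q12 : QuadraticMap.polar q f1 f2 = 0 := by
    have h3 := hinv (ww 1) f1
    rw [h1, QuadraticMap.map_add q, QuadraticMap.map_smul, QuadraticMap.map_smul, q1, q2, smul_zero, smul_zero,
      zero_add, zero_add, QuadraticMap.polar_smul_left, QuadraticMap.polar_smul_right, smul_eq_mul, smul_eq_mul] at h3
    rcases mul_eq_zero.1 h3 with h | h
    · exact absurd h hα
    · exact (mul_eq_zero.1 h).resolve_left hβ
  have q11 : QuadraticMap.polar q f1 f1 = 0 := by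
    rw [QuadraticMap.polar_self, q1, smul_zero]
  have hall : ∀ x : X12, QuadraticMap.polar q f1 (ff ρ ψ lam v x) = 0 := by
    intro x
    by_cases hx : x.1 0 = 0
    · have h3 : x.1 ∈ X12.filter (fun x => x 0 = 0) := Finset.mem_filter.2 ⟨x.2, hx⟩
      rw [X12_axis (a := 0) (b := 1) (by decide), Finset.mem_insert, Finset.mem_singleton] at h3
      rcases h3 with h | h
      · rw [h]; exact q11
      · rw [h]; exact q12
    · have h3 := hpol (uu (sD 0 1)) f1 (ff ρ ψ lam v x)
      rw [hf1, ax0 hs (by decide), ← hf1, ff_uu hs, QuadraticMap.polar_smul_right, smul_eq_mul] at h3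
      have h4 : ψ (lam * (x.1 ⬝ᵥ ((sD 0 (1 : ZMod 5)).1 *ᵥ x.1))) ≠ 1 := by
        apply psi_ne_one hs.prim
        simp only [sD]
        rw [sgl_mulVec, dotProduct_single, one_mul]
        exact mul_ne_zero hlam (mul_ne_zero hx hx)
      have h5 : (ψ (lam * (x.1 ⬝ᵥ ((sD 0 (1 : ZMod 5)).1 *ᵥ x.1))) - 1) *
          QuadraticMap.polar q f1 (ff ρ ψ lam v x) = 0 := by
        linear_combination h3
      exact (mul_eq_zero.1 h5).resolve_left (sub_ne_zero.2 h4)
  have hz : (q.polarBilin f1 : V →ₗ[𝕜] 𝕜) = 0 := by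
    apply (bb hs hd).ext
    intro x
    rw [bb_apply, QuadraticMap.polarBilin_apply_apply, hall, LinearMap.zero_apply]
  apply ff_ne hs (x := Pi.single 1 1) (X12_ne (single_mem1 1))
  apply hnd
  intro w
  have := LinearMap.congr_fun hz w
  rw [QuadraticMap.polarBilin_apply_apply, LinearMap.zero_apply] at this
  exact this

end nq

end Cfsg.Agent.H434.WK
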