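import Cfsg.Agent.H434.LD.WUniq

/-!
# The Weil representation: intertwining operators (helper162; port to any coefficient field, helper434)
-/

set_option autoImplicit false
set_option linter.unusedSectionVars false
set_option linter.unusedVariables false
open Matrix Cfsg.Agent.H162.Weil

namespace Cfsg.Agent.H434.WK

variable {F : Type*} [Field F] {n : ℕ} [Fintype F] {𝕜 : Type*} [Field 𝕜] [hq : Fact ((Fintype.card F : 𝕜) ≠ 0)]

/-- The space of functions. -/
abbrev W (n : ℕ) (F : Type*) (𝕜 : Type*) : Type _ := (Fin n → F) → 𝕜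

/-- Heisenberg operators `M(a,b) f (x) = ψ(-λ(2 a·x + a·b)) f(x+b)`. -/
noncomputable def Mop (ψ : AddChar F 𝕜) (lam : F) (w : Fin n ⊕ Fin n → F) : W n F 𝕜 →ₗ[𝕜] W n F 𝕜 where
  toFun f x := ψ (-lam * (2 * ((w ∘ Sum.inl) ⬝ᵥ x) + (w ∘ Sum.inl) ⬝ᵥ (w ∘ Sum.inr))) *
    f (x + w ∘ Sum.inr)
  map_add' f g := by ext x; simp [mul_add]
  map_smul' c f := by ext x; simp; ring

theorem Mop_apply (ψ : AddChar F 𝕜) (lam : F) (a b : Fin n → F) (f : W n F 𝕜) (x : Fin n → F) :
    Mop ψ lam (Sum.elim a b) f x = ψ (-lam * (2 * (a ⬝ᵥ x) + a ⬝ᵥ b)) * f (x + b) := rfl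

/-- The parity operator. -/
def Pop : W n F 𝕜 →ₗ[𝕜] W n F 𝕜 where
  toFun f x := f (-x)
  map_add' f g := rfl
  map_smul' c f := rfl

theorem Pop_apply (f : W n F 𝕜) (x : Fin n → F) : Pop f x = f (-x) := rfl

/-- Intertwining operators for `g`. -/
def IsInt (ψ : AddChar F 𝕜) (lam : F) (g : Sp n F) (R : W n F 𝕜 ≃ₗ[𝕜] W n F 𝕜) : Prop :=
  (∀ w f, R (Mop ψ lam w f) =
    Mop ψ lam ((g : Matrix (Fin n ⊕ Fin n) (Fin n ⊕ Fin n) F) *ᵥ w) (R f)) ∧
  (∀ f, R (Pop f) = Pop (R f))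

variable {ψ : AddChar F 𝕜} {lam : F}

theorem IsInt.one : IsInt ψ lam (1 : Sp n F) 1 :=
  ⟨fun w f => by simp, fun f => rfl⟩

theorem IsInt.mul {g h : Sp n F} {R R' : W n F 𝕜 ≃ₗ[𝕜] W n F 𝕜} (hR : IsInt ψ lam g R)
    (hR' : IsInt ψ lam h R') : IsInt ψ lam (g * h) (R * R') := by
  refine ⟨fun w f => ?_, fun f => ?_⟩
  · rw [LinearEquiv.mul_apply, LinearEquiv.mul_apply, hR'.1, hR.1, Submonoid.coe_mul,
      mulVec_mulVec]
  · rw [LinearEquiv.mul_apply, LinearEquiv.mul_apply, hR'.2, hR.2]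

/-- Multiplication by a nowhere zero function. -/
noncomputable def mulOp (u : (Fin n → F) → 𝕜) (hu : ∀ x, u x ≠ 0) : W n F 𝕜 ≃ₗ[𝕜] W n F 𝕜 where
  toFun f x := u x * f x
  map_add' f g := by ext x; simp [mul_add]
  map_smul' c f := by ext x; simp; ring
  invFun f x := (u x)⁻¹ * f x
  left_inv f := by ext x; simp [hu x]
  right_inv f := by ext x; simp [hu x]

theorem psi_ne_zero (x : F) : ψ x ≠ 0 := by
  intro h
  have := AddChar.map_add_eq_mul ψ x (-x)
  rw [h, zero_mul, add_neg_cancel, AddChar.map_zero_eq_one] at this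
  exact one_ne_zero this

/-- The operator of `uu S`. -/
noncomputable def DS (ψ : AddChar F 𝕜) (lam : F) (S : Sym n F) : W n F 𝕜 ≃ₗ[𝕜] W n F 𝕜 :=
  mulOp (fun x => ψ (lam * (x ⬝ᵥ (S.1 *ᵥ x)))) (fun _ => psi_ne_zero _)

theorem DS_apply (S : Sym n F) (f : W n F 𝕜) (x : Fin n → F) :
    DS ψ lam S f x = ψ (lam * (x ⬝ᵥ (S.1 *ᵥ x))) * f x := rfl

theorem sym_dot (S : Sym n F) (x y : Fin n → F) : x ⬝ᵥ (S.1 *ᵥ y) = y ⬝ᵥ (S.1 *ᵥ x) := by
  have h := S.2
  rw [mem_Sym] at h
  rw [dotProduct_comm, ← vecMul_transpose, h, dotProduct_comm, dotProduct_mulVec, dotProduct_comm]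

theorem isInt_uu (S : Sym n F) : IsInt ψ lam (uu S) (DS ψ lam S) := by
  refine ⟨fun w f => ?_, fun f => ?_⟩
  · obtain ⟨a, b, rfl⟩ : ∃ a b, w = Sum.elim a b := ⟨_, _, (Sum.elim_comp_inl_inr w).symm⟩
    rw [uu_mulVec]
    ext x
    rw [DS_apply, Mop_apply, Mop_apply, DS_apply, ← mul_assoc, ← mul_assoc,
      ← AddChar.map_add_eq_mul, ← AddChar.map_add_eq_mul]
    congr 2
    have h1 : (x + b) ⬝ᵥ (S.1 *ᵥ (x + b)) = x ⬝ᵥ (S.1 *ᵥ x) + 2 * (x ⬝ᵥ (S.1 *ᵥ b)) +
        b ⬝ᵥ (S.1 *ᵥ b) := by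
      rw [mulVec_add, dotProduct_add, add_dotProduct, add_dotProduct, sym_dot S b x]
      ring
    have h3 : (a + S.1 *ᵥ b) ⬝ᵥ x = a ⬝ᵥ x + x ⬝ᵥ (S.1 *ᵥ b) := by
      rw [add_dotProduct, dotProduct_comm (S.1 *ᵥ b)]
    have h4 : (a + S.1 *ᵥ b) ⬝ᵥ b = a ⬝ᵥ b + b ⬝ᵥ (S.1 *ᵥ b) := by
      rw [add_dotProduct, dotProduct_comm (S.1 *ᵥ b)]
    rw [h1, h3, h4]
    ring
  · ext x
    rw [DS_apply, Pop_apply, Pop_apply, DS_apply]
    congr 3
    rw [mulVec_neg, dotProduct_neg, neg_dotProduct, neg_neg]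

/-- The operator of `mm h`. -/
def LH (h : GL (Fin n) F) : W n F 𝕜 ≃ₗ[𝕜] W n F 𝕜 where
  toFun f x := f (x ᵥ* (h : Matrix (Fin n) (Fin n) F))
  map_add' f g := rfl
  map_smul' c f := rfl
  invFun f x := f (x ᵥ* ((h⁻¹ : GL (Fin n) F) : Matrix (Fin n) (Fin n) F))
  left_inv f := by
    ext x
    simp only [vecMul_vecMul]
    rw [← Units.val_mul, inv_mul_cancel, Units.val_one, vecMul_one]
  right_inv f := by
    ext x
    simp only [vecMul_vecMul]
    rw [← Units.val_mul, mul_inv_cancel, Units.val_one, vecMul_one]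

theorem LH_apply (h : GL (Fin n) F) (f : W n F 𝕜) (x : Fin n → F) :
    LH h f x = f (x ᵥ* (h : Matrix (Fin n) (Fin n) F)) := rfl

theorem isInt_mm (h : GL (Fin n) F) : IsInt ψ lam (mm h) (LH h) := by
  refine ⟨fun w f => ?_, fun f => ?_⟩
  · obtain ⟨a, b, rfl⟩ : ∃ a b, w = Sum.elim a b := ⟨_, _, (Sum.elim_comp_inl_inr w).symm⟩
    rw [mm_mulVec]
    ext x
    rw [LH_apply, Mop_apply, Mop_apply, LH_apply]
    have h1 : ((h : Matrix (Fin n) (Fin n) F) *ᵥ a) ⬝ᵥ x =
        a ⬝ᵥ (x ᵥ* (h : Matrix (Fin n) (Fin n) F)) := by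
      rw [dotProduct_comm, dotProduct_mulVec, dotProduct_comm]
    have h3 : ((h : Matrix (Fin n) (Fin n) F) *ᵥ a) ⬝ᵥ
        (b ᵥ* ((h⁻¹ : GL (Fin n) F) : Matrix (Fin n) (Fin n) F)) = a ⬝ᵥ b := by
      rw [dotProduct_comm, dotProduct_mulVec, vecMul_vecMul, ← Units.val_mul, inv_mul_cancel,
        Units.val_one, vecMul_one, dotProduct_comm]
    have h4 : (x + b ᵥ* ((h⁻¹ : GL (Fin n) F) : Matrix (Fin n) (Fin n) F)) ᵥ*
        (h : Matrix (Fin n) (Fin n) F) = x ᵥ* (h : Matrix (Fin n) (Fin n) F) + b := by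
      rw [add_vecMul, vecMul_vecMul, ← Units.val_mul, inv_mul_cancel, Units.val_one, vecMul_one]
    rw [h1, h3, h4]
  · ext x
    rw [LH_apply, Pop_apply, Pop_apply, LH_apply, neg_vecMul]

/-- Partial Fourier transform, as a linear map. -/
noncomputable def FTl (ψ : AddChar F 𝕜) (lam : F) (j : Fin n) : W n F 𝕜 →ₗ[𝕜] W n F 𝕜 where
  toFun f x := ∑ y : F, ψ (2 * lam * x j * y) * f (Function.update x j y)
  map_add' f g := by ext x; simp [mul_add, Finset.sum_add_distrib]
  map_smul' c f := by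
    ext x
    simp only [Pi.smul_apply, smul_eq_mul, RingHom.id_apply, Finset.mul_sum]
    refine Finset.sum_congr rfl fun y _ => by ring

theorem FTl_apply (j : Fin n) (f : W n F 𝕜) (x : Fin n → F) :
    FTl ψ lam j f x = ∑ y : F, ψ (2 * lam * x j * y) * f (Function.update x j y) := rfl

theorem FTl_sq (hψ : ψ.IsPrimitive) (h2 : (2 : F) ≠ 0) (hlam : lam ≠ 0) (j : Fin n) (f : W n F 𝕜)
    (x : Fin n → F) : FTl ψ lam j (FTl ψ lam j f) x =
      (Fintype.card F : 𝕜) * f (Function.update x j (- x j)) := by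
  classical
  rw [FTl_apply]
  have h1 : ∀ y : F, ψ (2 * lam * x j * y) * FTl ψ lam j f (Function.update x j y) =
      ∑ z : F, ψ (y * (2 * lam * (x j + z))) * f (Function.update x j z) := by
    intro y
    rw [FTl_apply, Finset.mul_sum]
    refine Finset.sum_congr rfl fun z _ => ?_
    rw [Function.update_idem, Function.update_self, ← mul_assoc, ← AddChar.map_add_eq_mul]
    congr 2
    ring
  rw [Finset.sum_congr rfl fun y _ => h1 y, Finset.sum_comm]
  have h3 : ∀ z : F, ∑ y : F, ψ (y * (2 * lam * (x j + z))) * f (Function.update x j z) =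
      if z = - x j then (Fintype.card F : 𝕜) * f (Function.update x j z) else 0 := by
    intro z
    rw [← Finset.sum_mul, AddChar.sum_mulShift _ hψ]
    by_cases hz : z = - x j
    · rw [if_pos hz, if_pos]
      rw [hz]; ring
    · rw [if_neg hz, if_neg, Nat.cast_zero, zero_mul]
      apply mul_ne_zero (mul_ne_zero h2 hlam)
      intro h
      apply hz
      linear_combination h
  rw [Finset.sum_congr rfl fun z _ => h3 z]
  simp

theorem FTl_bij (hψ : ψ.IsPrimitive) (h2 : (2 : F) ≠ 0) (hlam : lam ≠ 0) (j : Fin n) :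
    Function.Bijective (FTl ψ lam j : W n F 𝕜 →ₗ[𝕜] W n F 𝕜) := by
  have hinj : Function.Injective (FTl ψ lam j : W n F 𝕜 →ₗ[𝕜] W n F 𝕜) := by
    rw [← LinearMap.ker_eq_bot, LinearMap.ker_eq_bot']
    intro f hf
    ext x
    have h1 := FTl_sq hψ h2 hlam j f (Function.update x j (- x j))
    rw [hf, map_zero, Pi.zero_apply, Function.update_idem, Function.update_self, neg_neg,
      Function.update_eq_self] at h1
    have h3 : (Fintype.card F : 𝕜) ≠ 0 := hq.out
    rcases mul_eq_zero.mp h1.symm with h4 | h4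
    · exact absurd h4 h3
    · exact h4
  exact ⟨hinj, LinearMap.injective_iff_surjective.mp hinj⟩

/-- Partial Fourier transform. -/
noncomputable def FT (hψ : ψ.IsPrimitive) (h2 : (2 : F) ≠ 0) (hlam : lam ≠ 0) (j : Fin n) :
    W n F 𝕜 ≃ₗ[𝕜] W n F 𝕜 := LinearEquiv.ofBijective (FTl ψ lam j) (FTl_bij hψ h2 hlam j)

theorem FT_apply (hψ : ψ.IsPrimitive) (h2 : (2 : F) ≠ 0) (hlam : lam ≠ 0) (j : Fin n)
    (f : W n F 𝕜) (x : Fin n → F) :
    FT hψ h2 hlam j f x = ∑ y : F, ψ (2 * lam * x j * y) * f (Function.update x j y) := rfl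

theorem update_eq_add (x : Fin n → F) (j : Fin n) (y : F) :
    Function.update x j y = x + Pi.single j (y - x j) := by
  ext k
  by_cases hk : k = j
  · subst hk; simp
  · simp [hk]

theorem isInt_ww (hψ : ψ.IsPrimitive) (h2 : (2 : F) ≠ 0) (hlam : lam ≠ 0) (j : Fin n) :
    IsInt ψ lam (ww j) (FT hψ h2 hlam j) := by
  refine ⟨fun w f => ?_, fun f => ?_⟩
  · obtain ⟨a, b, rfl⟩ : ∃ a b, w = Sum.elim a b := ⟨_, _, (Sum.elim_comp_inl_inr w).symm⟩
    rw [ww_mulVec]
    ext x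
    rw [FT_apply, Mop_apply, FT_apply, Finset.mul_sum]
    have hxb : (x + Function.update b j (-a j)) j = x j - a j := by
      simp [sub_eq_add_neg]
    have hupd : ∀ y, Function.update (x + Function.update b j (-a j)) j (y + b j) =
        Function.update x j y + b := by
      intro y
      ext k
      by_cases hk : k = j
      · subst hk; simp
      · simp [hk]
    refine Fintype.sum_equiv (Equiv.addRight (b j)) _ _ fun y => ?_
    rw [Mop_apply, Equiv.coe_addRight, hupd, hxb, ← mul_assoc, ← mul_assoc,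
      ← AddChar.map_add_eq_mul, ← AddChar.map_add_eq_mul]
    congr 2
    have e1 : a ⬝ᵥ Function.update x j y = a ⬝ᵥ x + a j * (y - x j) := by
      rw [update_eq_add, dotProduct_add, dotProduct_single]
    have e2 : Function.update a j (b j) ⬝ᵥ x = a ⬝ᵥ x + (b j - a j) * x j := by
      rw [update_eq_add a, add_dotProduct, single_dotProduct]
    have e3 : Function.update a j (b j) ⬝ᵥ Function.update b j (-a j) =
        a ⬝ᵥ b - 2 * (a j * b j) := by
      rw [update_eq_add a, add_dotProduct, single_dotProduct, Function.update_self,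
        update_eq_add b, dotProduct_add, dotProduct_single]
      ring
    rw [e1, e2, e3]
    ring
  · ext x
    rw [FT_apply, Pop_apply, FT_apply]
    refine Fintype.sum_equiv (Equiv.neg F) _ _ fun y => ?_
    rw [Pop_apply, Equiv.neg_apply]
    have h1 : Function.update (-x) j (-y) = - Function.update x j y := by
      ext k
      by_cases hk : k = j
      · subst hk; simp
      · simp [hk]
    rw [h1]
    congr 2
    rw [Pi.neg_apply]
    ring

theorem exists_isInt (hψ : ψ.IsPrimitive) (h2 : (2 : F) ≠ 0) (hlam : lam ≠ 0) (j : Fin n)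
    (g : Sp n F) : ∃ R, IsInt ψ lam g R := by
  refine gen_induct j (P := fun g => ∃ R, IsInt ψ lam g R) ⟨1, IsInt.one⟩ ?_
    (fun S => ⟨_, isInt_uu S⟩) (fun h => ⟨_, isInt_mm h⟩) ⟨_, isInt_ww hψ h2 hlam j⟩ g
  rintro g h ⟨R, hR⟩ ⟨R', hR'⟩
  exact ⟨_, hR.mul hR'⟩

/-- delta functions. -/
noncomputable def dl (x : Fin n → F) : W n F 𝕜 := by
  classical exact Pi.single x 1

theorem dl_self (x : Fin n → F) : (dl x : W n F 𝕜) x = 1 := by
  classical
  simp [dl]

theorem dl_ne {x y : Fin n → F} (h : y ≠ x) : (dl x : W n F 𝕜) y = 0 := by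
  classical
  simp [dl, h]

theorem f_eq_sum (f : W n F 𝕜) : f = ∑ x, f x • dl x := by
  classical
  ext y
  rw [Finset.sum_apply, Finset.sum_eq_single y]
  · simp [dl_self]
  · intro x _ hx
    simp [dl_ne (Ne.symm hx)]
  · simp

/-- Schur's lemma for the Heisenberg operators. -/
theorem isInt_unique (hψ : ψ.IsPrimitive) (h2 : (2 : F) ≠ 0) (hlam : lam ≠ 0) {g : Sp n F}
    {R R' : W n F 𝕜 ≃ₗ[𝕜] W n F 𝕜} (hR : IsInt ψ lam g R) (hR' : IsInt ψ lam g R') :
    ∃ c : 𝕜, c ≠ 0 ∧ ∀ f, R' f = c • R f := by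
  -- `X = R⁻¹ R'` commutes with all Heisenberg operators
  let X : W n F 𝕜 →ₗ[𝕜] W n F 𝕜 := (R'.trans R.symm).toLinearMap
  have hX : ∀ w f, X (Mop ψ lam w f) = Mop ψ lam w (X f) := by
    intro w f
    show R.symm (R' (Mop ψ lam w f)) = Mop ψ lam w (R.symm (R' f))
    rw [LinearEquiv.symm_apply_eq, hR'.1, hR.1, LinearEquiv.apply_symm_apply]
  -- X is diagonal
  have hdiag : ∀ x y : Fin n → F, y ≠ x → X (dl x) y = 0 := by
    intro x y hxy
    obtain ⟨k, hk⟩ : ∃ k, y k - x k ≠ 0 := by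
      by_contra hc
      push Not at hc
      apply hxy
      ext k
      exact sub_eq_zero.mp (hc k)
    obtain ⟨s, hs⟩ := exists_ne_one hψ (mul_ne_zero (mul_ne_zero (neg_ne_zero.mpr hlam) h2) hk)
    have h1 : ∀ f : W n F 𝕜, ∀ z, Mop ψ lam (Sum.elim (Pi.single k s) 0) f z =
        ψ (-lam * (2 * (s * z k))) * f z := by
      intro f z
      rw [Mop_apply, single_dotProduct, dotProduct_zero, add_zero, add_zero]
    have h3 : Mop ψ lam (Sum.elim (Pi.single k s) 0) (dl x) =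
        ψ (-lam * (2 * (s * x k))) • dl x := by
      ext z
      rw [h1, Pi.smul_apply, smul_eq_mul]
      by_cases hz : z = x
      · rw [hz]
      · rw [dl_ne hz, mul_zero, mul_zero]
    have h4 := congrFun (hX (Sum.elim (Pi.single k s) 0) (dl x)) y
    rw [h3, map_smul, h1, Pi.smul_apply, smul_eq_mul] at h4
    by_contra h0
    have h5 := mul_right_cancel₀ h0 h4
    apply hs
    have : s * (-lam * 2 * (y k - x k)) = -lam * (2 * (s * y k)) + -(-lam * (2 * (s * x k))) := by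
      ring
    rw [this, AddChar.map_add_eq_mul, ← h5, ← AddChar.map_add_eq_mul, add_neg_cancel,
      AddChar.map_zero_eq_one]
  have hconst : ∀ x : Fin n → F, X (dl x) x = X (dl 0) 0 := by
    intro x
    have h1 : Mop ψ lam (Sum.elim 0 x) (dl x) = dl 0 := by
      ext z
      rw [Mop_apply, zero_dotProduct, zero_dotProduct, mul_zero, add_zero, mul_zero,
        AddChar.map_zero_eq_one, one_mul]
      by_cases hz : z = 0
      · rw [hz, zero_add, dl_self, dl_self]
      · rw [dl_ne hz, dl_ne]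
        intro h
        apply hz
        simpa using h
    have h3 := congrFun (hX (Sum.elim 0 x) (dl x)) 0
    rw [h1, Mop_apply, zero_dotProduct, zero_dotProduct, mul_zero, add_zero, mul_zero,
      AddChar.map_zero_eq_one, one_mul, zero_add] at h3
    exact h3.symm
  set c := X (dl 0) 0 with hc
  have hXc : ∀ f, X f = c • f := by
    intro f
    have h1 : ∀ x : Fin n → F, X (dl x) = c • dl x := by
      intro x
      ext y
      rw [Pi.smul_apply, smul_eq_mul]
      by_cases hy : y = x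
      · rw [hy, dl_self, mul_one, hconst]
      · rw [hdiag x y hy, dl_ne hy, mul_zero]
    conv_lhs => rw [f_eq_sum f, map_sum]
    conv_rhs => rw [f_eq_sum f, Finset.smul_sum]
    refine Finset.sum_congr rfl fun x _ => ?_
    rw [map_smul, h1, smul_comm]
  refine ⟨c, ?_, fun f => ?_⟩
  · intro h0
    have h1 := hXc (dl 0)
    rw [h0, zero_smul] at h1
    have h3 : (dl 0 : W n F 𝕜) = 0 := by
      apply (R'.trans R.symm).injective
      rw [map_zero]
      exact h1
    have h4 := congrFun h3 0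
    rw [dl_self, Pi.zero_apply] at h4
    exact one_ne_zero h4
  · have h1 := hXc f
    have h3 : R.symm (R' f) = c • f := h1
    rw [LinearEquiv.symm_apply_eq, map_smul] at h3
    exact h3

end Cfsg.Agent.H434.WK
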