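import Cfsg.Agent.H434.LD.WUniq
import Cfsg.Agent.H162.WeilCount

/-!
# Small representations have rank one (helper162; port to any coefficient field, helper434)
-/

set_option autoImplicit false
set_option linter.unusedSectionVars false
open Matrix Module Representation Cfsg.Agent.H162.Weil

namespace Cfsg.Agent.H434.WK

variable {F : Type*} [Field F] {n : ℕ} [Fintype F] {𝕜 : Type*} [Field 𝕜] [hq : Fact ((Fintype.card F : 𝕜) ≠ 0)]
  {V : Type*} [AddCommGroup V] [Module 𝕜 V] {ρ : Representation 𝕜 (Sp n F) V} {ψ : AddChar F 𝕜}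

theorem actT_mul (g h : GL (Fin n) F) (T : Matrix (Fin n) (Fin n) F) :
    actT (g * h) T = actT g (actT h T) := by
  simp only [actT, _root_.mul_inv_rev, Units.val_mul, transpose_mul, Matrix.mul_assoc]

theorem Ob_eq (T : Matrix (Fin n) (Fin n) F) : H162.Weil.Ob T = {S : Sym n F | ∃ h : GL (Fin n) F, S.1 = actT h T} := rfl

/-- The class of a weight bounds the dimension. -/
theorem card_Ob_le [FiniteDimensional 𝕜 V] (hψ : ψ.IsPrimitive) (h2 : (2 : F) ≠ 0)
    {T : Matrix (Fin n) (Fin n) F} {v : V} (hv : v ∈ Wt ρ ψ T) (hne : v ≠ 0) :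
    Nat.card (H162.Weil.Ob T) ≤ finrank 𝕜 V := by
  classical
  have hfin : Finite (H162.Weil.Ob T) := inferInstance
  let _ : Fintype (H162.Weil.Ob T) := Fintype.ofFinite _
  have hex : ∀ S : H162.Weil.Ob T, ∃ h : GL (Fin n) F, S.1.1 = actT h T := fun S => S.2
  choose h hh using hex
  let b : H162.Weil.Ob T → V := fun S => ρ (mm (h S)) v
  have hb : ∀ S : H162.Weil.Ob T, b S ∈ Wt ρ ψ S.1.1 := by
    intro S
    rw [hh S]
    exact mm_mem_Wt (h S) hv
  have hb0 : ∀ S : H162.Weil.Ob T, b S ≠ 0 := by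
    intro S h0
    apply hne
    apply rho_inj (ρ := ρ) (mm (h S))
    rw [map_zero]
    exact h0
  have hli : LinearIndependent 𝕜 b := by
    rw [linearIndependent_iff']
    intro s g hg S hS
    have h1 := congrArg (Pj ρ ψ S.1.1) hg
    rw [map_zero, map_sum, Finset.sum_eq_single_of_mem S hS, map_smul, Pj_of_mem (hb S)] at h1
    · exact (smul_eq_zero.mp h1).resolve_right (hb0 S)
    · intro S' _ hne'
      rw [map_smul, Pj_of_mem_ne hψ h2 S.1.2 S'.1.2 (fun h => hne' (Subtype.ext (Subtype.ext h.symm))) (hb S'),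
        smul_zero]
  have := hli.fintype_card_le_finrank
  rwa [Nat.card_eq_fintype_card]

theorem normal_top (j : Fin n) (K : Subgroup (Sp n F)) [hK : K.Normal]
    (hu : ∀ S : Sym n F, uu S ∈ K) : K = ⊤ := by
  rw [← top_le_iff, ← S0765.result n, Subgroup.closure_le]
  rintro A ⟨w, c, hA⟩
  obtain ⟨k, -, a', hka⟩ := exists_move j (⊤ : Subgroup (Sp n F)) (fun _ => Subgroup.mem_top _)
    (fun _ => Subgroup.mem_top _) (Subgroup.mem_top _) (w ∘ Sum.inl) (w ∘ Sum.inr)
  rw [Sum.elim_comp_inl_inr] at hka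
  obtain ⟨S, hS⟩ := tr_of_zero a' c
  have h1 : k * A = uu S * k := by
    apply Subtype.ext
    rw [Submonoid.coe_mul, Submonoid.coe_mul, hA, mul_tr, hka, hS]
  have h2 : A = k⁻¹ * uu S * k := by rw [mul_assoc, ← h1, inv_mul_cancel_left]
  rw [h2]
  have := hK.conj_mem _ (hu S) k⁻¹
  rwa [inv_inv] at this

/-- If there is only the trivial weight, the representation is one dimensional. -/
theorem dim_one (hψ : ψ.IsPrimitive) (h2 : (2 : F) ≠ 0) (j : Fin n) (hρ : ρ.IsIrreducible)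
    (h0 : ∀ T ∈ Sym n F, T ≠ 0 → ∀ v ∈ Wt ρ ψ T, v = 0) : finrank 𝕜 V = 1 := by
  have h1 : ∀ (S : Sym n F) (v : V), ρ (uu S) v = v := by
    intro S v
    have h3 : Pj ρ ψ 0 v = v := by
      conv_rhs => rw [← sum_Pj (ρ := ρ) hψ h2 v]
      rw [Finset.sum_eq_single (0 : Sym n F)]
      · rfl
      · intro T _ hT
        apply h0 T.1 T.2 _ _ (Pj_mem _ _)
        intro h; exact hT (Subtype.ext h)
      · simp
    have h4 : v ∈ Wt ρ ψ (0 : Matrix (Fin n) (Fin n) F) := by
      rw [← h3]; exact Pj_mem _ _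
    have h5 := h4 S
    rw [pr_zero_left, AddChar.map_zero_eq_one, one_smul] at h5
    exact h5
  have hker : ρ.ker = ⊤ := by
    apply normal_top j
    intro S
    rw [MonoidHom.mem_ker]
    apply LinearMap.ext
    intro v
    exact h1 S v
  have htriv : ∀ g v, ρ g v = v := by
    intro g v
    have : g ∈ ρ.ker := by rw [hker]; exact Subgroup.mem_top _
    rw [MonoidHom.mem_ker] at this
    rw [this]; rfl
  obtain ⟨v, hv⟩ : ∃ v : V, v ≠ 0 := by
    by_contra hc
    push Not at hc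
    have := hρ.toNontrivial
    obtain ⟨U, hU⟩ := exists_ne (⊤ : Subrepresentation ρ)
    apply hU
    apply Subrepresentation.toSubmodule_injective
    ext v
    rw [hc v]
    simp [zero_mem]
  rw [finrank_eq_one_iff_of_nonzero v hv]
  apply eq_top_of_irr hρ
  · intro g u hu
    rw [htriv]; exact hu
  · exact Submodule.mem_span_singleton_self v
  · exact hv

/-- **Small representations have rank one.** -/
theorem rkOne_of_lt [FiniteDimensional 𝕜 V] (hψ : ψ.IsPrimitive) (h2 : (2 : F) ≠ 0) (hq3 : 3 ≤ Fintype.card F)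
    (hn : 2 ≤ n) (hlt : 2 * (Fintype.card F + 1) * finrank 𝕜 V < (Fintype.card F ^ n - 1) *
      (Fintype.card F ^ n - Fintype.card F)) : RkOne ρ ψ := by
  by_contra hR
  unfold RkOne at hR
  push Not at hR
  obtain ⟨S, hS, w, hw, hw0, a, b, c, d, habcd⟩ := hR
  have h3 := (H162.Weil.card_Ob h2 hq3 hn hS habcd).trans
    (Nat.mul_le_mul le_rfl (card_Ob_le hψ h2 hw hw0))
  omega

/-- **A rank one weight of a non-trivial irreducible representation.** -/
theorem exists_seed [FiniteDimensional 𝕜 V] (hψ : ψ.IsPrimitive) (h2 : (2 : F) ≠ 0) (i : Fin n) (hρ : ρ.IsIrreducible)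
    (hR : RkOne ρ ψ) (h1 : finrank 𝕜 V ≠ 1) :
    ∃ (lam : F) (v : V), Seed ρ ψ lam i v := by
  have h0 : ¬ ∀ T ∈ Sym n F, T ≠ 0 → ∀ v ∈ Wt ρ ψ T, v = 0 := fun h => h1 (dim_one hψ h2 i hρ h)
  push Not at h0
  obtain ⟨T, hT, hT0, v, hv, hne⟩ := h0
  obtain ⟨p, q, hpq⟩ : ∃ p q, T p q ≠ 0 := by
    by_contra hc
    push Not at hc
    exact hT0 (by ext p q; exact hc p q)
  have hr := hR T hT v hv hne
  have hTs : ∀ a b, T a b = T b a := fun a b => Sym.apply ⟨T, hT⟩ a b
  have hk : T p p ≠ 0 := by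
    intro h
    have := hr p p q q
    rw [h, zero_mul, hTs q p] at this
    exact mul_ne_zero hpq hpq this.symm
  have hTT : T = TT (T p p)⁻¹ (fun l => T l p) := by
    ext a b
    rw [TT_apply, hTs b p, hr a p p b]
    field_simp
  have hx : (fun l => T l p : Fin n → F) ≠ 0 := by
    intro h
    exact hk (congrFun h p)
  obtain ⟨g, hg⟩ := exists_vecMul_eq_single _ hx i
  refine ⟨(T p p)⁻¹, ρ (mm g⁻¹) v, hψ, h2, hR, inv_ne_zero hk, ?_, ?_⟩
  · rw [hTT] at hv
    have h5 := mm_mem_TT g⁻¹ hv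
    rw [inv_inv, hg] at h5
    exact h5
  · intro h
    exact hne (rho_inj (ρ := ρ) (mm g⁻¹) (by rw [h, map_zero]))

end Cfsg.Agent.H434.WK
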