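import Cfsg.Agent.H434.LD.WRank

/-!
# The stabiliser of a coordinate functional in `GL` (helper162; port to any coefficient field, helper434)
-/

set_option autoImplicit false
set_option linter.unusedSectionVars false
set_option linter.unusedSimpArgs false
open Matrix Cfsg.Agent.H162.Weil

namespace Cfsg.Agent.H434.WK

variable {F : Type*} [Field F] {n : ℕ}

/-- Embedding of matrices on the complement of `i`. -/
def emb (i : Fin n) (A : Matrix {k : Fin n // k ≠ i} {k : Fin n // k ≠ i} F) :
    Matrix (Fin n) (Fin n) F :=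
  fun a b => if ha : a = i then (if b = i then 1 else 0) else
    if hb : b = i then 0 else A ⟨a, ha⟩ ⟨b, hb⟩

theorem emb_ii (i : Fin n) (A : Matrix {k : Fin n // k ≠ i} {k : Fin n // k ≠ i} F) :
    emb i A i i = 1 := by simp [emb]

theorem emb_ib (i : Fin n) (A : Matrix {k : Fin n // k ≠ i} {k : Fin n // k ≠ i} F) {b : Fin n}
    (hb : b ≠ i) : emb i A i b = 0 := by simp [emb, hb]

theorem emb_ai (i : Fin n) (A : Matrix {k : Fin n // k ≠ i} {k : Fin n // k ≠ i} F) {a : Fin n}
    (ha : a ≠ i) : emb i A a i = 0 := by simp [emb, ha]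

theorem emb_ab (i : Fin n) (A : Matrix {k : Fin n // k ≠ i} {k : Fin n // k ≠ i} F) {a b : Fin n}
    (ha : a ≠ i) (hb : b ≠ i) : emb i A a b = A ⟨a, ha⟩ ⟨b, hb⟩ := by simp [emb, ha, hb]

theorem emb_mul (i : Fin n) (A B : Matrix {k : Fin n // k ≠ i} {k : Fin n // k ≠ i} F) :
    emb i (A * B) = emb i A * emb i B := by
  ext a b
  rw [Matrix.mul_apply, Fintype.sum_eq_add_sum_subtype_ne _ i]
  by_cases ha : a = i
  · subst ha
    rw [emb_ii, one_mul]
    have : ∑ k : {k : Fin n // k ≠ a}, emb a A a k.1 * emb a B k.1 b = 0 :=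
      Finset.sum_eq_zero fun k _ => by rw [emb_ib a A k.2, zero_mul]
    rw [this, add_zero]
    by_cases hb : b = a
    · subst hb; rw [emb_ii, emb_ii]
    · rw [emb_ib _ _ hb, emb_ib _ _ hb]
  · rw [emb_ai _ _ ha, zero_mul, zero_add]
    by_cases hb : b = i
    · subst hb
      rw [emb_ai _ _ ha]
      symm
      exact Finset.sum_eq_zero fun k _ => by rw [emb_ai _ B k.2, mul_zero]
    · rw [emb_ab _ _ ha hb, Matrix.mul_apply]
      exact Finset.sum_congr rfl fun k _ => by rw [emb_ab _ _ ha k.2, emb_ab _ _ k.2 hb]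

theorem emb_one (i : Fin n) : emb i (1 : Matrix {k : Fin n // k ≠ i} {k : Fin n // k ≠ i} F) = 1 := by
  ext a b
  by_cases ha : a = i
  · subst ha
    by_cases hb : b = a
    · subst hb; simp [emb_ii]
    · rw [emb_ib _ _ hb, one_apply_ne (Ne.symm hb)]
  · by_cases hb : b = i
    · subst hb
      rw [emb_ai _ _ ha, one_apply_ne ha]
    · rw [emb_ab _ _ ha hb, Matrix.one_apply, Matrix.one_apply]
      simp only [Subtype.mk.injEq]

/-- `emb` on units. -/
def embU (i : Fin n) (A : GL {k : Fin n // k ≠ i} F) : GL (Fin n) F :=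
  ⟨emb i A.1, emb i A.2, by rw [← emb_mul, A.3, emb_one], by rw [← emb_mul, A.4, emb_one]⟩

/-- The unipotent column elements. -/
def colU (i : Fin n) (c : Fin n → F) : GL (Fin n) F :=
  rk (Function.update c i 0) (Pi.single i 1) (by simp)

theorem colU_coe (i : Fin n) (c : Fin n → F) :
    ((colU i c : GL (Fin n) F) : Matrix (Fin n) (Fin n) F) =
      1 + vecMulVec (Function.update c i 0) (Pi.single i 1) := rfl

theorem colU_add (i : Fin n) (c d : Fin n → F) :
    colU i (c + d) = colU i c * colU i d := by
  apply Units.ext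
  rw [Units.val_mul, colU_coe, colU_coe, colU_coe, Matrix.mul_add, Matrix.mul_one,
    Matrix.add_mul, Matrix.one_mul, vecMulVec_mul_vecMulVec]
  have : Function.update (c + d) i 0 = Function.update c i 0 + Function.update d i 0 := by
    ext k
    by_cases hk : k = i
    · subst hk; simp
    · simp [hk]
  rw [this, add_vecMulVec]
  ext a b
  simp [Matrix.add_apply, vecMulVec_apply]
  ring

variable [Fintype F] {𝕜 : Type*} [Field 𝕜] [hq : Fact ((Fintype.card F : 𝕜) ≠ 0)] {V : Type*} [AddCommGroup V] [Module 𝕜 V]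
  {ρ : Representation 𝕜 (Sp n F) V} {ψ : AddChar F 𝕜}

/-- The (quadratic) character of `Fˣ`. -/
noncomputable def chi (ψ : AddChar F 𝕜) (lam : F) (t : Fˣ) : 𝕜 :=
  (gs ψ (-lam))⁻¹ * gs ψ (-((t⁻¹ : Fˣ) : F) * lam)

theorem chi_one {lam : F} (hg : gs ψ (-lam) ≠ 0) : chi ψ lam (1 : Fˣ) = 1 := by
  rw [chi, inv_one, Units.val_one, neg_one_mul, inv_mul_cancel₀ hg]

/-- A seed: a non-zero vector of weight `lam E_ii`, with the standing hypotheses. -/
structure Seed (ρ : Representation 𝕜 (Sp n F) V) (ψ : AddChar F 𝕜) (lam : F) (i : Fin n) (v : V) :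
    Prop where
  prim : ψ.IsPrimitive
  two : (2 : F) ≠ 0
  rk : RkOne ρ ψ
  lam0 : lam ≠ 0
  mem : v ∈ Wt ρ ψ (TT lam (Pi.single i 1))
  ne : v ≠ 0

namespace Seed

variable {lam : F} {i : Fin n} {v : V} (hs : Seed ρ ψ lam i v)

include hs

theorem gs_ne (j : Fin n) (hij : i ≠ j) : gs ψ (-lam) ≠ 0 := by
  intro h
  have := gs_Kop hs.prim hs.two hs.rk hij hs.lam0 hs.mem
  rw [h, zero_smul] at this
  exact hs.ne this.symm

theorem ht_apply {j : Fin n} (hij : i ≠ j) (t : Fˣ) :
    ρ (mm (ht j t)) v = chi ψ lam t • v := by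
  rw [chi, mul_smul, ← gs_ht hs.prim hs.two hs.rk hij hs.lam0 hs.mem t, smul_smul,
    inv_mul_cancel₀ (hs.gs_ne j hij), one_smul]

theorem chi_mul {j : Fin n} (hij : i ≠ j) (s t : Fˣ) :
    chi ψ lam (s * t) = chi ψ lam s * chi ψ lam t := by
  have h1 := hs.ht_apply hij (s * t)
  have h3 : (ht j (s * t) : GL (Fin n) F) = ht j s * ht j t := by
    rw [ht, ht, ht, ← dg_mul, ← Pi.mulSingle_mul]
  rw [h3, map_mul, rho_mul, hs.ht_apply hij, map_smul, hs.ht_apply hij, smul_smul] at h1
  have h4 : (chi ψ lam t * chi ψ lam s - chi ψ lam (s * t)) • v = 0 := by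
    rw [sub_smul, h1, sub_self]
  rcases smul_eq_zero.mp h4 with h5 | h5
  · rw [← sub_eq_zero.mp h5, mul_comm]
  · exact absurd h5 hs.ne

theorem tv_apply {a b : Fin n} (hab : a ≠ b) (hai : a ≠ i) (s : F) :
    ρ (mm (tv a b hab s)) v = v := by
  apply fix_tv hs.prim hs.two hs.rk a b hab
  intro t
  rw [uu_TT_single hs.mem, sD_zero_of_ne _ _ _ _ (fun h => hai h.1.symm), mul_zero,
    AddChar.map_zero_eq_one, one_smul]

theorem dg_apply {j : Fin n} (hij : i ≠ j) (d : Fin n → Fˣ) (hd : d i = 1) :
    ρ (mm (dg d)) v = chi ψ lam (∏ k, d k) • v := by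
  let M : Submonoid (Fin n → Fˣ) :=
    { carrier := {d | ρ (mm (dg d)) v = chi ψ lam (∏ k, d k) • v}
      one_mem' := by
        have : (dg (1 : Fin n → Fˣ) : GL (Fin n) F) = 1 := by
          apply Units.ext
          rw [dg_coe]
          simp
        show ρ (mm (dg 1)) v = _
        rw [this, map_one, map_one]
        simp [chi_one (hs.gs_ne j hij)]
      mul_mem' := by
        intro a b ha hb
        simp only [Set.mem_ofPred_eq] at ha hb ⊢
        rw [dg_mul, map_mul, rho_mul, hb, map_smul, ha, smul_smul]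
        simp only [Pi.mul_apply, Finset.prod_mul_distrib]
        rw [hs.chi_mul hij, mul_comm] }
  have hmem : ∀ k, Pi.mulSingle k (d k) ∈ M := by
    intro k
    by_cases hk : k = i
    · subst hk
      rw [hd, Pi.mulSingle_one]
      exact M.one_mem
    · show ρ (mm (dg (Pi.mulSingle k (d k)))) v = _
      have := hs.ht_apply (Ne.symm hk) (d k)
      rw [ht] at this
      rw [this]
      congr 2
      rw [Finset.prod_eq_single k]
      · simp
      · intro l _ hl
        simp [hl]
      · simp
  have := Submonoid.prod_mem M (t := Finset.univ) (f := fun k => Pi.mulSingle k (d k))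
    (fun k _ => hmem k)
  rw [Finset.univ_prod_mulSingle] at this
  exact this

theorem embU_apply {j : Fin n} (hij : i ≠ j) (A : GL {k : Fin n // k ≠ i} F) :
    ρ (mm (embU i A)) v = chi ψ lam (GeneralLinearGroup.det (embU i A)) • v := by
  suffices h : ∀ M : Matrix {k : Fin n // k ≠ i} {k : Fin n // k ≠ i} F, det M ≠ 0 →
      ∀ A : GL {k : Fin n // k ≠ i} F, A.1 = M →
      ρ (mm (embU i A)) v = chi ψ lam (GeneralLinearGroup.det (embU i A)) • v by
    refine h A.1 ?_ A rfl
    have := (GeneralLinearGroup.det A).ne_zero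
    rwa [GeneralLinearGroup.val_det_apply] at this
  intro M hM
  refine diagonal_transvection_induction_of_det_ne_zero (P := fun M =>
    ∀ A : GL {k : Fin n // k ≠ i} F, A.1 = M →
      ρ (mm (embU i A)) v = chi ψ lam (GeneralLinearGroup.det (embU i A)) • v) M hM ?_ ?_ ?_
  · intro D hD A hA
    have hD' : ∀ k, D k ≠ 0 := by
      intro k hk
      apply hD
      rw [det_diagonal]
      exact Finset.prod_eq_zero (Finset.mem_univ k) hk
    let d : Fin n → Fˣ := fun k => if hk : k = i then 1 else Units.mk0 (D ⟨k, hk⟩) (hD' _)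
    have h1 : embU i A = dg d := by
      apply Units.ext
      rw [dg_coe]
      show emb i A.1 = _
      rw [hA]
      ext a b
      by_cases ha : a = i
      · subst ha
        by_cases hb : b = a
        · subst hb; simp [emb_ii, d]
        · rw [emb_ib _ _ hb, diagonal_apply_ne _ (Ne.symm hb)]
      · by_cases hb : b = i
        · subst hb
          rw [emb_ai _ _ ha, diagonal_apply_ne _ ha]
        · rw [emb_ab _ _ ha hb]
          by_cases hab : a = b
          · subst hab
            simp [d, ha]
          · rw [diagonal_apply_ne _ hab, diagonal_apply_ne]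
            intro h
            exact hab (congrArg Subtype.val h)
    rw [h1, hs.dg_apply hij d (by simp [d])]
    congr 2
    apply Units.ext
    rw [GeneralLinearGroup.val_det_apply, dg_coe, det_diagonal]
    simp
  · intro t A hA
    have hab : (t.i : Fin n) ≠ (t.j : Fin n) := fun h => t.hij (Subtype.ext h)
    have h1 : embU i A = tv (t.i : Fin n) (t.j : Fin n) hab t.c := by
      apply Units.ext
      rw [tv_coe]
      show emb i A.1 = _
      rw [hA]
      ext a b
      rw [Matrix.add_apply]
      by_cases ha : a = i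
      · subst ha
        rw [single_apply_of_row_ne t.i.2, add_zero]
        by_cases hb : b = a
        · subst hb; simp [emb_ii]
        · rw [emb_ib _ _ hb, one_apply_ne (Ne.symm hb)]
      · by_cases hb : b = i
        · subst hb
          rw [emb_ai _ _ ha, single_apply_of_col_ne _ _ t.j.2, add_zero, one_apply_ne ha]
        · rw [emb_ab _ _ ha hb, TransvectionStruct.toMatrix, transvection, Matrix.add_apply,
            Matrix.one_apply, Matrix.one_apply, Matrix.single_apply, Matrix.single_apply]
          simp only [Subtype.mk.injEq, Subtype.ext_iff]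
    rw [h1, hs.tv_apply hab t.i.2]
    have : GeneralLinearGroup.det (tv (t.i : Fin n) (t.j : Fin n) hab t.c) = 1 := by
      apply Units.ext
      rw [GeneralLinearGroup.val_det_apply, tv_coe]
      exact det_transvection_of_ne _ _ hab _
    rw [this, chi_one (hs.gs_ne j hij), one_smul]
  · intro A B hA hB ihA ihB C hC
    let A' : GL {k : Fin n // k ≠ i} F := GeneralLinearGroup.mkOfDetNeZero A hA
    let B' : GL {k : Fin n // k ≠ i} F := GeneralLinearGroup.mkOfDetNeZero B hB
    have h1 : embU i C = embU i A' * embU i B' := by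
      apply Units.ext
      rw [Units.val_mul]
      show emb i C.1 = emb i A * emb i B
      rw [hC, emb_mul]
    rw [h1, map_mul, rho_mul, ihB B' rfl, map_smul, ihA A' rfl, map_mul, hs.chi_mul hij,
      smul_smul, mul_comm]

theorem colU_apply {j : Fin n} (hij : i ≠ j) (c : Fin n → F) :
    ρ (mm (colU i c)) v = v ∧ GeneralLinearGroup.det (colU i c) = 1 := by
  let M : AddSubmonoid (Fin n → F) :=
    { carrier := {c | ρ (mm (colU i c)) v = v ∧ GeneralLinearGroup.det (colU i c) = 1}
      zero_mem' := by
        have : (colU i (0 : Fin n → F)) = 1 := by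
          apply Units.ext
          rw [colU_coe]
          simp
        show ρ (mm (colU i 0)) v = v ∧ GeneralLinearGroup.det (colU i 0) = 1
        rw [this, map_one, map_one, map_one]
        exact ⟨rfl, rfl⟩
      add_mem' := by
        intro a b ha hb
        simp only [Set.mem_ofPred_eq] at ha hb ⊢
        rw [colU_add, map_mul, rho_mul, hb.1, ha.1, map_mul, hb.2, ha.2, one_mul]
        exact ⟨rfl, rfl⟩ }
  have hmem : ∀ k, (Pi.single k (c k) : Fin n → F) ∈ M := by
    intro k
    by_cases hk : k = i
    · subst hk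
      have : colU k (Pi.single k (c k)) = colU k 0 := by
        apply Units.ext
        rw [colU_coe, colU_coe]
        congr 2
        ext l
        by_cases hl : l = k
        · subst hl; simp
        · simp [hl]
      show ρ (mm (colU k (Pi.single k (c k)))) v = v ∧ _
      rw [this]
      exact M.zero_mem
    · have : colU i (Pi.single k (c k)) = tv k i hk (c k) := by
        apply Units.ext
        rw [colU_coe, tv_coe]
        congr 1
        have h1 : Function.update (Pi.single k (c k) : Fin n → F) i 0 = Pi.single k (c k) := by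
          ext l
          by_cases hl : l = i
          · subst hl; simp [Ne.symm hk]
          · simp [hl]
        rw [h1]
        ext a b
        rw [vecMulVec_apply, Matrix.single_apply, Pi.single_apply, Pi.single_apply]
        by_cases h1 : k = a
        · subst h1
          by_cases h2 : i = b
          · subst h2; simp
          · simp [h2, Ne.symm h2]
        · simp [h1, Ne.symm h1]
      show ρ (mm (colU i (Pi.single k (c k)))) v = v ∧ _
      rw [this, hs.tv_apply hk hk]
      refine ⟨rfl, ?_⟩
      apply Units.ext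
      rw [GeneralLinearGroup.val_det_apply, tv_coe]
      exact det_transvection_of_ne _ _ hk _
  have := AddSubmonoid.sum_mem M (t := Finset.univ) (f := fun k => (Pi.single k (c k) : Fin n → F))
    (fun k _ => hmem k)
  rw [Finset.univ_sum_single] at this
  exact this

/-- (F4) The stabiliser of `e_i` acts on the seed by `chi (det h)`. -/
theorem stab_apply {j : Fin n} (hij : i ≠ j) (h : GL (Fin n) F)
    (hh : (Pi.single i 1 : Fin n → F) ᵥ* (h : Matrix (Fin n) (Fin n) F) = Pi.single i 1) :
    ρ (mm h) v = chi ψ lam (GeneralLinearGroup.det h) • v := by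
  have hrow : ∀ g : GL (Fin n) F,
      (Pi.single i 1 : Fin n → F) ᵥ* (g : Matrix (Fin n) (Fin n) F) = Pi.single i 1 →
      ∀ b, (g : Matrix (Fin n) (Fin n) F) i b = if b = i then 1 else 0 := by
    intro g hg b
    have := congrFun hg b
    rw [single_one_vecMul] at this
    rw [row_apply] at this
    rw [this, Pi.single_apply]
  have hh' := vecMul_inv hh
  have h1 := hrow h hh
  have h2 := hrow h⁻¹ hh'
  let A : GL {k : Fin n // k ≠ i} F :=
    ⟨Matrix.of fun a b => (h : Matrix (Fin n) (Fin n) F) a.1 b.1,
     Matrix.of fun a b => ((h⁻¹ : GL (Fin n) F) : Matrix (Fin n) (Fin n) F) a.1 b.1, by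
      ext a b
      have h3 : ((h : Matrix (Fin n) (Fin n) F) *
        ((h⁻¹ : GL (Fin n) F) : Matrix (Fin n) (Fin n) F)) a.1 b.1 =
          (1 : Matrix (Fin n) (Fin n) F) a.1 b.1 := by
        rw [← Units.val_mul, mul_inv_cancel]; rfl
      rw [Matrix.mul_apply, Fintype.sum_eq_add_sum_subtype_ne _ i, h2 b.1, if_neg b.2, mul_zero,
        zero_add] at h3
      rw [Matrix.mul_apply]
      simp only [Matrix.of_apply]
      rw [h3, Matrix.one_apply, Matrix.one_apply]
      simp only [Subtype.ext_iff], by
      ext a b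
      have h3 : (((h⁻¹ : GL (Fin n) F) : Matrix (Fin n) (Fin n) F) *
        (h : Matrix (Fin n) (Fin n) F)) a.1 b.1 =
          (1 : Matrix (Fin n) (Fin n) F) a.1 b.1 := by
        rw [← Units.val_mul, inv_mul_cancel]; rfl
      rw [Matrix.mul_apply, Fintype.sum_eq_add_sum_subtype_ne _ i, h1 b.1, if_neg b.2, mul_zero,
        zero_add] at h3
      rw [Matrix.mul_apply]
      simp only [Matrix.of_apply]
      rw [h3, Matrix.one_apply, Matrix.one_apply]
      simp only [Subtype.ext_iff]⟩
  let c : Fin n → F := fun a => (h : Matrix (Fin n) (Fin n) F) a i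
  have hfac : h = colU i c * embU i A := by
    apply Units.ext
    rw [Units.val_mul, colU_coe]
    show (h : Matrix (Fin n) (Fin n) F) = _ * emb i A.1
    rw [Matrix.add_mul, Matrix.one_mul, vecMulVec_mul]
    have h3 : (Pi.single i 1 : Fin n → F) ᵥ* emb i A.1 = Pi.single i 1 := by
      rw [single_one_vecMul]
      ext b
      rw [row_apply]
      by_cases hb : b = i
      · subst hb; simp [emb_ii]
      · rw [emb_ib _ _ hb]; simp [hb]
    rw [h3]
    ext a b
    rw [Matrix.add_apply, vecMulVec_apply]
    by_cases ha : a = i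
    · subst ha
      rw [h1 b]
      by_cases hb : b = a
      · subst hb; simp [emb_ii]
      · rw [emb_ib _ _ hb]; simp [hb]
    · by_cases hb : b = i
      · subst hb
        rw [emb_ai _ _ ha]
        simp [ha, c]
      · rw [emb_ab _ _ ha hb]
        simp [hb, A]
  rw [hfac, map_mul, rho_mul, hs.embU_apply hij, map_smul, (hs.colU_apply hij c).1, map_mul,
    (hs.colU_apply hij c).2, one_mul]

end Seed

end Cfsg.Agent.H434.WK
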