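import Cfsg.Agent.H434.LD.WTwelve

/-!
# Traces of the representations of `Sp₄(5)` of degree 12 (helper434)
-/

set_option autoImplicit false
set_option linter.unusedSectionVars false
open Matrix Module Representation Cfsg.Agent.H162.Weil

namespace Cfsg.Agent.H434.WK

variable {𝕜 : Type*} [Field 𝕜] [hq : Fact ((Fintype.card (ZMod 5) : 𝕜) ≠ 0)] {V : Type*} [AddCommGroup V]
  [Module 𝕜 V] {ρ : Representation 𝕜 (Sp 2 (ZMod 5)) V} {ψ : AddChar (ZMod 5) 𝕜}
  {lam : ZMod 5} {v : V}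

theorem seed_sq (hs : Seed ρ ψ lam 0 v) {c : ZMod 5} (hc : c ≠ 0) :
    Seed ρ ψ (lam * (c * c)) 0 (ff ρ ψ lam v (Pi.single 0 c)) := by
  refine ⟨hs.prim, hs.two, hs.rk, mul_ne_zero hs.lam0 (mul_ne_zero hc hc), ?_, ff_ne hs ?_⟩
  · have h := ff_mem hs (Pi.single 0 c)
    have h1 : TT lam (Pi.single 0 c : Fin 2 → ZMod 5) = TT (lam * (c * c)) (Pi.single 0 1) := by
      ext k l
      rw [TT_apply, TT_apply]
      fin_cases k <;> fin_cases l <;> simp
    rwa [h1] at h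
  · intro h
    have := congrFun h 0
    simp at this
    exact hc this

/-- the parameter may be taken to be `1` or `2` -/
theorem seed_cases (hs : Seed ρ ψ lam 0 v) : (∃ v', Seed ρ ψ 1 0 v') ∨ (∃ v', Seed ρ ψ 2 0 v') := by
  have h0 := hs.lam0
  rcases zmod_cases lam with h | h | h | h | h
  · exact absurd h h0
  · subst h
    exact Or.inl ⟨v, hs⟩
  · subst h
    exact Or.inr ⟨v, hs⟩
  · subst h
    have h1 := seed_sq hs (c := 2) (by decide)
    rw [show (3 : ZMod 5) * (2 * 2) = 2 by decide] at h1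
    exact Or.inr ⟨_, h1⟩
  · subst h
    have h1 := seed_sq hs (c := 2) (by decide)
    rw [show (4 : ZMod 5) * (2 * 2) = 1 by decide] at h1
    exact Or.inl ⟨_, h1⟩

theorem tr_uu [FiniteDimensional 𝕜 V] (hs : Seed ρ ψ lam 0 v) (hd : finrank 𝕜 V = 12) (S : Sym 2 (ZMod 5)) :
    LinearMap.trace 𝕜 V (ρ (uu S)) = ∑ x ∈ X12, ψ (lam * (x ⬝ᵥ (S.1 *ᵥ x))) := by
  classical
  rw [LinearMap.trace_eq_matrix_trace 𝕜 (bb hs hd), Matrix.trace, ← Finset.sum_coe_sort X12]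
  refine Finset.sum_congr rfl fun x _ => ?_
  rw [Matrix.diag_apply, LinearMap.toMatrix_apply, bb_apply, ff_uu hs, map_smul, ← bb_apply hs hd,
    Basis.repr_self, Finsupp.smul_apply, Finsupp.single_eq_same, smul_eq_mul, mul_one]

theorem tr_z [FiniteDimensional 𝕜 V] (hs : Seed ρ ψ lam 0 v) (hd : finrank 𝕜 V = 12) :
    LinearMap.trace 𝕜 V (ρ (uu (sD 0 1))) = 2 + 5 * (ψ lam + ψ lam ^ 4) := by
  have h1 : ∀ x : Fin 2 → ZMod 5, x ⬝ᵥ ((sD 0 (1 : ZMod 5)).1 *ᵥ x) = x 0 * x 0 := by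
    intro x
    simp only [sD]
    rw [sgl_mulVec, dotProduct_single, one_mul]
  rw [tr_uu hs hd]
  simp only [h1]
  rw [Finset.sum_comp (fun y : ZMod 5 => ψ (lam * (y * y))) (fun x : Fin 2 → ZMod 5 => x 0)]
  have h2 : X12.image (fun x : Fin 2 → ZMod 5 => x 0) = {0, 1, 2} := by decide
  rw [h2, Finset.sum_insert (by decide), Finset.sum_insert (by decide), Finset.sum_singleton]
  have c0 : (X12.filter fun x => x 0 = 0).card = 2 := by decide
  have c1 : (X12.filter fun x => x 0 = 1).card = 5 := by decide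
  have c2 : (X12.filter fun x => x 0 = 2).card = 5 := by decide
  rw [c0, c1, c2]
  have p4 : ψ (lam * (2 * 2)) = ψ lam ^ 4 := by
    rw [← psi_nat]
    congr 1
    push_cast
    ring
  rw [p4, mul_zero, mul_zero, AddChar.map_zero_eq_one, mul_one, mul_one]
  simp only [nsmul_eq_mul]
  push_cast
  ring

/-- the two possible values of the trace of a transvection are different -/
theorem tr_ne {𝕜 : Type*} [Field 𝕜] (h5 : (5 : 𝕜) ≠ 0) {μ : 𝕜} (hμ : 1 + μ + μ ^ 2 + μ ^ 3 + μ ^ 4 = 0) :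
    (2 + 5 * (μ + μ ^ 4) : 𝕜) ≠ 2 + 5 * (μ ^ 2 + μ ^ 3) := by
  intro h
  have h1 : (5 : 𝕜) * (μ + μ ^ 4 - (μ ^ 2 + μ ^ 3)) = 0 := by linear_combination h
  have h2 := (mul_eq_zero.1 h1).resolve_left h5
  have h3 : (μ + μ ^ 4 - (μ ^ 2 + μ ^ 3)) ^ 2 = 5 := by
    linear_combination (-5 + 5 * μ + μ ^ 2 - 3 * μ ^ 3 + μ ^ 4) * hμ
  rw [h2] at h3
  apply h5
  rw [← h3]
  ring

end Cfsg.Agent.H434.WK
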