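import Cfsg.Agent.H434.LD.WOrb

/-!
# The representations of `Sp₄(5)` of degree 12 (helper434)
-/

set_option autoImplicit false
set_option linter.unusedSectionVars false
open Matrix Module Representation Cfsg.Agent.H162.Weil

namespace Cfsg.Agent.H434.WK

instance fact5 : Fact (Nat.Prime 5) := ⟨by norm_num⟩

/-- representatives of the non-zero vectors up to sign -/
def X12 : Finset (Fin 2 → ZMod 5) :=
  Finset.univ.filter fun x => x 0 = 1 ∨ x 0 = 2 ∨ (x 0 = 0 ∧ (x 1 = 1 ∨ x 1 = 2))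

theorem card_X12 : X12.card = 12 := by decide

theorem X12_ne {x : Fin 2 → ZMod 5} (hx : x ∈ X12) : x ≠ 0 := by
  rintro rfl
  revert hx
  decide

theorem X12_neg {x : Fin 2 → ZMod 5} (hx : x ∈ X12) : -x ∉ X12 := by
  revert x
  decide

theorem X12_or {x : Fin 2 → ZMod 5} (hx : x ≠ 0) : x ∈ X12 ∨ -x ∈ X12 := by
  revert x
  decide

theorem TT_eq' {F : Type*} [Field F] [Fintype F] {n : ℕ} {lam : F} {x y : Fin n → F} (hlam : lam ≠ 0) (hx : x ≠ 0)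
    (h : TT lam y = TT lam x) : y = x ∨ y = -x :=
  H162.Weil.TT_eq hlam hx h

theorem five_zmod : (5 : ZMod 5) = 0 := by decide

theorem zmod_cases (c : ZMod 5) : c = 0 ∨ c = 1 ∨ c = 2 ∨ c = 3 ∨ c = 4 := by
  revert c
  decide

theorem sum5 {M : Type*} [AddCommMonoid M] (g : ZMod 5 → M) : ∑ y : ZMod 5, g y = g 0 + g 1 + g 2 + g 3 + g 4 :=
  Fin.sum_univ_five g

section root

variable {𝕜 : Type*} [Field 𝕜] {ψ : AddChar (ZMod 5) 𝕜}

theorem psi_nat (lam : ZMod 5) (m : ℕ) : ψ ((m : ZMod 5) * lam) = ψ lam ^ m := by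
  rw [← nsmul_eq_mul, AddChar.map_nsmul_eq_pow]

theorem psi_pow_five (lam : ZMod 5) : ψ lam ^ 5 = 1 := by
  rw [← psi_nat]
  have : ((5 : ℕ) : ZMod 5) = 0 := by decide
  rw [this, zero_mul, AddChar.map_zero_eq_one]

theorem psi_ne_one (hψ : ψ.IsPrimitive) {lam : ZMod 5} (hlam : lam ≠ 0) : ψ lam ≠ 1 := by
  intro h
  apply hψ hlam
  ext s
  rw [AddChar.mulShift_apply]
  have h1 : (lam * s : ZMod 5) = ((s.val : ℕ) : ZMod 5) * lam := by
    rw [ZMod.natCast_zmod_val, mul_comm]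
  rw [h1, psi_nat, h, one_pow]
  simp

theorem psi_sum (hψ : ψ.IsPrimitive) {lam : ZMod 5} (hlam : lam ≠ 0) :
    1 + ψ lam + ψ lam ^ 2 + ψ lam ^ 3 + ψ lam ^ 4 = 0 := by
  have h1 := psi_ne_one hψ hlam
  have h2 := psi_pow_five (ψ := ψ) lam
  have h3 : (ψ lam - 1) * (1 + ψ lam + ψ lam ^ 2 + ψ lam ^ 3 + ψ lam ^ 4) = 0 := by
    linear_combination h2
  exact (mul_eq_zero.1 h3).resolve_left (sub_ne_zero.2 h1)

theorem gs_neg (lam : ZMod 5) : gs ψ (-lam) = 1 + 2 * ψ lam ^ 4 + 2 * ψ lam := by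
  unfold gs
  rw [sum5]
  have e0 : ψ (-lam * (0 : ZMod 5) ^ 2) = 1 := by
    rw [show -lam * (0 : ZMod 5) ^ 2 = 0 by ring, AddChar.map_zero_eq_one]
  have e1 : ψ (-lam * (1 : ZMod 5) ^ 2) = ψ lam ^ 4 := by
    rw [← psi_nat]
    congr 1
    push_cast
    linear_combination (-lam) * five_zmod
  have e2 : ψ (-lam * (2 : ZMod 5) ^ 2) = ψ lam := by
    congr 1
    linear_combination (-lam) * five_zmod
  have e3 : ψ (-lam * (3 : ZMod 5) ^ 2) = ψ lam := by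
    congr 1
    linear_combination (-2 * lam) * five_zmod
  have e4 : ψ (-lam * (4 : ZMod 5) ^ 2) = ψ lam ^ 4 := by
    rw [← psi_nat]
    congr 1
    push_cast
    linear_combination (-4 * lam) * five_zmod
  rw [e0, e1, e2, e3, e4]
  ring

/-- the unit `2` -/
def u2 : (ZMod 5)ˣ := ⟨2, 3, by decide, by decide⟩

theorem gs_mul (m : ℕ) (lam : ZMod 5) : gs ψ (-((m : ZMod 5) * lam)) = 1 + 2 * ψ lam ^ (4 * m) + 2 * ψ lam ^ m := by
  rw [gs_neg, psi_nat, ← pow_mul, mul_comm m 4]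

theorem chi_neg_one (lam : ZMod 5) (h : gs ψ (-lam) ≠ 0) : chi ψ lam (-1 : (ZMod 5)ˣ) = 1 := by
  have h1 : gs ψ (-(((-1 : (ZMod 5)ˣ)⁻¹ : (ZMod 5)ˣ) : ZMod 5) * lam) = gs ψ (-lam) := by
    have h2 : -(((-1 : (ZMod 5)ˣ)⁻¹ : (ZMod 5)ˣ) : ZMod 5) * lam = -(((4 : ℕ) : ZMod 5) * lam) := by
      have h3 : (((-1 : (ZMod 5)ˣ)⁻¹ : (ZMod 5)ˣ) : ZMod 5) = ((4 : ℕ) : ZMod 5) := by decide
      rw [h3]; ring
    rw [h2, gs_mul, gs_neg]
    have h4 := psi_pow_five (ψ := ψ) lam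
    linear_combination (2 * ψ lam * (ψ lam ^ 10 + ψ lam ^ 5 + 1)) * h4
  rw [chi, h1, inv_mul_cancel₀ h]

theorem chi_two (hψ : ψ.IsPrimitive) {lam : ZMod 5} (hlam : lam ≠ 0) (h : gs ψ (-lam) ≠ 0) :
    chi ψ lam u2 = -1 := by
  have h1 : gs ψ (-((u2⁻¹ : (ZMod 5)ˣ) : ZMod 5) * lam) = - gs ψ (-lam) := by
    have h2 : -((u2⁻¹ : (ZMod 5)ˣ) : ZMod 5) * lam = -(((3 : ℕ) : ZMod 5) * lam) := by
      have h3 : ((u2⁻¹ : (ZMod 5)ˣ) : ZMod 5) = ((3 : ℕ) : ZMod 5) := by decide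
      rw [h3]; ring
    rw [h2, gs_mul, gs_neg]
    have h4 := psi_pow_five (ψ := ψ) lam
    have h5 := psi_sum hψ hlam
    linear_combination (2 * ψ lam ^ 2 * (ψ lam ^ 5 + 1)) * h4 + 2 * h5
  rw [chi, h1, mul_neg, inv_mul_cancel₀ h]

end root

section rep

variable {𝕜 : Type*} [Field 𝕜] [hq : Fact ((Fintype.card (ZMod 5) : 𝕜) ≠ 0)] {V : Type*} [AddCommGroup V]
  [Module 𝕜 V] {ρ : Representation 𝕜 (Sp 2 (ZMod 5)) V} {ψ : AddChar (ZMod 5) 𝕜} {lam : ZMod 5} {v : V}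

theorem five_ne : (5 : 𝕜) ≠ 0 := by
  have := hq.out
  rw [ZMod.card] at this
  exact_mod_cast this

theorem ij2 : (0 : Fin 2) ≠ 1 := by decide

/-- the family of weight vectors, `0` at `0` -/
noncomputable def ff (ρ : Representation 𝕜 (Sp 2 (ZMod 5)) V) (ψ : AddChar (ZMod 5) 𝕜) (lam : ZMod 5) (v : V)
    (x : Fin 2 → ZMod 5) : V := famF ρ ψ lam 0 v 0 x

theorem ff_zero : ff ρ ψ lam v 0 = 0 := by
  rw [ff, famF, dif_pos rfl]

variable (hs : Seed ρ ψ lam 0 v)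

include hs

theorem ff_ne {x : Fin 2 → ZMod 5} (hx : x ≠ 0) : ff ρ ψ lam v x ≠ 0 := by
  obtain ⟨h, hh⟩ := exists_vecMul_eq_single x hx 0
  have h1 := hs.fam_eq ij2 0 hx h hh
  intro h0
  apply hs.ne
  rw [show famF ρ ψ lam 0 v 0 x = 0 from h0, smul_zero] at h1
  exact rho_inj (ρ := ρ) (mm h) (by rw [h1, map_zero])

theorem ff_mem (x : Fin 2 → ZMod 5) : ff ρ ψ lam v x ∈ Wt ρ ψ (TT lam x) := by
  by_cases hx : x = 0
  · rw [hx, ff_zero]
    exact Submodule.zero_mem _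
  · exact hs.fam_mem ij2 0 hx

theorem ff_r2 (g : GL (Fin 2) (ZMod 5)) (x : Fin 2 → ZMod 5) : ρ (mm g) (ff ρ ψ lam v x) =
    chi ψ lam (GeneralLinearGroup.det g) •
      ff ρ ψ lam v (x ᵥ* ((g⁻¹ : GL (Fin 2) (ZMod 5)) : Matrix (Fin 2) (Fin 2) (ZMod 5))) := by
  by_cases hx : x = 0
  · rw [hx, zero_vecMul, ff_zero, map_zero, smul_zero]
  · exact hs.fam_r2 ij2 0 hx g

theorem gs_ne0 : gs ψ (-lam) ≠ 0 := hs.gs_ne 1 ij2

theorem ff_uu (x : Fin 2 → ZMod 5) (S : Sym 2 (ZMod 5)) :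
    ρ (uu S) (ff ρ ψ lam v x) = ψ (lam * (x ⬝ᵥ (S.1 *ᵥ x))) • ff ρ ψ lam v x := by
  rw [ff_mem hs x S, pr_TT]

/-- the central element -/
theorem ff_neg (x : Fin 2 → ZMod 5) : ff ρ ψ lam v (-x) = ρ (mm (-1)) (ff ρ ψ lam v x) := by
  rw [ff_r2 hs]
  have h1 : GeneralLinearGroup.det (-1 : GL (Fin 2) (ZMod 5)) = 1 := by
    apply Units.ext
    rw [GeneralLinearGroup.val_det_apply, Units.val_neg, Units.val_one, Matrix.det_neg, Matrix.det_one]
    simp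
  have h2 : (((-1 : GL (Fin 2) (ZMod 5))⁻¹ : GL (Fin 2) (ZMod 5)) : Matrix (Fin 2) (Fin 2) (ZMod 5)) = -1 := by
    have : ((-1 : GL (Fin 2) (ZMod 5))⁻¹ : GL (Fin 2) (ZMod 5)) = -1 := by simp
    rw [this, Units.val_neg, Units.val_one]
  rw [h1, chi_one (gs_ne0 hs), one_smul, h2, Matrix.vecMul_neg, Matrix.vecMul_one]

theorem ff_li : LinearIndependent 𝕜 (fun x : X12 => ff ρ ψ lam v x) := by
  rw [linearIndependent_iff']
  intro s g hg x hx
  have h1 := congrArg (Pj ρ ψ (TT lam x.1)) hg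
  rw [map_zero, map_sum, Finset.sum_eq_single_of_mem x hx, map_smul, Pj_of_mem (ff_mem hs x.1)] at h1
  · exact (smul_eq_zero.mp h1).resolve_right (ff_ne hs (X12_ne x.2))
  · intro y _ hne
    rw [map_smul, Pj_of_mem_ne hs.prim hs.two (TT_mem _ _) (TT_mem _ _) ?_ (ff_mem hs y.1), smul_zero]
    intro h
    rcases TT_eq' hs.lam0 (X12_ne y.2) h with h2 | h2
    · exact hne (Subtype.ext h2.symm)
    · exact X12_neg y.2 (h2 ▸ x.2)

/-- the basis of weight vectors -/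
noncomputable def bb [FiniteDimensional 𝕜 V] (hd : finrank 𝕜 V = 12) : Basis X12 𝕜 V :=
  basisOfLinearIndependentOfCardEqFinrank' _ (ff_li hs) (by rw [hd, Fintype.card_coe, card_X12])

theorem bb_apply [FiniteDimensional 𝕜 V] (hd : finrank 𝕜 V = 12) (x : X12) : bb hs hd x = ff ρ ψ lam v x := by
  rw [bb, coe_basisOfLinearIndependentOfCardEqFinrank']

omit hs in
theorem X12_axis {a b : Fin 2} (hab : a ≠ b) :
    X12.filter (fun x => x a = 0) = {Pi.single b 1, Pi.single b 2} := by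
  revert a b
  decide

omit hs in
theorem single_ne12 (b : Fin 2) : (Pi.single b 1 : Fin 2 → ZMod 5) ≠ Pi.single b 2 := by
  revert b
  decide

omit hs in
theorem single_mem1 (b : Fin 2) : (Pi.single b 1 : Fin 2 → ZMod 5) ∈ X12 := by
  revert b
  decide

omit hs in
theorem single_mem2 (b : Fin 2) : (Pi.single b 2 : Fin 2 → ZMod 5) ∈ X12 := by
  revert b
  decide

theorem li2 (b : Fin 2) {c d : 𝕜} (h : c • ff ρ ψ lam v (Pi.single b 1) + d • ff ρ ψ lam v (Pi.single b 2) = 0) :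
    c = 0 ∧ d = 0 := by
  classical
  have hne : (⟨_, single_mem1 b⟩ : X12) ≠ ⟨_, single_mem2 b⟩ := fun h => single_ne12 b (congrArg Subtype.val h)
  have h1 := (linearIndependent_iff'.1 (ff_li hs)) {⟨_, single_mem1 b⟩, ⟨_, single_mem2 b⟩}
    (fun x => if x.1 = Pi.single b 1 then c else d) (by
      rw [Finset.sum_pair hne]
      simp only [if_true, if_neg (single_ne12 b).symm]
      exact h)
  have h2 := h1 ⟨_, single_mem1 b⟩ (by simp)
  have h3 := h1 ⟨_, single_mem2 b⟩ (by simp)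
  simp only [if_true, if_neg (single_ne12 b).symm] at h2 h3
  exact ⟨h2, h3⟩

theorem fix_span [FiniteDimensional 𝕜 V] (hd : finrank 𝕜 V = 12) {a b : Fin 2} (hab : a ≠ b) {u : V}
    (hu : ρ (uu (sD a 1)) u = u) :
    ∃ c d : 𝕜, u = c • ff ρ ψ lam v (Pi.single b 1) + d • ff ρ ψ lam v (Pi.single b 2) := by
  classical
  set B := bb hs hd with hB
  have h1 : u = ∑ x : X12, B.repr u x • ff ρ ψ lam v x := by
    conv_lhs => rw [← B.sum_repr u]
    exact Finset.sum_congr rfl fun x _ => by rw [hB, bb_apply]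
  have h2 : ∀ x : X12, x.1 a ≠ 0 → B.repr u x = 0 := by
    intro x hx
    have h3 : ∑ x : X12, (B.repr u x * (ψ (lam * (x.1 a * x.1 a)) - 1)) • ff ρ ψ lam v x = 0 := by
      have h4 : ρ (uu (sD a 1)) u - u = 0 := by rw [hu, sub_self]
      rw [← h4]
      conv_rhs => rw [h1, map_sum, ← Finset.sum_sub_distrib]
      refine Finset.sum_congr rfl fun y _ => ?_
      rw [map_smul, ff_uu hs]
      have h5 : y.1 ⬝ᵥ ((sD a (1 : ZMod 5)).1 *ᵥ y.1) = y.1 a * y.1 a := by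
        simp only [sD]
        rw [sgl_mulVec, dotProduct_single, one_mul]
      rw [h5, mul_smul, sub_smul, one_smul, smul_sub]
    have h4 := Fintype.linearIndependent_iff.1 (ff_li hs) _ h3 x
    refine (mul_eq_zero.1 h4).resolve_right ?_
    rw [sub_eq_zero]
    apply psi_ne_one hs.prim
    exact mul_ne_zero hs.lam0 (mul_ne_zero hx hx)
  let c : (Fin 2 → ZMod 5) → 𝕜 := fun x => if h : x ∈ X12 then B.repr u ⟨x, h⟩ else 0
  have hc : u = ∑ x ∈ X12, c x • ff ρ ψ lam v x := by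
    rw [← Finset.sum_coe_sort]
    conv_lhs => rw [h1]
    refine Finset.sum_congr rfl fun x _ => ?_
    simp [c]
  have hc2 : u = ∑ x ∈ X12.filter (fun x => x a = 0), c x • ff ρ ψ lam v x := by
    rw [Finset.sum_filter]
    conv_lhs => rw [hc]
    refine Finset.sum_congr rfl fun x hx => ?_
    split_ifs with h
    · rfl
    · have : c x = 0 := by
        simp only [c, dif_pos hx]
        exact h2 ⟨x, hx⟩ h
      rw [this, zero_smul]
  rw [X12_axis hab, Finset.sum_pair (single_ne12 b)] at hc2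
  exact ⟨_, _, hc2⟩

theorem ax (b : Fin 2) (c s : ZMod 5) : ρ (uu (sD b s)) (ff ρ ψ lam v (Pi.single b c)) =
    ψ (lam * (c * (s * c))) • ff ρ ψ lam v (Pi.single b c) := by
  rw [ff_uu hs]
  congr 3
  simp only [sD]
  rw [sgl_mulVec, dotProduct_single, Pi.single_eq_same]

theorem ax0 {a b : Fin 2} (hab : a ≠ b) (c s : ZMod 5) : ρ (uu (sD a s)) (ff ρ ψ lam v (Pi.single b c)) =
    ff ρ ψ lam v (Pi.single b c) := by
  rw [ff_uu hs]
  simp only [sD]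
  rw [sgl_mulVec, dotProduct_single, Pi.single_eq_of_ne hab, zero_mul, mul_zero, AddChar.map_zero_eq_one, one_smul]

theorem ah (b : Fin 2) (t : (ZMod 5)ˣ) (c : ZMod 5) : ρ (mm (ht b t)) (ff ρ ψ lam v (Pi.single b c)) =
    chi ψ lam t • ff ρ ψ lam v (Pi.single b (c * ((t⁻¹ : (ZMod 5)ˣ) : ZMod 5))) := by
  have hdet : GeneralLinearGroup.det (ht b t) = t := by
    apply Units.ext
    rw [GeneralLinearGroup.val_det_apply, ht, dg_coe, det_diagonal,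
      Finset.prod_eq_single b]
    · simp
    · intro l _ hl; simp [hl]
    · simp
  rw [ff_r2 hs, hdet, ht_inv, ht_coe, vecMul_add, vecMul_one, vecMul_sgl, Pi.single_eq_same, ← Pi.single_add]
  congr 3
  ring

theorem wmat [FiniteDimensional 𝕜 V] (hd : finrank 𝕜 V = 12) {a b : Fin 2} (hab : a ≠ b) {ε : 𝕜}
    (hε : ∀ x, ff ρ ψ lam v (-x) = ε • ff ρ ψ lam v x) :
    ∃ α β γ δ : 𝕜,
      ρ (ww b) (ff ρ ψ lam v (Pi.single b 1)) =
        α • ff ρ ψ lam v (Pi.single b 1) + β • ff ρ ψ lam v (Pi.single b 2) ∧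
      ρ (ww b) (ff ρ ψ lam v (Pi.single b 2)) =
        γ • ff ρ ψ lam v (Pi.single b 1) + δ • ff ρ ψ lam v (Pi.single b 2) ∧
      α * α + β * γ = ε ∧ β * (α + δ) = 0 ∧ β * (α * ψ lam ^ 4 + δ * ψ lam - 1) = 0 ∧
      β * (α * ψ lam ^ 2 + δ * ψ lam ^ 3) = - (ε * α) ∧ γ * (α * ψ lam ^ 2 + δ * ψ lam ^ 3) = - δ := by
  have hfix : ∀ c : ZMod 5, ρ (uu (sD a 1)) (ρ (ww b) (ff ρ ψ lam v (Pi.single b c))) =
      ρ (ww b) (ff ρ ψ lam v (Pi.single b c)) := by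
    intro c
    rw [← rho_mul, ← ww_comm_sD a b hab, rho_mul, ax0 hs hab]
  obtain ⟨α, β, h1⟩ := fix_span hs hd hab (hfix 1)
  obtain ⟨γ, δ, h2⟩ := fix_span hs hd hab (hfix 2)
  refine ⟨α, β, γ, δ, h1, h2, ?_⟩
  set f1 := ff ρ ψ lam v (Pi.single b 1) with hf1
  set f2 := ff ρ ψ lam v (Pi.single b 2) with hf2
  set μ := ψ lam with hμ
  have hμ5 : μ ^ 5 = 1 := psi_pow_five lam
  have e3 : ff ρ ψ lam v (Pi.single b 3) = ε • f2 := by
    rw [hf2, ← hε, ← Pi.single_neg]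
    congr 2
  have e4 : ff ρ ψ lam v (Pi.single b 4) = ε • f1 := by
    rw [hf1, ← hε, ← Pi.single_neg]
    congr 2
  -- values of the character
  have pv : ∀ (z : ZMod 5) (m : ℕ), z = (m : ZMod 5) * lam → ψ z = μ ^ m := by
    rintro z m rfl
    exact psi_nat lam m
  have x1 : ∀ (s : ZMod 5) (m : ℕ), s = (m : ZMod 5) → ρ (uu (sD b s)) f1 = μ ^ m • f1 := by
    rintro s m rfl
    rw [hf1, ax hs, pv _ m (by ring)]
  have x2 : ∀ (s : ZMod 5) (m : ℕ), s = (m : ZMod 5) → ρ (uu (sD b s)) f2 = μ ^ (4 * m) • f2 := by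
    rintro s m rfl
    rw [hf2, ax hs, pv _ (4 * m) (by push_cast; ring)]
  have hm1 : ρ (mm (ht b (-1))) f1 = ε • f1 := by
    rw [hf1, ah hs, chi_neg_one lam (gs_ne0 hs), one_smul, ← hf1, ← e4]
    congr 2
  have h21 : ρ (mm (ht b u2)) f1 = - (ε • f2) := by
    rw [hf1, ah hs, chi_two hs.prim hs.lam0 (gs_ne0 hs), neg_one_smul, ← e3]
    congr 3
  have h22 : ρ (mm (ht b u2)) f2 = - f1 := by
    rw [hf2, ah hs, chi_two hs.prim hs.lam0 (gs_ne0 hs), neg_one_smul, hf1]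
    congr 3
  have hww : ∀ (c d : 𝕜), ρ (ww b) (c • f1 + d • f2) = (c * α + d * γ) • f1 + (c * β + d * δ) • f2 := by
    intro c d
    rw [map_add, map_smul, map_smul, h1, h2]
    module
  -- the square
  have r1 : ρ (ww b) (ρ (ww b) f1) = ε • f1 := by
    rw [← rho_mul, ww_sq, hm1]
  rw [h1, hww] at r1
  -- `t = 1`
  have r2 : ∀ u : V, ρ (ww b) (ρ (uu (sD b 4)) (ρ (ww b) u)) =
      ρ (uu (sD b 1)) (ρ (ww b) (ρ (uu (sD b 1)) u)) := by
    intro u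
    have h := congrArg (fun g => ρ g u) (ww_uu_ww b (1 : (ZMod 5)ˣ))
    simp only [rho_mul] at h
    have h3 : ht b (1 : (ZMod 5)ˣ) = 1 := by
      apply Units.ext
      rw [ht_coe]; simp
    rw [h3, map_one, map_one, Module.End.one_apply] at h
    exact h
  have r3 : ∀ u : V, ρ (ww b) (ρ (uu (sD b 2)) (ρ (ww b) u)) =
      ρ (uu (sD b 2)) (ρ (mm (ht b u2)) (ρ (ww b) (ρ (uu (sD b 2)) u))) := by
    intro u
    have h := congrArg (fun g => ρ g u) (ww_uu_ww b u2)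
    simp only [rho_mul] at h
    exact h
  have hx : ∀ (s : ZMod 5) (m : ℕ), s = (m : ZMod 5) → ∀ (c d : 𝕜),
      ρ (uu (sD b s)) (c • f1 + d • f2) = (c * μ ^ m) • f1 + (d * μ ^ (4 * m)) • f2 := by
    intro s m hsm c d
    rw [map_add, map_smul, map_smul, x1 s m hsm, x2 s m hsm, smul_smul, smul_smul]
  have hh : ∀ (c d : 𝕜), ρ (mm (ht b u2)) (c • f1 + d • f2) = (-d) • f1 + (-(c * ε)) • f2 := by
    intro c d
    rw [map_add, map_smul, map_smul, h21, h22]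
    module
  have r21 := r2 f1
  rw [h1, hx 4 4 (by rfl), hww, x1 1 1 (by rfl), map_smul, h1, smul_add, smul_smul, smul_smul, hx 1 1 (by rfl)] at r21
  have r31 := r3 f1
  rw [h1, hx 2 2 (by rfl), hww, x1 2 2 (by rfl), map_smul, h1, smul_add, smul_smul, smul_smul, hh,
    hx 2 2 (by rfl)] at r31
  have r32 := r3 f2
  rw [h2, hx 2 2 (by rfl), hww, x2 2 2 (by rfl), map_smul, h2, smul_add, smul_smul, smul_smul, hh,
    hx 2 2 (by rfl)] at r32
  have k1 := li2 hs b (c := α * α + β * γ - ε) (d := α * β + β * δ) (by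
    rw [← hf1, ← hf2]
    refine Eq.trans ?_ (sub_eq_zero.2 r1)
    module)
  have k2 := li2 hs b (c := α * μ ^ 4 * α + β * μ ^ (4 * 4) * γ - μ ^ 1 * α * μ ^ 1)
    (d := α * μ ^ 4 * β + β * μ ^ (4 * 4) * δ - μ ^ 1 * β * μ ^ (4 * 1)) (by
    rw [← hf1, ← hf2]
    refine Eq.trans ?_ (sub_eq_zero.2 r21)
    module)
  have k3 := li2 hs b (c := α * μ ^ 2 * α + β * μ ^ (4 * 2) * γ - -(μ ^ 2 * β) * μ ^ 2)
    (d := α * μ ^ 2 * β + β * μ ^ (4 * 2) * δ - -(μ ^ 2 * α * ε) * μ ^ (4 * 2)) (by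
    rw [← hf1, ← hf2]
    refine Eq.trans ?_ (sub_eq_zero.2 r31)
    module)
  have k4 := li2 hs b (c := γ * μ ^ 2 * α + δ * μ ^ (4 * 2) * γ - -(μ ^ (4 * 2) * δ) * μ ^ 2)
    (d := γ * μ ^ 2 * β + δ * μ ^ (4 * 2) * δ - -(μ ^ (4 * 2) * γ * ε) * μ ^ (4 * 2)) (by
    rw [← hf1, ← hf2]
    refine Eq.trans ?_ (sub_eq_zero.2 r32)
    module)
  refine ⟨?_, ?_, ?_, ?_, ?_⟩
  · linear_combination k1.1
  · linear_combination k1.2
  · linear_combination k2.2 + (-β * δ * μ * (μ ^ 10 + μ ^ 5 + 1) + β) * hμ5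
  · linear_combination k3.2 + (-β * δ * μ ^ 3 - α * ε * (μ ^ 5 + 1)) * hμ5
  · linear_combination k4.1 + (-γ * δ * μ ^ 3 - δ * (μ ^ 5 + 1)) * hμ5

end rep

theorem alg12 {𝕜 : Type*} [Field 𝕜] (h5 : (5 : 𝕜) ≠ 0) {μ ε α β γ δ : 𝕜} (hμ : 1 + μ + μ ^ 2 + μ ^ 3 + μ ^ 4 = 0)
    (hε : ε * ε = 1) (r1 : α * α + β * γ = ε) (r2 : β * (α + δ) = 0) (r3 : β * (α * μ ^ 4 + δ * μ - 1) = 0)
    (r4 : β * (α * μ ^ 2 + δ * μ ^ 3) = - (ε * α)) (r5 : γ * (α * μ ^ 2 + δ * μ ^ 3) = - δ) :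
    α * (μ ^ 4 - μ) = 1 ∧ β * (μ ^ 2 - μ ^ 3) = - ε ∧ γ * (μ ^ 2 - μ ^ 3) = 1 ∧ δ = - α ∧ ε = -1 := by
  have hε0 : ε ≠ 0 := by
    rintro rfl
    rw [zero_mul] at hε
    exact zero_ne_one hε
  have hβ : β ≠ 0 := by
    rintro rfl
    have hα : α = 0 := by
      have : ε * α = 0 := by linear_combination r4
      exact (mul_eq_zero.1 this).resolve_left hε0
    subst hα
    apply hε0
    linear_combination -r1
  have hδ : δ = - α := by
    have := (mul_eq_zero.1 r2).resolve_left hβ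
    linear_combination this
  subst hδ
  have h1 : α * (μ ^ 4 - μ) = 1 := by
    have := (mul_eq_zero.1 r3).resolve_left hβ
    linear_combination this
  have hα : α ≠ 0 := by
    rintro rfl
    rw [zero_mul] at h1
    exact zero_ne_one h1
  have h2 : β * (μ ^ 2 - μ ^ 3) = - ε := by
    apply mul_left_cancel₀ hα
    linear_combination r4
  have h3 : γ * (μ ^ 2 - μ ^ 3) = 1 := by
    apply mul_left_cancel₀ hα
    linear_combination r5
  refine ⟨h1, h2, h3, rfl, ?_⟩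
  have h4 : (ε - 1) * (ε + 1) = 0 := by linear_combination hε
  rcases mul_eq_zero.1 h4 with h | h
  · have hε1 : ε = 1 := by linear_combination h
    subst hε1
    -- `B - A = A B`
    have h6 : (μ ^ 2 - μ ^ 3) ^ 2 - (μ ^ 4 - μ) ^ 2 = (μ ^ 4 - μ) ^ 2 * (μ ^ 2 - μ ^ 3) ^ 2 := by
      linear_combination ((μ ^ 4 - μ) ^ 2 * (μ ^ 2 - μ ^ 3) ^ 2) * r1 -
        ((μ ^ 2 - μ ^ 3) ^ 2 * (α * (μ ^ 4 - μ) + 1)) * h1 - ((μ ^ 4 - μ) ^ 2 * (γ * (μ ^ 2 - μ ^ 3))) * h2 +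
        (μ ^ 4 - μ) ^ 2 * h3
    have h7 : (μ ^ 4 - μ) ^ 2 * (μ ^ 2 - μ ^ 3) ^ 2 = 5 := by
      linear_combination (-5 + 5 * μ - 5 * μ ^ 5 + 6 * μ ^ 6 - 3 * μ ^ 7 + 3 * μ ^ 8 - 3 * μ ^ 9 + μ ^ 10) * hμ
    have h8 : ((μ ^ 2 - μ ^ 3) ^ 2 - (μ ^ 4 - μ) ^ 2) ^ 2 = 5 := by
      linear_combination (-5 + 5 * μ + μ ^ 4 - 6 * μ ^ 5 + 3 * μ ^ 6 + 2 * μ ^ 7 - μ ^ 8 + 2 * μ ^ 9 - 2 * μ ^ 10 -
        μ ^ 11 + μ ^ 12) * hμ
    rw [h6, h7] at h8
    have h9 : (5 : 𝕜) * (2 * 2) = 0 := by linear_combination h8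
    have h10 : (2 : 𝕜) = 0 := by
      have := (mul_eq_zero.1 h9).resolve_left h5
      rcases mul_eq_zero.1 this with h | h <;> exact h
    linear_combination h10
  · linear_combination h

theorem mm_neg_comm {n : ℕ} {F : Type*} [Field F] (g : Sp n F) :
    mm (-1 : GL (Fin n) F) * g = g * mm (-1 : GL (Fin n) F) := by
  have h : ((mm (-1 : GL (Fin n) F) : Sp n F) : Matrix (Fin n ⊕ Fin n) (Fin n ⊕ Fin n) F) = -1 := by
    rw [mm_coe]
    have h1 : ((-1 : GL (Fin n) F)⁻¹ : GL (Fin n) F) = -1 := by simp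
    rw [h1, Units.val_neg, Units.val_one, Matrix.transpose_neg, Matrix.transpose_one]
    rw [← Matrix.fromBlocks_one, Matrix.fromBlocks_neg, neg_zero]
  apply Subtype.ext
  rw [Submonoid.coe_mul, Submonoid.coe_mul, h, neg_one_mul, mul_neg_one]

theorem mm_neg_sq {n : ℕ} {F : Type*} [Field F] : mm (-1 : GL (Fin n) F) * mm (-1 : GL (Fin n) F) = 1 := by
  rw [← map_mul, neg_mul_neg, mul_one, map_one]

/-- the parity -/
theorem exists_parity {n : ℕ} {F : Type*} [Field F] {𝕜 : Type*} [Field 𝕜] {V : Type*} [AddCommGroup V] [Module 𝕜 V]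
    {ρ : Representation 𝕜 (Sp n F) V} [Fintype F] [hq : Fact ((Fintype.card F : 𝕜) ≠ 0)] (hρ : ρ.IsIrreducible) :
    ∃ ε : 𝕜, ε * ε = 1 ∧ ∀ u, ρ (mm (-1)) u = ε • u := by
  have hc : ∀ (g : Sp n F) (u : V), ρ (mm (-1)) (ρ g u) = ρ g (ρ (mm (-1)) u) := by
    intro g u
    rw [← rho_mul, ← rho_mul, mm_neg_comm]
  have hsq : ∀ u : V, ρ (mm (-1)) (ρ (mm (-1)) u) = u := by
    intro u
    rw [← rho_mul, mm_neg_sq, map_one, Module.End.one_apply]
  let W : Submodule 𝕜 V := LinearMap.ker (ρ (mm (-1)) - 1)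
  have hW : ∀ u, u ∈ W ↔ ρ (mm (-1)) u = u := by
    intro u
    rw [LinearMap.mem_ker, LinearMap.sub_apply, Module.End.one_apply, sub_eq_zero]
  by_cases h : ∃ u ∈ W, u ≠ 0
  · obtain ⟨u, hu, hne⟩ := h
    have h1 := eq_top_of_irr hρ W (fun g u hu => by
      rw [hW] at hu ⊢
      rw [hc, hu]) hu hne
    refine ⟨1, mul_one 1, fun u => ?_⟩
    rw [one_smul, ← hW, h1]
    trivial
  · push Not at h
    refine ⟨-1, by ring, fun u => ?_⟩
    have h1 := h (ρ (mm (-1)) u + u) (by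
      rw [hW, map_add, hsq, add_comm])
    rw [neg_one_smul]
    exact eq_neg_of_add_eq_zero_left h1

section fam

variable {𝕜 : Type*} [Field 𝕜] [hq : Fact ((Fintype.card (ZMod 5) : 𝕜) ≠ 0)] {V : Type*} [AddCommGroup V]
  [Module 𝕜 V] [FiniteDimensional 𝕜 V] {ρ : Representation 𝕜 (Sp 2 (ZMod 5)) V} {ψ : AddChar (ZMod 5) 𝕜}
  {lam : ZMod 5} {v : V}

/-- the matrix of `ww b` -/
theorem wmat' (hs : Seed ρ ψ lam 0 v) (hρ : ρ.IsIrreducible) (hd : finrank 𝕜 V = 12) {a b : Fin 2} (hab : a ≠ b) :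
    (∀ x, ff ρ ψ lam v (-x) = - ff ρ ψ lam v x) ∧
    ∃ α β : 𝕜, α * (ψ lam ^ 4 - ψ lam) = 1 ∧ β * (ψ lam ^ 2 - ψ lam ^ 3) = 1 ∧
      ρ (ww b) (ff ρ ψ lam v (Pi.single b 1)) =
        α • ff ρ ψ lam v (Pi.single b 1) + β • ff ρ ψ lam v (Pi.single b 2) ∧
      ρ (ww b) (ff ρ ψ lam v (Pi.single b 2)) =
        β • ff ρ ψ lam v (Pi.single b 1) + (-α) • ff ρ ψ lam v (Pi.single b 2) := by
  obtain ⟨ε, hε, h⟩ := exists_parity hρ
  have hneg : ∀ x, ff ρ ψ lam v (-x) = ε • ff ρ ψ lam v x := fun x => by rw [ff_neg hs, h]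
  obtain ⟨α, β, γ, δ, h1, h2, r1, r2, r3, r4, r5⟩ := wmat hs hd hab hneg
  obtain ⟨s1, s2, s3, s4, s5⟩ := alg12 five_ne (psi_sum hs.prim hs.lam0) hε r1 r2 r3 r4 r5
  subst s4
  subst s5
  have hβγ : β = γ := by
    have hne : ψ lam ^ 2 - ψ lam ^ 3 ≠ 0 := by
      intro h0
      rw [h0, mul_zero] at s3
      exact zero_ne_one s3
    apply mul_right_cancel₀ hne
    rw [s2, s3, neg_neg]
  subst hβγ
  refine ⟨fun x => by rw [hneg, neg_one_smul], α, β, s1, s3, h1, h2⟩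

theorem axis (hs : Seed ρ ψ lam 0 v) (hρ : ρ.IsIrreducible) (hd : finrank 𝕜 V = 12) (b : Fin 2) (c : ZMod 5) :
    gs ψ (-lam) • ρ (ww b) (ff ρ ψ lam v (Pi.single b c)) =
      ∑ z : ZMod 5, ψ (2 * lam * (Pi.single b c : Fin 2 → ZMod 5) b * z) •
        ff ρ ψ lam v (Function.update (Pi.single b c) b z) := by
  obtain ⟨a, hab⟩ : ∃ a : Fin 2, a ≠ b := by
    revert b
    decide
  obtain ⟨hneg, α, β, s1, s2, h1, h2⟩ := wmat' hs hρ hd hab
  set f1 := ff ρ ψ lam v (Pi.single b 1) with hf1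
  set f2 := ff ρ ψ lam v (Pi.single b 2) with hf2
  set μ := ψ lam with hμ
  have hμ5 : μ ^ 5 = 1 := psi_pow_five lam
  have hsum : 1 + μ + μ ^ 2 + μ ^ 3 + μ ^ 4 = 0 := psi_sum hs.prim hs.lam0
  have e0 : ff ρ ψ lam v (Pi.single b 0) = 0 := by rw [Pi.single_zero, ff_zero]
  have e3 : ff ρ ψ lam v (Pi.single b 3) = - f2 := by
    rw [hf2, ← hneg, ← Pi.single_neg]
    congr 2
  have e4 : ff ρ ψ lam v (Pi.single b 4) = - f1 := by
    rw [hf1, ← hneg, ← Pi.single_neg]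
    congr 2
  have pv : ∀ (z : ZMod 5) (m : ℕ), z = (m : ZMod 5) * lam → ψ z = μ ^ m := by
    rintro z m rfl
    exact psi_nat lam m
  have hg : gs ψ (-lam) = (μ ^ 2 - μ ^ 3) * (μ ^ 4 - μ) := by
    rw [gs_neg]
    linear_combination (1 + μ - 2 * μ ^ 2 + μ ^ 3) * hsum
  have hgα : gs ψ (-lam) * α = μ ^ 2 - μ ^ 3 := by
    rw [hg]
    linear_combination (μ ^ 2 - μ ^ 3) * s1
  have hgβ : gs ψ (-lam) * β = μ ^ 4 - μ := by
    rw [hg]
    linear_combination (μ ^ 4 - μ) * s2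
  have hup : ∀ z : ZMod 5, Function.update (Pi.single b c : Fin 2 → ZMod 5) b z = Pi.single b z := by
    intro z
    ext k
    by_cases hk : k = b
    · subst hk; simp
    · simp [hk]
  rw [sum5]
  simp only [hup, Pi.single_eq_same]
  rw [e0, e3, e4, ← hf1, ← hf2, smul_zero, zero_add]
  have w1 : gs ψ (-lam) • ρ (ww b) f1 = (μ ^ 2 - μ ^ 3) • f1 + (μ ^ 4 - μ) • f2 := by
    rw [h1, smul_add, smul_smul, smul_smul, hgα, hgβ]
  have w2 : gs ψ (-lam) • ρ (ww b) f2 = (μ ^ 4 - μ) • f1 + (-(μ ^ 2 - μ ^ 3)) • f2 := by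
    rw [h2, smul_add, smul_smul, smul_smul, mul_neg, hgα, hgβ]
  rcases zmod_cases c with rfl | rfl | rfl | rfl | rfl
  · rw [e0, map_zero, smul_zero, mul_zero, zero_mul, zero_mul, zero_mul, zero_mul, AddChar.map_zero_eq_one]
    module
  · rw [← hf1, w1, pv (2 * lam * 1 * 1) 2 (by push_cast; ring), pv (2 * lam * 1 * 2) 4 (by push_cast; ring),
      pv (2 * lam * 1 * 3) 6 (by push_cast; ring), pv (2 * lam * 1 * 4) 8 (by push_cast; ring)]
    have q1 : μ ^ 6 = μ := by linear_combination μ * hμ5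
    have q2 : μ ^ 8 = μ ^ 3 := by linear_combination μ ^ 3 * hμ5
    rw [q1, q2]
    module
  · rw [← hf2, w2, pv (2 * lam * 2 * 1) 4 (by push_cast; ring), pv (2 * lam * 2 * 2) 8 (by push_cast; ring),
      pv (2 * lam * 2 * 3) 12 (by push_cast; ring), pv (2 * lam * 2 * 4) 16 (by push_cast; ring)]
    have q1 : μ ^ 8 = μ ^ 3 := by linear_combination μ ^ 3 * hμ5
    have q2 : μ ^ 12 = μ ^ 2 := by linear_combination (μ ^ 7 + μ ^ 2) * hμ5
    have q3 : μ ^ 16 = μ := by linear_combination (μ ^ 11 + μ ^ 6 + μ) * hμ5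
    rw [q1, q2, q3]
    module
  · rw [e3, map_neg, smul_neg, w2, pv (2 * lam * 3 * 1) 6 (by push_cast; ring), pv (2 * lam * 3 * 2) 12 (by push_cast; ring),
      pv (2 * lam * 3 * 3) 18 (by push_cast; ring), pv (2 * lam * 3 * 4) 24 (by push_cast; ring)]
    have q1 : μ ^ 6 = μ := by linear_combination μ * hμ5
    have q2 : μ ^ 12 = μ ^ 2 := by linear_combination (μ ^ 7 + μ ^ 2) * hμ5
    have q3 : μ ^ 18 = μ ^ 3 := by linear_combination (μ ^ 13 + μ ^ 8 + μ ^ 3) * hμ5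
    have q4 : μ ^ 24 = μ ^ 4 := by linear_combination (μ ^ 19 + μ ^ 14 + μ ^ 9 + μ ^ 4) * hμ5
    rw [q1, q2, q3, q4]
    module
  · rw [e4, map_neg, smul_neg, w1, pv (2 * lam * 4 * 1) 8 (by push_cast; ring), pv (2 * lam * 4 * 2) 16 (by push_cast; ring),
      pv (2 * lam * 4 * 3) 24 (by push_cast; ring), pv (2 * lam * 4 * 4) 32 (by push_cast; ring)]
    have q1 : μ ^ 8 = μ ^ 3 := by linear_combination μ ^ 3 * hμ5
    have q2 : μ ^ 16 = μ := by linear_combination (μ ^ 11 + μ ^ 6 + μ) * hμ5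
    have q3 : μ ^ 24 = μ ^ 4 := by linear_combination (μ ^ 19 + μ ^ 14 + μ ^ 9 + μ ^ 4) * hμ5
    have q4 : μ ^ 32 = μ ^ 2 := by
      linear_combination (μ ^ 27 + μ ^ 22 + μ ^ 17 + μ ^ 12 + μ ^ 7 + μ ^ 2) * hμ5
    rw [q1, q2, q3, q4]
    module

/-- **The family.** -/
theorem fam12 (hs : Seed ρ ψ lam 0 v) (hρ : ρ.IsIrreducible) (hd : finrank 𝕜 V = 12) :
    Fam ρ ψ lam (ff ρ ψ lam v) := by
  refine ⟨ff_mem hs, ff_r2 hs, ?_⟩
  intro b x
  by_cases hx : ∃ a, a ≠ b ∧ x a ≠ 0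
  · obtain ⟨a, hab, hxa⟩ := hx
    exact hs.fam_r3 ij2 0 hab hxa
  · push Not at hx
    have h1 : x = Pi.single b (x b) := by
      ext k
      by_cases hk : k = b
      · subst hk; simp
      · rw [Pi.single_eq_of_ne hk, hx k hk]
    have h2 := axis hs hρ hd b (x b)
    rw [← h1] at h2
    exact h2

/-- **Two irreducible representations of degree 12 with the same parameter have the same character.** -/
theorem char_eq12 {V' : Type*} [AddCommGroup V'] [Module 𝕜 V'] [FiniteDimensional 𝕜 V']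
    {σ : Representation 𝕜 (Sp 2 (ZMod 5)) V'} {v' : V'} (hs : Seed ρ ψ lam 0 v) (hs' : Seed σ ψ lam 0 v')
    (hρ : ρ.IsIrreducible) (hσ : σ.IsIrreducible) (hd : finrank 𝕜 V = 12) (hd' : finrank 𝕜 V' = 12) :
    ρ.character = σ.character := by
  refine char_eq_of_fam hs.prim hs.two hs.lam0 0 (fam12 hs hρ hd) (fam12 hs' hσ hd') hρ hσ
    (ff_ne hs (X12_ne (single_mem1 0))) (ff_ne hs' (X12_ne (single_mem1 0))) (-1) (fun x => ?_) (fun x => ?_)
  · rw [(wmat' hs hρ hd ij2).1, neg_one_smul]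
  · rw [(wmat' hs' hσ hd' ij2).1, neg_one_smul]

end fam

end Cfsg.Agent.H434.WK
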