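import Cfsg.Agent.H434.LD.WFam

/-!
# Uniqueness of irreducible representations of rank one (helper162; port to any coefficient field, helper434)
-/

set_option autoImplicit false
set_option linter.unusedSectionVars false
set_option linter.unusedSimpArgs false
open Matrix Representation Cfsg.Agent.H162.Weil

namespace Cfsg.Agent.H434.WK

variable {F : Type*} [Field F] {n : ℕ} [Fintype F] {𝕜 : Type*} [Field 𝕜] [hq : Fact ((Fintype.card F : 𝕜) ≠ 0)]

instance instFiniteSp : Finite (Sp n F) := Subtype.finite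

theorem gen_induct (j : Fin n) (P : Sp n F → Prop) (h1 : P 1)
    (hmul : ∀ g h, P g → P h → P (g * h)) (hu : ∀ S : Sym n F, P (uu S))
    (hm : ∀ h : GL (Fin n) F, P (mm h)) (hw : P (ww j)) (g : Sp n F) : P g := by
  let K : Subgroup (Sp n F) :=
    { carrier := {g | P g}
      one_mem' := h1
      mul_mem' := fun {a b} ha hb => hmul a b ha hb
      inv_mem' := by
        intro a ha
        have hpow : ∀ k : ℕ, P (a ^ k) := by
          intro k
          induction k with
          | zero => simpa using h1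
          | succ k ih => rw [pow_succ]; exact hmul _ _ ih ha
        have : a⁻¹ = a ^ (Nat.card (Sp n F) - 1) := by
          rw [inv_eq_iff_mul_eq_one, ← pow_succ', Nat.sub_add_cancel Nat.card_pos, pow_card_eq_one']
        show P a⁻¹
        rw [this]
        exact hpow _ }
  have hK : K = ⊤ := gen_top j K hu hm hw
  have : g ∈ K := by rw [hK]; exact Subgroup.mem_top g
  exact this

variable {V : Type*} [AddCommGroup V] [Module 𝕜 V] {V' : Type*} [AddCommGroup V'] [Module 𝕜 V']
  {ρ : Representation 𝕜 (Sp n F) V} {σ : Representation 𝕜 (Sp n F) V'} {ψ : AddChar F 𝕜}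

/-- Irreducibility: an invariant submodule with a nonzero vector is everything. -/
theorem eq_top_of_irr {G : Type*} [Group G] {V : Type*} [AddCommGroup V] [Module 𝕜 V]
    {ρ : Representation 𝕜 G V} (h : ρ.IsIrreducible) (U : Submodule 𝕜 V)
    (hU : ∀ g, ∀ u ∈ U, ρ g u ∈ U) {v : V} (hv : v ∈ U) (hne : v ≠ 0) : U = ⊤ := by
  let W : Subrepresentation ρ := ⟨U, fun g u hu => hU g u hu⟩
  rcases h.eq_bot_or_eq_top W with h1 | h1
  · exfalso
    apply hne
    have : U = ⊥ := congrArg Subrepresentation.toSubmodule h1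
    rw [this] at hv
    exact (Submodule.mem_bot 𝕜).mp hv
  · exact congrArg Subrepresentation.toSubmodule h1

theorem fam_inv_gen {f : (Fin n → F) → V} {f' : (Fin n → F) → V'} (g : Sp n F)
    (hg : ∀ x, (ρ g (f x), σ g (f' x)) ∈ Submodule.span 𝕜 (Set.range fun x => (f x, f' x)))
    (u : V × V') (hu : u ∈ Submodule.span 𝕜 (Set.range fun x => (f x, f' x))) :
    (ρ g u.1, σ g u.2) ∈ Submodule.span 𝕜 (Set.range fun x => (f x, f' x)) := by
  have h : Submodule.span 𝕜 (Set.range fun x => (f x, f' x)) ≤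
      (Submodule.span 𝕜 (Set.range fun x => (f x, f' x))).comap
        (LinearMap.prodMap (ρ g) (σ g)) := by
    rw [Submodule.span_le]
    rintro _ ⟨x, rfl⟩
    exact hg x
  exact h hu

theorem fam_inv {lam : F} {f : (Fin n → F) → V} {f' : (Fin n → F) → V'}
    (hψ : ψ.IsPrimitive) (h2 : (2 : F) ≠ 0) (hlam : lam ≠ 0) (j : Fin n)
    (hf : Fam ρ ψ lam f) (hf' : Fam σ ψ lam f') (g : Sp n F) (u : V × V')
    (hu : u ∈ Submodule.span 𝕜 (Set.range fun x => (f x, f' x))) :
    (ρ g u.1, σ g u.2) ∈ Submodule.span 𝕜 (Set.range fun x => (f x, f' x)) := by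
  revert u
  refine gen_induct j (P := fun g => ∀ u ∈ Submodule.span 𝕜 (Set.range fun x => (f x, f' x)),
    (ρ g u.1, σ g u.2) ∈ Submodule.span 𝕜 (Set.range fun x => (f x, f' x))) ?_ ?_ ?_ ?_ ?_ g
  · intro u hu; simpa using hu
  · intro g h hg hh u hu
    have := hg _ (hh u hu)
    simpa [rho_mul] using this
  · intro S
    refine fam_inv_gen _ fun x => ?_
    rw [hf.r1 x S, hf'.r1 x S, ← Prod.smul_mk]
    exact Submodule.smul_mem _ _ (Submodule.subset_span (Set.mem_range_self x))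
  · intro S
    refine fam_inv_gen _ fun x => ?_
    rw [hf.r2 S x, hf'.r2 S x, ← Prod.smul_mk]
    exact Submodule.smul_mem _ _ (Submodule.subset_span (Set.mem_range_self _))
  · refine fam_inv_gen _ fun x => ?_
    have hg := gs_ne_zero hψ h2 (neg_ne_zero.mpr hlam)
    have h3 := hf.r3 j x
    have h3' := hf'.r3 j x
    rw [← eq_inv_smul_iff₀ hg] at h3 h3'
    rw [h3, h3']
    have : ((gs ψ (-lam))⁻¹ • ∑ z : F, ψ (2 * lam * x j * z) • f (Function.update x j z),
      (gs ψ (-lam))⁻¹ • ∑ z : F, ψ (2 * lam * x j * z) • f' (Function.update x j z)) =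
      (gs ψ (-lam))⁻¹ • ∑ z : F, ψ (2 * lam * x j * z) •
        (f (Function.update x j z), f' (Function.update x j z)) := by
      apply Prod.ext
      · simp [Prod.fst_sum]
      · simp [Prod.snd_sum]
    rw [this]
    exact Submodule.smul_mem _ _ (Submodule.sum_mem _ fun z _ =>
      Submodule.smul_mem _ _ (Submodule.subset_span ⟨_, rfl⟩))

theorem TT_single_eq {lam : F} (hlam : lam ≠ 0) {i : Fin n} {x : Fin n → F}
    (h : TT lam x = TT lam (Pi.single i 1)) : x = Pi.single i 1 ∨ x = - Pi.single i 1 := by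
  have h1 : ∀ k l, x k * x l = (Pi.single i 1 : Fin n → F) k * (Pi.single i 1 : Fin n → F) l := by
    intro k l
    have := congrFun (congrFun h k) l
    rw [TT_apply, TT_apply] at this
    exact mul_left_cancel₀ hlam this
  have h3 : ∀ k, k ≠ i → x k = 0 := by
    intro k hk
    have := h1 k k
    rw [Pi.single_eq_of_ne hk, mul_zero] at this
    exact mul_self_eq_zero.mp this
  have h4 : x i * x i = 1 := by
    have := h1 i i
    simpa using this
  rcases mul_self_eq_one_iff.mp h4 with h5 | h5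
  · left
    ext k
    by_cases hk : k = i
    · subst hk; simpa using h5
    · rw [h3 k hk]; simp [hk]
  · right
    ext k
    by_cases hk : k = i
    · subst hk; simpa using h5
    · rw [h3 k hk]; simp [hk]

theorem uniq_aux {lam : F} {f : (Fin n → F) → V} {f' : (Fin n → F) → V'}
    (hψ : ψ.IsPrimitive) (h2 : (2 : F) ≠ 0) (hlam : lam ≠ 0) (i : Fin n)
    (hf : Fam ρ ψ lam f) (hf' : Fam σ ψ lam f') (hσ : σ.IsIrreducible)
    (h0 : f (Pi.single i 1) ≠ 0) (h0' : f' (Pi.single i 1) ≠ 0) (ε : 𝕜)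
    (he : ∀ x, f (-x) = ε • f x) (he' : ∀ x, f' (-x) = ε • f' x) (w : V')
    (hw : ((0 : V), w) ∈ Submodule.span 𝕜 (Set.range fun x => (f x, f' x))) : w = 0 := by
  by_contra hne
  set U := Submodule.span 𝕜 (Set.range fun x => (f x, f' x)) with hU
  let K : Submodule 𝕜 V' := U.comap (LinearMap.inr 𝕜 V V')
  have hK : K = ⊤ := by
    apply eq_top_of_irr hσ K (v := w) _ _ hne
    · intro g u hu
      have h3 := fam_inv hψ h2 hlam i hf hf' g (0, u) hu
      rw [map_zero] at h3
      exact h3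
    · exact hw
  have h3 : f' (Pi.single i 1) ∈ K := by rw [hK]; trivial
  have h4 : ((0 : V), f' (Pi.single i 1)) ∈ U := h3
  have h5 : ∀ u ∈ U, ∃ c : 𝕜, Pj ρ ψ (TT lam (Pi.single i 1)) u.1 = c • f (Pi.single i 1) ∧
      Pj σ ψ (TT lam (Pi.single i 1)) u.2 = c • f' (Pi.single i 1) := by
    intro u hu
    induction hu using Submodule.span_induction with
    | zero => exact ⟨0, by simp, by simp⟩
    | add x y _ _ hx hy =>
      obtain ⟨c, h1, h2⟩ := hx
      obtain ⟨d, h3, h4⟩ := hy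
      refine ⟨c + d, ?_, ?_⟩
      · rw [Prod.fst_add, map_add, h1, h3, add_smul]
      · rw [Prod.snd_add, map_add, h2, h4, add_smul]
    | smul a x _ hx =>
      obtain ⟨c, h1, h2⟩ := hx
      refine ⟨a * c, ?_, ?_⟩
      · rw [Prod.smul_fst, map_smul, h1, smul_smul]
      · rw [Prod.smul_snd, map_smul, h2, smul_smul]
    | mem x hx =>
      obtain ⟨x, rfl⟩ := hx
      dsimp only
      by_cases hx : TT lam x = TT lam (Pi.single i 1)
      · have h6 := hf.r1 x
        have h7 := hf'.r1 x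
        rw [hx] at h6 h7
        rw [Pj_of_mem h6, Pj_of_mem h7]
        rcases TT_single_eq hlam hx with rfl | rfl
        · exact ⟨1, by simp, by simp⟩
        · exact ⟨ε, he _, he' _⟩
      · refine ⟨0, ?_, ?_⟩
        · rw [Pj_of_mem_ne hψ h2 (TT_mem _ _) (TT_mem _ _) (Ne.symm hx) (hf.r1 x), zero_smul]
        · rw [Pj_of_mem_ne hψ h2 (TT_mem _ _) (TT_mem _ _) (Ne.symm hx) (hf'.r1 x), zero_smul]
  obtain ⟨c, h6, h7⟩ := h5 _ h4
  rw [map_zero] at h6
  have hc : c = 0 := by
    rcases smul_eq_zero.mp h6.symm with h8 | h8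
    · exact h8
    · exact absurd h8 h0
  rw [hc, zero_smul] at h7
  apply h0'
  rw [← Pj_of_mem (hf'.r1 (Pi.single i 1))]
  exact h7

/-- **Uniqueness**: two irreducible representations with families of the same parity have equal
characters. -/
theorem char_eq_of_fam {lam : F} {f : (Fin n → F) → V} {f' : (Fin n → F) → V'}
    (hψ : ψ.IsPrimitive) (h2 : (2 : F) ≠ 0) (hlam : lam ≠ 0) (i : Fin n)
    (hf : Fam ρ ψ lam f) (hf' : Fam σ ψ lam f') (hρ : ρ.IsIrreducible) (hσ : σ.IsIrreducible)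
    (h0 : f (Pi.single i 1) ≠ 0) (h0' : f' (Pi.single i 1) ≠ 0) (ε : 𝕜)
    (he : ∀ x, f (-x) = ε • f x) (he' : ∀ x, f' (-x) = ε • f' x) :
    ρ.character = σ.character := by
  set U := Submodule.span 𝕜 (Set.range fun x => (f x, f' x)) with hU
  have hUswap : ∀ v w, (v, w) ∈ U ↔ (w, v) ∈ Submodule.span 𝕜 (Set.range fun x => (f' x, f x)) := by
    intro v w
    have h3 : Submodule.span 𝕜 (Set.range fun x => (f' x, f x)) =
        U.map (LinearEquiv.prodComm 𝕜 V V').toLinearMap := by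
      rw [hU, Submodule.map_span, ← Set.range_comp]
      rfl
    rw [h3]
    constructor
    · intro h; exact ⟨(v, w), h, rfl⟩
    · rintro ⟨⟨a, b⟩, hab, h⟩
      simp only [LinearEquiv.coe_coe, LinearEquiv.prodComm_apply, Prod.swap_prod_mk,
        Prod.mk.injEq] at h
      obtain ⟨rfl, rfl⟩ := h
      exact hab
  have hk1 : ∀ w : V', ((0 : V), w) ∈ U → w = 0 :=
    uniq_aux hψ h2 hlam i hf hf' hσ h0 h0' ε he he'
  have hk2 : ∀ v : V, (v, (0 : V')) ∈ U → v = 0 := by
    intro v hv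
    exact uniq_aux hψ h2 hlam i hf' hf hρ h0' h0 ε he' he v ((hUswap v 0).mp hv)
  let p1 : U →ₗ[𝕜] V := (LinearMap.fst 𝕜 V V').comp U.subtype
  let p2 : U →ₗ[𝕜] V' := (LinearMap.snd 𝕜 V V').comp U.subtype
  have hp1i : Function.Injective p1 := by
    rw [← LinearMap.ker_eq_bot, LinearMap.ker_eq_bot']
    rintro ⟨⟨a, b⟩, hab⟩ h
    have ha : a = 0 := h
    subst ha
    have := hk1 b hab
    subst this
    rfl
  have hp2i : Function.Injective p2 := by
    rw [← LinearMap.ker_eq_bot, LinearMap.ker_eq_bot']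
    rintro ⟨⟨a, b⟩, hab⟩ h
    have ha : b = 0 := h
    subst ha
    have := hk2 a hab
    subst this
    rfl
  have hmem : ∀ x, (f x, f' x) ∈ U := fun x => Submodule.subset_span ⟨x, rfl⟩
  have hp1s : Function.Surjective p1 := by
    rw [← LinearMap.range_eq_top]
    apply eq_top_of_irr hρ _ (v := f (Pi.single i 1)) _
      (LinearMap.mem_range.mpr ⟨⟨_, hmem (Pi.single i 1)⟩, rfl⟩) h0
    rintro g _ ⟨u, rfl⟩
    exact ⟨⟨_, fam_inv hψ h2 hlam i hf hf' g u.1 u.2⟩, rfl⟩
  have hp2s : Function.Surjective p2 := by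
    rw [← LinearMap.range_eq_top]
    apply eq_top_of_irr hσ _ (v := f' (Pi.single i 1)) _
      (LinearMap.mem_range.mpr ⟨⟨_, hmem (Pi.single i 1)⟩, rfl⟩) h0'
    rintro g _ ⟨u, rfl⟩
    exact ⟨⟨_, fam_inv hψ h2 hlam i hf hf' g u.1 u.2⟩, rfl⟩
  let e1 := LinearEquiv.ofBijective p1 ⟨hp1i, hp1s⟩
  let e2 := LinearEquiv.ofBijective p2 ⟨hp2i, hp2s⟩
  have hcomm : ∀ g, (e1.symm.trans e2).toLinearMap ∘ₗ ρ g = σ g ∘ₗ (e1.symm.trans e2).toLinearMap := by
    intro g
    ext v
    obtain ⟨u, rfl⟩ := e1.surjective v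
    have h3 : ρ g (e1 u) = e1 ⟨_, fam_inv hψ h2 hlam i hf hf' g u.1 u.2⟩ := rfl
    simp only [LinearMap.comp_apply, LinearEquiv.coe_coe, LinearEquiv.trans_apply]
    rw [h3, LinearEquiv.symm_apply_apply, LinearEquiv.symm_apply_apply]
    rfl
  exact char_iso (Representation.Equiv.mk (e1.symm.trans e2) hcomm)

end Cfsg.Agent.H434.WK
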